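import Cfsg.Agent.H38.Ree.Model

/-!
`²G₂(q)`: order, the fixed torus, cells, Sylow three-subgroups.
-/
set_option autoImplicit false
set_option maxRecDepth 100000

namespace Cfsg.Agent.H38.Ree

open Cfsg.Lie Cfsg.Agent.H37.RootSys Cfsg.Agent.H37.Twist Cfsg.Agent.H37.NormalForm

variable {K : Type*} [Field K]

theorem sysU_mem {x : ↥(chevG2.group K)} :
    x ∈ (Q K).sys.U ↔ (x : GL chevG2.Idx K) ∈ chevG2.posUnipotent K := by
  show x ∈ (Q K).amb.U ↔ _
  rw [(Q K).amb_U, Subgroup.mem_subgroupOf]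

namespace Par

variable [Fintype K] (P : Par K)
include P

theorem TG_iff {g : ↥(chevG2.group K)} : g ∈ P.TG ↔ P.endo.σ g = g := by
  rw [show P.TG = fixedPts P.endo.σ from P.model.fixed_eq]
  rfl

theorem mem_T {g : ↥(chevG2.group K)} :
    (g : GL chevG2.Idx K) ∈ twistedG2 K P.e ↔ P.endo.σ g = g :=
  Subgroup.mem_subgroupOf.symm.trans P.TG_iff

/-- Fixed elements lie in `B` or in the big cell, with fixed unipotent parts. -/
theorem cells {g : ↥(chevG2.group K)} (hg : P.endo.σ g = g) :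
    (∃ u h, u ∈ (Q K).sys.U ∧ P.endo.σ u = u ∧ h ∈ (Q K).sys.H ∧ P.endo.σ h = h ∧ g = u * h) ∨
    ∃ u h v, u ∈ (Q K).sys.U ∧ P.endo.σ u = u ∧ h ∈ (Q K).sys.H ∧
      v ∈ (Q K).sys.U ∧ P.endo.σ v = v ∧ g = u * h * (Q K).sys.rep (w0 K) * v := by
  obtain ⟨u, hu, h, hh, w, v, hv, e⟩ := (Q K).amb.toNormalForm.exists_eq g
  obtain ⟨l, hl, el⟩ := P.endo.σ_rep w
  have e1 : P.endo.σ u * (P.endo.σ h * l) * (Q K).sys.rep (P.endo.s.tau w) * P.endo.σ v = g := by
    conv_rhs => rw [← hg, e]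
    show _ = P.endo.σ (u * h * (Q K).sys.rep w * v)
    rw [map_mul, map_mul, map_mul, el]
    group
  obtain ⟨h1, h2, h3, h4⟩ := (Q K).amb.toNormalForm.unique (P.endo.σ_U hu) hu
    (mul_mem (P.endo.σ_h hh) hl) hh (P.endo.σ_Uw hv) hv (e1.trans e)
  rcases (P.tau_iff w).1 h1 with rfl | rfl
  · left
    have hv1 : v = 1 := by
      have : v ∈ (Q K).sys.Uw 1 := hv
      rwa [(Q K).sys.Uw_one, Subgroup.mem_bot] at this
    have eg : g = u * h := by
      rw [e, hv1]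
      show u * h * (Q K).sys.rep 1 * 1 = _
      rw [(Q K).sys.rep_one, mul_one, mul_one]
    refine ⟨u, h, hu, h2, hh, ?_, eg⟩
    rw [eg, map_mul, h2] at hg
    exact mul_left_cancel hg
  · exact Or.inr ⟨u, h, v, hu, h2, hh, (Q K).sys.Uw_le _ hv, h4, e⟩

/-- The fixed torus as an image of `Kˣ`. -/
def hT : Kˣ →* ↥(chevG2.diagonalSubgroup K ⊓ twistedG2 K P.e) :=
  ((chevG2.group K).subtype.comp P.hp).codRestrict _ fun y =>
    ⟨P.hp_mem y, P.mem_T.2 (P.σ_hp y)⟩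

theorem hT_bijective : Function.Bijective P.hT := by
  constructor
  · intro a b h
    exact P.hp_inj (Subtype.ext (congrArg
      (fun x : ↥(chevG2.diagonalSubgroup K ⊓ twistedG2 K P.e) => (x : GL chevG2.Idx K)) h))
  · rintro ⟨g, hd, ht⟩
    obtain ⟨y, hy⟩ := P.exists_hp (h := ⟨g, P.T_le ht⟩) hd (P.mem_T.1 ht)
    exact ⟨y, Subtype.ext (show ((P.hp y : ↥(chevG2.group K)) : GL chevG2.Idx K) = g by rw [hy])⟩

theorem card_H : Nat.card ↥(chevG2.diagonalSubgroup K ⊓ twistedG2 K P.e) = Nat.card K - 1 := by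
  classical
  rw [← Nat.card_eq_of_bijective P.hT P.hT_bijective, Nat.card_eq_fintype_card,
    Fintype.card_units, Nat.card_eq_fintype_card]

theorem card_U : Nat.card ↥(chevG2.posUnipotent K ⊓ twistedG2 K P.e) = Nat.card K ^ 3 := by
  refine Nat.pow_left_injective two_ne_zero ?_
  show _ ^ 2 = (Nat.card K ^ 3) ^ 2
  rw [← pow_mul]
  exact P.model.card_U_inf.trans (by rw [show chevG2.nroots / 2 = 3 * 2 from rfl])

theorem card_tw_Uw :
    Nat.card (P.model.tw.Uw (Multiplicative.ofAdd 1)) = Nat.card K ^ 3 := by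
  refine Nat.pow_left_injective two_ne_zero ?_
  show _ ^ 2 = (Nat.card K ^ 3) ^ 2
  rw [← pow_mul]
  refine (P.model.card_tw_Uw _).trans ?_
  rw [show P.fold.ι (Multiplicative.ofAdd 1) = w0 K from ι_gen, P.inv_w0]

theorem card_T : Nat.card ↥(twistedG2 K P.e)
    = Nat.card K ^ 3 * (Nat.card K - 1) * (1 + Nat.card K ^ 3) := by
  classical
  haveI : Finite ↥P.model.T := Subtype.finite
  have h := P.model.tw.toNormalForm.card_eq
  have hU : Nat.card P.model.tw.U = Nat.card K ^ 3 := by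
    rw [P.model.tw_U, ← P.model.card_inf_eq]; exact P.card_U
  have hH : Nat.card P.model.tw.H = Nat.card K - 1 := by
    rw [P.model.tw_H, ← P.model.card_inf_eq]; exact P.card_H
  have huniv : (Finset.univ : Finset (Multiplicative (ZMod 2))) =
      {1, Multiplicative.ofAdd 1} := by decide
  have h1 : Nat.card (P.model.tw.Uw 1) = 1 := by
    refine Nat.pow_left_injective two_ne_zero ?_
    show _ ^ 2 = 1 ^ 2
    rw [one_pow]
    refine (P.model.card_tw_Uw 1).trans ?_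
    rw [map_one, (Q K).X.good.inv_one, pow_zero]
  refine h.trans ?_
  rw [hU, hH, huniv, Finset.sum_pair (by decide)]
  exact congrArg _ (congrArg₂ (· + ·) h1 P.card_tw_Uw)

theorem card_pow_three : ∃ n, 0 < n ∧ Nat.card K = 3 ^ n := by
  haveI := P.char
  obtain ⟨n, -, hn⟩ := FiniteField.card K 3
  exact ⟨n, n.pos, by rw [Nat.card_eq_fintype_card, hn]⟩

theorem not_dvd_cofactor : ¬ 3 ∣ (Nat.card K - 1) * (1 + Nat.card K ^ 3) := by
  obtain ⟨n, hn, e⟩ := P.card_pow_three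
  obtain ⟨k, rfl⟩ : ∃ k, n = k + 1 := ⟨n - 1, by omega⟩
  have h3 : 3 ∣ Nat.card K := e ▸ dvd_pow_self 3 (by omega)
  have h0 : 0 < Nat.card K := Nat.card_pos
  intro h
  rcases Nat.prime_three.dvd_mul.1 h with h | h
  · omega
  · have : 3 ∣ Nat.card K ^ 3 := dvd_pow h3 (by omega)
    omega

/-- `U ∩ T` inside `T`. -/
abbrev UT : Subgroup ↥(twistedG2 K P.e) := (chevG2.posUnipotent K).subgroupOf (twistedG2 K P.e)

theorem card_UT : Nat.card P.UT = Nat.card K ^ 3 :=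
  (P.model.card_inf_eq _).symm.trans P.card_U

theorem exists_sylow : ∃ S : Sylow 3 ↥(twistedG2 K P.e), (S : Subgroup _) = P.UT := by
  haveI : Fact (Nat.Prime 3) := ⟨Nat.prime_three⟩
  obtain ⟨n, -, e⟩ := P.card_pow_three
  haveI : Finite ↥(twistedG2 K P.e) := Subtype.finite
  refine ⟨Sylow.ofCard P.UT ?_, rfl⟩
  rw [P.card_UT, P.card_T, mul_assoc, Nat.factorization_mul (pow_ne_zero _ Nat.card_pos.ne')
    (fun h => P.not_dvd_cofactor (by rw [h]; exact dvd_zero 3)), Finsupp.coe_add, Pi.add_apply,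
    Nat.factorization_eq_zero_of_not_dvd P.not_dvd_cofactor, add_zero, e, ← pow_mul,
    Nat.Prime.factorization_pow Nat.prime_three, Finsupp.single_eq_same]

/-- An element outside `B` moves `U` to a subgroup meeting it trivially. -/
theorem big_cell_TI {u h v x : ↥(chevG2.group K)} (hu : u ∈ (Q K).sys.U) (hh : h ∈ (Q K).sys.H)
    (hv : v ∈ (Q K).sys.U) (hx : x ∈ (Q K).sys.U)
    (hgx : u * h * (Q K).sys.rep (w0 K) * v * x * (u * h * (Q K).sys.rep (w0 K) * v)⁻¹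
      ∈ (Q K).sys.U) : x = 1 := by
  set n := (Q K).sys.rep (w0 K)
  set x' := v * x * v⁻¹ with hx'
  have hx'U : x' ∈ (Q K).sys.U := mul_mem (mul_mem hv hx) (inv_mem hv)
  set g := u * h * n * v with hgdef
  have h1 : n * x' * n⁻¹ = h⁻¹ * (u⁻¹ * (g * x * g⁻¹) * u) * h := by
    rw [hgdef, hx']; group
  have h2 : n * x' * n⁻¹ ∈ (Q K).sys.U := by
    rw [h1]
    have h3 : h⁻¹ * (u⁻¹ * (g * x * g⁻¹) * u) * h⁻¹⁻¹ ∈ (Q K).sys.U := by
      refine conj_mem_XS (fun r hr t => ?_) (mul_mem (mul_mem (inv_mem hu) hgx) hu)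
      obtain ⟨h1', h2'⟩ := mem_posSet.1 (Finset.mem_coe.1 hr)
      obtain ⟨t', e'⟩ := (Q K).sys.h_conj h⁻¹ (inv_mem hh) r h1' t
      rw [e']
      exact x_mem_XS hr _
    rwa [inv_inv] at h3
  have h4 : n * x' * n⁻¹ = 1 := neg_cell (rep_conj_U hx'U) h2 (one_mem _) (mul_one _).symm
  have h5 : x' = 1 := by
    have : x' = n⁻¹ * (n * x' * n⁻¹) * n := by group
    rw [this, h4]; group
  have : x = v⁻¹ * x' * v := by rw [hx']; group
  rw [this, h5]; group

theorem conj_UT_eq {g : ↥(twistedG2 K P.e)} {x : ↥(twistedG2 K P.e)} (hx : x ∈ P.UT) (hx1 : x ≠ 1)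
    (hgx : g * x * g⁻¹ ∈ P.UT) : P.UT.map (MulAut.conj g).toMonoidHom = P.UT := by
  set g' : ↥(chevG2.group K) := ⟨g, P.T_le g.2⟩
  set x' : ↥(chevG2.group K) := ⟨x, P.T_le x.2⟩
  rcases P.cells (P.mem_T.1 (show (g' : GL chevG2.Idx K) ∈ twistedG2 K P.e from g.2)) with
    ⟨u, h, hu, -, hh, -, e⟩ | ⟨u, h, v, hu, -, hh, hv, -, e⟩
  · refine Subgroup.eq_of_le_of_card_ge ?_
      (Nat.card_congr (Subgroup.equivMapOfInjective _ _
        (MulAut.conj g).injective).toEquiv).le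
    rintro _ ⟨y, hy, rfl⟩
    set y' : ↥(chevG2.group K) := ⟨y, P.T_le y.2⟩
    have hy' : y' ∈ (Q K).sys.U := sysU_mem.2 hy
    have hc : h * y' * h⁻¹ ∈ (Q K).sys.U := by
      refine conj_mem_XS (fun r hr t => ?_) hy'
      obtain ⟨t', e'⟩ := (Q K).sys.h_conj h hh r (mem_posSet.1 (Finset.mem_coe.1 hr)).1 t
      rw [e']
      exact x_mem_XS hr _
    have hm : g' * y' * g'⁻¹ ∈ (Q K).sys.U := by
      rw [e, show u * h * y' * (u * h)⁻¹ = u * (h * y' * h⁻¹) * u⁻¹ by group]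
      exact mul_mem (mul_mem hu hc) (inv_mem hu)
    exact sysU_mem.1 hm
  · exfalso
    refine hx1 (Subtype.ext ?_)
    have hm : g' * x' * g'⁻¹ ∈ (Q K).sys.U := sysU_mem.2 hgx
    rw [e] at hm
    have h5 : x' = 1 := P.big_cell_TI hu hh hv
      (sysU_mem.2 (show (x' : GL chevG2.Idx K) ∈ chevG2.posUnipotent K from hx)) hm
    have h6 := congrArg Subtype.val h5
    exact h6

theorem sylow_TI (S R : Sylow 3 ↥(twistedG2 K P.e)) (h : S ≠ R) :
    (S : Subgroup ↥(twistedG2 K P.e)) ⊓ R = ⊥ := by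
  haveI : Fact (Nat.Prime 3) := ⟨Nat.prime_three⟩
  haveI : Finite ↥(twistedG2 K P.e) := Subtype.finite
  obtain ⟨S0, hS0⟩ := P.exists_sylow
  obtain ⟨a, rfl⟩ := MulAction.exists_smul_eq ↥(twistedG2 K P.e) S0 S
  obtain ⟨b, rfl⟩ := MulAction.exists_smul_eq ↥(twistedG2 K P.e) S0 R
  rw [eq_bot_iff]
  rintro z ⟨hza, hzb⟩
  rw [Subgroup.mem_bot]
  by_contra hz
  have hmem : ∀ c : ↥(twistedG2 K P.e), ((c • S0 : Sylow 3 _) : Subgroup _)
      = P.UT.map (MulAut.conj c).toMonoidHom := fun c => by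
    rw [Sylow.coe_subgroup_smul, hS0]; rfl
  obtain ⟨x, hx, ex⟩ : z ∈ P.UT.map (MulAut.conj a).toMonoidHom := hmem a ▸ hza
  obtain ⟨y, hy, ey⟩ : z ∈ P.UT.map (MulAut.conj b).toMonoidHom := hmem b ▸ hzb
  have ex' : a * x * a⁻¹ = z := ex
  have ey' : b * y * b⁻¹ = z := ey
  have hgx : (b⁻¹ * a) * x * (b⁻¹ * a)⁻¹ ∈ P.UT := by
    have : (b⁻¹ * a) * x * (b⁻¹ * a)⁻¹ = y := by
      rw [show (b⁻¹ * a) * x * (b⁻¹ * a)⁻¹ = b⁻¹ * (a * x * a⁻¹) * b by group, ex', ← ey']; group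
    rw [this]; exact hy
  have hx1 : x ≠ 1 := fun h1 => hz (by rw [← ex', h1, mul_one, mul_inv_cancel])
  have hfix := P.conj_UT_eq hx hx1 hgx
  refine h (Sylow.ext ?_)
  rw [hmem, hmem]
  conv_rhs => rw [← hfix, Subgroup.map_map]
  congr 1
  ext y
  simp [MulAut.conj_apply, mul_assoc]

theorem units_pow_half (y : Kˣ) :
    ∃ k, Odd k ∧ Nat.card K - 1 = 2 * k ∧ (Odd (orderOf y) ↔ y ^ k = 1) := by
  classical
  obtain ⟨a, ha⟩ := P.odd
  refine ⟨3 * (2 * (a ^ 2 + a)) + 1, ⟨3 * (a ^ 2 + a), by ring⟩, ?_, ?_⟩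
  · rw [P.card_nat, ha]; ring_nf; omega
  · constructor
    · intro h
      refine orderOf_dvd_iff_pow_eq_one.1 ((Nat.coprime_two_right.2 h).dvd_of_dvd_mul_left ?_)
      have hd := orderOf_dvd_natCard y
      rw [Nat.card_eq_fintype_card, Fintype.card_units, ← Nat.card_eq_fintype_card,
        P.card_nat, ha] at hd
      refine hd.trans (dvd_of_eq ?_)
      ring_nf; omega
    · intro h
      exact Odd.of_dvd_nat ⟨3 * (a ^ 2 + a), by ring⟩ (orderOf_dvd_of_pow_eq_one h)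

theorem card_odd : 2 * Nat.card {h : ↥(chevG2.diagonalSubgroup K ⊓ twistedG2 K P.e) //
    Odd (orderOf h)} = Nat.card K - 1 := by
  classical
  obtain ⟨k, -, hk, -⟩ := P.units_pow_half 1
  have e : Nat.card {h : ↥(chevG2.diagonalSubgroup K ⊓ twistedG2 K P.e) // Odd (orderOf h)}
      = Nat.card (powMonoidHom k : Kˣ →* Kˣ).ker := by
    refine (Nat.card_congr ((Equiv.ofBijective P.hT P.hT_bijective).subtypeEquiv fun y => ?_)).symm
    obtain ⟨k', -, hk', hiff⟩ := P.units_pow_half y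
    obtain rfl : k' = k := by omega
    show y ∈ (powMonoidHom k' : Kˣ →* Kˣ).ker ↔ Odd (orderOf (P.hT y))
    rw [orderOf_injective P.hT P.hT_bijective.1, MonoidHom.mem_ker, powMonoidHom_apply, hiff]
  rw [e, IsCyclic.card_powMonoidHom_ker, Nat.card_eq_fintype_card, Fintype.card_units,
    ← Nat.card_eq_fintype_card, hk, Nat.gcd_mul_left_left]

theorem χ6 (y : Kˣ) : P.χ 6 y = ((y ^ P.e) ^ 3)⁻¹ * y ^ 2 := by
  rw [χ, show chevG2.cartan 0 6 = -3 by decide +kernel,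
    show chevG2.cartan 1 6 = 2 by decide +kernel, zpow_neg]
  rfl

theorem χ8 (y : Kˣ) : P.χ 8 y = (y ^ P.e)⁻¹ * y := by
  rw [χ, show chevG2.cartan 0 8 = -1 by decide +kernel,
    show chevG2.cartan 1 8 = 1 by decide +kernel, zpow_neg_one, zpow_one]

theorem χ9 (y : Kˣ) : P.χ 9 y = y ^ P.e := by
  rw [χ, show chevG2.cartan 0 9 = 1 by decide +kernel,
    show chevG2.cartan 1 9 = 0 by decide +kernel, zpow_one, zpow_zero, mul_one]

theorem χ9_eq_one {y : Kˣ} (h : P.χ 9 y = 1) : y = 1 := by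
  rw [χ9] at h
  rw [← P.units_ti_th y, h, one_pow]

theorem χ6_eq_one {y : Kˣ} (h : P.χ 6 y = 1) : y = 1 := by
  rw [χ6, inv_mul_eq_one, ← pow_mul, mul_comm] at h
  have h2 : y = (y ^ P.e) ^ 2 := by
    conv_lhs => rw [← P.units_th_ti y, h]
    rw [← pow_mul, ← pow_mul, mul_comm]
  have h3 : y ^ 2 = (y ^ P.e) ^ 3 := by rw [← h, ← pow_mul, mul_comm]
  rw [h2, ← pow_mul] at h3
  have h4 : y ^ P.e = 1 := by
    have : (y ^ P.e) ^ 3 * y ^ P.e = (y ^ P.e) ^ 3 * 1 := by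
      rw [← pow_succ, mul_one, h3]
      conv_rhs => rw [h2]
    exact mul_left_cancel this
  rw [← P.units_ti_th y, h4, one_pow]

theorem χ8_sq {y : Kˣ} (h : P.χ 8 y = 1) : y ^ 2 = 1 := by
  rw [χ8, inv_mul_eq_one] at h
  have h2 : y ^ (3 * P.e) = y := by
    have := P.units_ti_th y
    rwa [h] at this
  rw [mul_comm, pow_mul, h] at h2
  refine mul_right_cancel (b := y) ?_
  rw [one_mul, ← pow_succ, h2]

/-- A nontrivial element of odd order of the fixed torus acts without fixed points. -/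
theorem hp_commute {y : Kˣ} (hy : y ≠ 1) {a c d : K}
    (hc : P.hp y * P.U1 a c d = P.U1 a c d * P.hp y) :
    a = 0 ∧ d = 0 ∧ (y ^ 2 ≠ 1 → c = 0) := by
  have e := P.hp_conj_U1 y a c d
  rw [hc, mul_inv_cancel_right] at e
  obtain ⟨e1, e2, e3⟩ := P.U1_inj e
  have key : ∀ (u : Kˣ) (x : K), x = (u : K) * x → u ≠ 1 → x = 0 := fun u x hx hu => by
    by_contra h0
    exact hu (Units.ext (mul_right_cancel₀ h0 (by rw [← hx, Units.val_one, one_mul])))
  exact ⟨key _ _ e1 fun h => hy (P.χ6_eq_one h), key _ _ e3 fun h => hy (P.χ9_eq_one h),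
    fun h2 => key _ _ e2 fun h => h2 (P.χ8_sq h)⟩

theorem fpf (g : GL chevG2.Idx K) (hg : g ∈ chevG2.diagonalSubgroup K ⊓ twistedG2 K P.e)
    (h1 : g ≠ 1) (ho : Odd (orderOf g)) :
    (chevG2.posUnipotent K ⊓ twistedG2 K P.e) ⊓ Subgroup.centralizer {g} = ⊥ := by
  rw [eq_bot_iff]
  rintro u ⟨⟨hu, huT⟩, hc⟩
  obtain ⟨y, hy⟩ := P.exists_hp (h := ⟨g, P.T_le hg.2⟩) hg.1 (P.mem_T.1 hg.2)
  obtain ⟨a, c, d, e⟩ := (P.fixed_iff (v := ⟨u, P.T_le huT⟩) (sysU_mem.2 hu)).1 (P.mem_T.1 huT)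
  have hy1 : y ≠ 1 := fun h => h1 (by
    have := congrArg Subtype.val hy
    rw [h, map_one] at this
    exact this.symm)
  have hc' : P.hp y * P.U1 a c d = P.U1 a c d * P.hp y := by
    rw [hy, ← e]
    exact Subtype.ext (Subgroup.mem_centralizer_singleton_iff.1 hc).symm
  obtain ⟨rfl, rfl, h2⟩ := P.hp_commute hy1 hc'
  have hy2 : y ^ 2 ≠ 1 := fun h => hy1 (orderOf_eq_one_iff.1 (by
    have ho' : Odd (orderOf y) := by
      rwa [← orderOf_injective ((chevG2.group K).subtype.comp P.hp)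
        (fun a b h => P.hp_inj (Subtype.ext h)) y,
        show ((chevG2.group K).subtype.comp P.hp) y = g from congrArg Subtype.val hy]
    rcases (Nat.dvd_prime Nat.prime_two).1 (orderOf_dvd_of_pow_eq_one h) with h' | h'
    · exact h'
    · rw [h'] at ho'; exact absurd ho' (by decide)))
  rw [Subgroup.mem_bot]
  have := congrArg Subtype.val e
  rw [h2 hy2, P.U1_zero] at this
  exact this

theorem U1_cube (a c d : K) :
    P.U1 a c d * P.U1 a c d * P.U1 a c d = P.U1 0 0 (-(P.th a ^ 2 * a)) := by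
  rw [U1_mul, U1_mul, P.th_add]
  congr 1
  · linear_combination a * P.three_eq
  · linear_combination (c - P.th a * a) * P.three_eq
  · linear_combination (d - P.th a * c) * P.three_eq

theorem order_three_iff (a c d : K) :
    orderOf (P.U1 a c d) = 3 ↔ a = 0 ∧ (c ≠ 0 ∨ d ≠ 0) := by
  haveI : Fact (Nat.Prime 3) := ⟨Nat.prime_three⟩
  rw [orderOf_eq_prime_iff, pow_three, ← mul_assoc, P.U1_cube, P.U1_eq_one_iff, ne_eq,
    P.U1_eq_one_iff, neg_eq_zero]
  simp only [true_and, mul_eq_zero, pow_eq_zero_iff two_ne_zero, th, pow_eq_zero_iff P.e_pos.ne',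
    or_self]
  tauto

theorem card_order_three :
    Nat.card {u : ↥(chevG2.posUnipotent K ⊓ twistedG2 K P.e) // orderOf u = 3}
      = Nat.card K ^ 2 - 1 := by
  classical
  let g : {p : K × K // p ≠ 0} →
      {u : ↥(chevG2.posUnipotent K ⊓ twistedG2 K P.e) // orderOf u = 3} := fun p =>
    ⟨⟨P.U1 0 p.1.1 p.1.2, sysU_mem.1 (P.U1_mem _ _ _), P.mem_T.2 (P.σ_U1 _ _ _)⟩, by
      rw [← Subgroup.orderOf_coe]
      show orderOf ((P.U1 0 p.1.1 p.1.2 : ↥(chevG2.group K)) : GL chevG2.Idx K) = 3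
      rw [Subgroup.orderOf_coe, P.order_three_iff]
      refine ⟨rfl, ?_⟩
      by_contra h
      push Not at h
      exact p.2 (Prod.ext h.1 h.2)⟩
  have hb : Function.Bijective g := by
    constructor
    · intro p q h
      have h' : P.U1 0 p.1.1 p.1.2 = P.U1 0 q.1.1 q.1.2 :=
        Subtype.ext (congrArg (fun x : {u : ↥(chevG2.posUnipotent K ⊓ twistedG2 K P.e) //
          orderOf u = 3} => ((x : ↥(chevG2.posUnipotent K ⊓ twistedG2 K P.e)) :
            GL chevG2.Idx K)) h)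
      obtain ⟨-, h1, h2⟩ := P.U1_inj h'
      exact Subtype.ext (Prod.ext h1 h2)
    · rintro ⟨⟨u, hu, huT⟩, ho⟩
      obtain ⟨a, c, d, e⟩ :=
        (P.fixed_iff (v := ⟨u, P.T_le huT⟩) (sysU_mem.2 hu)).1 (P.mem_T.1 huT)
      rw [← Subgroup.orderOf_coe, show ((⟨u, hu, huT⟩ : ↥(chevG2.posUnipotent K ⊓
        twistedG2 K P.e)) : GL chevG2.Idx K) = (P.U1 a c d : ↥(chevG2.group K)) from
          congrArg Subtype.val e, Subgroup.orderOf_coe, P.order_three_iff] at ho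
      obtain ⟨rfl, h⟩ := ho
      exact ⟨⟨(c, d), fun h0 => by simp_all⟩,
        Subtype.ext (Subtype.ext (congrArg Subtype.val e).symm)⟩
  rw [← Nat.card_eq_of_bijective g hb, Nat.card_eq_fintype_card, Fintype.card_subtype_compl,
    Fintype.card_subtype_eq, Fintype.card_prod, Nat.card_eq_fintype_card, sq]

end Par

end Cfsg.Agent.H38.Ree
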