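import Cfsg.Agent.H38.Ree.Group

/-!
`²G₂(q)` is perfect for `q > 3`, hence simple.
-/
set_option autoImplicit false
set_option maxRecDepth 100000

namespace Cfsg.Agent.H38.Ree

open Cfsg.Lie Cfsg.Agent.H37.RootSys Cfsg.Agent.H37.Twist Cfsg.Agent.H37.NormalForm
open scoped commutatorElement

variable {K : Type*} [Field K]

theorem h_conj_U {h u : ↥(chevG2.group K)} (hh : h ∈ (Q K).sys.H) (hu : u ∈ (Q K).sys.U) :
    h * u * h⁻¹ ∈ (Q K).sys.U := by
  refine conj_mem_XS (fun r hr t => ?_) hu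
  obtain ⟨t', e'⟩ := (Q K).sys.h_conj h hh r (mem_posSet.1 (Finset.mem_coe.1 hr)).1 t
  rw [e']
  exact x_mem_XS hr _

namespace Par

variable [Fintype K] (P : Par K)
include P

theorem exists_torus (hq : 4 < Nat.card K) : ∃ y : Kˣ, y ^ 2 ≠ 1 := by
  classical
  by_contra hcon
  push Not at hcon
  have h : (powMonoidHom 2 : Kˣ →* Kˣ).ker = ⊤ :=
    eq_top_iff.2 fun y _ => MonoidHom.mem_ker.2 (hcon y)
  have hc := IsCyclic.card_powMonoidHom_ker Kˣ 2
  rw [h, Subgroup.card_top, Nat.card_eq_fintype_card, Fintype.card_units,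
    ← Nat.card_eq_fintype_card] at hc
  have := Nat.le_of_dvd (by norm_num) (Nat.gcd_dvd_right (Nat.card K - 1) 2)
  omega

theorem U1_mem_commutator {y : Kˣ} (hy : y ^ 2 ≠ 1) (a c d : K) :
    P.U1 a c d ∈ ⁅fixedPts P.endo.σ, fixedPts P.endo.σ⁆ := by
  set C := ⁅fixedPts P.endo.σ, fixedPts P.endo.σ⁆
  have hy1 : y ≠ 1 := fun h => hy (by rw [h, one_pow])
  have hne : ∀ r, r = 6 ∨ r = 8 ∨ r = 9 → (P.χ r y : K) - 1 ≠ 0 := by
    intro r hr h
    have h' : P.χ r y = 1 := Units.ext (sub_eq_zero.1 h)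
    rcases hr with rfl | rfl | rfl
    · exact hy1 (P.χ6_eq_one h')
    · exact hy (P.χ8_sq h')
    · exact hy1 (P.χ9_eq_one h')
  have hcomm : ∀ a c d : K, P.hp y * P.U1 a c d * (P.hp y)⁻¹ * (P.U1 a c d)⁻¹ ∈ C := fun a c d =>
    Subgroup.commutator_mem_commutator (show P.hp y ∈ fixedPts P.endo.σ from P.σ_hp y)
      (show P.U1 a c d ∈ fixedPts P.endo.σ from P.σ_U1 a c d)
  have h0 : ∀ c d : K, P.U1 0 c d ∈ C := by
    intro c d
    set c0 := c / ((P.χ 8 y : K) - 1) with hc0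
    set d0 := d / ((P.χ 9 y : K) - 1) with hd0
    have e : P.U1 0 c d * P.U1 0 c0 d0 = P.hp y * P.U1 0 c0 d0 * (P.hp y)⁻¹ := by
      rw [P.hp_conj_U1, P.U1_mul]
      have h8 := hne 8 (by simp)
      have h9 := hne 9 (by simp)
      simp only [P.th_zero, hc0, hd0]
      congr 1
      · ring
      · field_simp; ring
      · field_simp; ring
    rw [show P.U1 0 c d = P.hp y * P.U1 0 c0 d0 * (P.hp y)⁻¹ * (P.U1 0 c0 d0)⁻¹ by
      rw [← e, mul_inv_cancel_right]]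
    exact hcomm 0 c0 d0
  set a0 := a / ((P.χ 6 y : K) - 1) with ha0
  have hg := hcomm a0 0 0
  obtain ⟨x, z, w, eg⟩ : ∃ x z w,
      P.hp y * P.U1 a0 0 0 * (P.hp y)⁻¹ * (P.U1 a0 0 0)⁻¹ = P.U1 x z w :=
    (P.fixed_iff (mul_mem (h_conj_U (P.hp_mem y) (P.U1_mem a0 0 0))
      (inv_mem (P.U1_mem a0 0 0)))).1 (by simp only [map_mul, map_inv, P.σ_hp, P.σ_U1])
  rw [eg] at hg
  have hx : x = a := by
    rw [mul_inv_eq_iff_eq_mul, P.hp_conj_U1, P.U1_mul] at eg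
    obtain ⟨e1, -, -⟩ := P.U1_inj eg
    have h6 := hne 6 (by simp)
    have e2 : x = ((P.χ 6 y : K) - 1) * a0 := by linear_combination -e1
    rw [e2, ha0]
    field_simp
  subst hx
  have e2 : P.U1 x c d = P.U1 x z w * P.U1 0 (c - z) (d - w) := by
    rw [P.U1_mul, P.th_zero]
    congr 1 <;> ring
  rw [e2]
  exact mul_mem hg (h0 _ _)

theorem perfect (hq : 4 < Nat.card K) : commutator ↥(twistedG2 K P.e) = ⊤ := by
  obtain ⟨y, hy⟩ := P.exists_torus hq
  refine P.model.commutator_eq_top ?_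
  obtain ⟨h0, hh0, hm⟩ := P.n_mem
  set n := (Q K).sys.rep (w0 K)
  have hn : P.endo.σ (h0 * n) = h0 * n := P.TG_iff.1 hm
  intro g hg
  have hgT : (g : GL chevG2.Idx K) ∈ twistedG2 K P.e := P.mem_T.2 hg
  rw [P.T_eq] at hgT
  obtain ⟨g', hg', e⟩ := hgT
  rw [← Subtype.ext (a1 := g') (a2 := g) e]
  refine (Subgroup.closure_le _).2 ?_ hg'
  rintro x ⟨a, c, d, rfl | rfl⟩
  · exact P.U1_mem_commutator hy a c d
  · set u := (h0 * n)⁻¹ * P.V1 a c d * (h0 * n) with hu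
    have huU : u ∈ (Q K).sys.U := by
      have hneg : h0⁻¹ * P.V1 a c d * h0⁻¹⁻¹ ∈
          XS (Q K).sys.x (↑(negSet chevG2) : Set ℕ) := by
        refine conj_mem_XS (fun r hr t => ?_) (P.V1_neg a c d)
        obtain ⟨t', e'⟩ :=
          (Q K).sys.h_conj h0⁻¹ (inv_mem hh0) r (mem_negSet.1 (Finset.mem_coe.1 hr)).1 t
        rw [e']
        exact x_mem_XS hr _
      have h2 := neg_conj hneg
      rwa [show n⁻¹ * (h0⁻¹ * P.V1 a c d * h0⁻¹⁻¹) * n = u by rw [hu]; group] at h2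
    have huf : P.endo.σ u = u := by rw [hu, map_mul, map_mul, map_inv, hn, P.σ_V1]
    obtain ⟨a', c', d', eu⟩ := (P.fixed_iff huU).1 huf
    have hc := P.U1_mem_commutator hy a' c' d'
    rw [← eu] at hc
    have e3 : P.V1 a c d = ⁅h0 * n, u⁆ * u := by rw [commutatorElement_def, hu]; group
    show P.V1 a c d ∈ ⁅fixedPts P.endo.σ, fixedPts P.endo.σ⁆
    rw [e3]
    exact mul_mem (Subgroup.commutator_mem_commutator (show h0 * n ∈ fixedPts P.endo.σ from hn)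
      (show u ∈ fixedPts P.endo.σ from huf)) hc

theorem simple (hq : 4 < Nat.card K) :
    IsSimpleGroup ↥(twistedG2 K P.e) ∧ ¬ IsMulCommutative ↥(twistedG2 K P.e) := by
  refine P.model.simple P.faith ?_ (P.perfect hq)
  intro J hJ hne hne'
  exfalso
  obtain ⟨j, hj⟩ := hne
  obtain ⟨t, ⟨i, rfl⟩, ht⟩ := hne'
  obtain ⟨i', hi'⟩ := hJ hj
  exact ht (by
    have : P.fold.gens i = P.fold.gens i' := rfl
    rw [this, hi']; exact hj)

end Par

theorem four_lt_card [Fintype K] {m : ℕ} (hm : 1 ≤ m)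
    (hK : Fintype.card K = 3 ^ (2 * m + 1)) : 4 < Nat.card K := by
  rw [Nat.card_eq_fintype_card, hK]
  calc 4 < 3 ^ 3 := by norm_num
    _ ≤ _ := Nat.pow_le_pow_right (by norm_num) (by omega)

end Cfsg.Agent.H38.Ree
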