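import Cfsg.Agent.H37.Chev.All
import Cfsg.Agent.H37.Fold.Small
import Cfsg.Agent.H37.Twist.Graph
import Cfsg.Prelude.Def_LieTwisted

/-!
`²G₂(q)`: parameters, the endomorphism of `G₂(K)`.
-/
set_option autoImplicit false
set_option maxRecDepth 100000

namespace Cfsg.Agent.H38.Ree

open Cfsg.Lie Cfsg.Agent.H37.RootSys

/-- The parameters: a field with `3e²` elements and its `e`-th power endomorphism. -/
structure Par (K : Type*) [Field K] [Fintype K] where
  e : ℕ
  φ : K →+* K
  hφ : ∀ t, φ t = t ^ e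
  char : CharP K 3
  card : Fintype.card K = 3 * e ^ 2
  odd : Odd e

variable {K : Type*} [Field K] [Fintype K]

theorem exists_par {m : ℕ} (hK : Fintype.card K = 3 ^ (2 * m + 1)) :
    ∃ P : Par K, P.e = 3 ^ m := by
  haveI : Fact (Nat.Prime 3) := ⟨Nat.prime_three⟩
  haveI : CharP K 3 := charP_of_card_eq_prime_pow hK
  haveI : ExpChar K 3 := ExpChar.prime Nat.prime_three
  refine ⟨⟨3 ^ m, iterateFrobenius K 3 m, fun t => iterateFrobenius_def .., inferInstance, ?_,
    Odd.pow (by decide)⟩, rfl⟩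
  rw [hK, pow_succ, pow_mul']
  ring

namespace Par

variable (P : Par K)
include P

theorem e_pos : 0 < P.e := P.odd.pos

theorem card_nat : Nat.card K = 3 * P.e ^ 2 := by rw [Nat.card_eq_fintype_card, P.card]

theorem pow_card (t : K) : t ^ (3 * P.e ^ 2) = t := by rw [← P.card, FiniteField.pow_card]

theorem three_eq : (3 : K) = 0 := by
  haveI := P.char
  exact_mod_cast CharP.cast_eq_zero K 3

theorem two_eq : (2 : K) = -1 := by linear_combination P.three_eq

theorem one_ne_neg : (-1 : K) ≠ 1 := by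
  intro h
  have : (2 : K) = 0 := by linear_combination -h
  exact one_ne_zero (show (1 : K) = 0 by linear_combination P.three_eq - this)

/-- `θ = (·)^e`. -/
abbrev th (t : K) : K := t ^ P.e

/-- `3θ`, the inverse of `θ`. -/
abbrev ti (t : K) : K := t ^ (3 * P.e)

theorem ti_th (t : K) : P.ti (P.th t) = t := by
  rw [ti, th, ← pow_mul, show P.e * (3 * P.e) = 3 * P.e ^ 2 by ring, P.pow_card]

theorem th_ti (t : K) : P.th (P.ti t) = t := by
  rw [ti, th, ← pow_mul, show 3 * P.e * P.e = 3 * P.e ^ 2 by ring, P.pow_card]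

theorem th_add (a b : K) : P.th (a + b) = P.th a + P.th b := by
  simp only [th, ← P.hφ, map_add]

theorem cube_add (a b : K) : (a + b) ^ 3 = a ^ 3 + b ^ 3 := by
  linear_combination (a ^ 2 * b + a * b ^ 2) * P.three_eq

theorem ti_add (a b : K) : P.ti (a + b) = P.ti a + P.ti b := by
  simp only [ti, mul_comm 3, pow_mul, ← P.hφ, map_add, P.cube_add]

theorem th_neg (a : K) : P.th (-a) = -P.th a := by simp only [th, ← P.hφ, map_neg]

theorem ti_neg (a : K) : P.ti (-a) = -P.ti a := by
  simp only [ti]; exact (Odd.mul (by decide) P.odd).neg_pow a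

theorem th_zero : P.th (0 : K) = 0 := zero_pow P.e_pos.ne'

theorem ti_zero : P.ti (0 : K) = 0 := zero_pow (Nat.mul_ne_zero (by norm_num) P.e_pos.ne')

theorem th_one : P.th (1 : K) = 1 := one_pow _

end Par

/-- The group data. -/
abbrev Q (K : Type*) [Field K] : H37.Chev.Data chevG2 K := H37.Chev.dataG2 K

/-- The symmetry. -/
def tables : H37.Twist.Tables := ⟨H37.Isog.dataG2.rho, [1, 0]⟩

theorem tables_ok : tables.check H37.Weyl.certG2 chevG2 2 = true := by decide +kernel

/-- The checked symmetry. -/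
def sigmaG2 : H37.Twist.Sigma H37.Weyl.goodG2 := ⟨tables, tables_ok⟩

theorem lm_neg : ∀ r, r < 12 →
    H37.Isog.dataG2.lm (chevG2.neg r) = H37.Isog.dataG2.lm r ∧ Odd (H37.Isog.dataG2.lm r) := by
  decide +kernel

theorem G2_simple (h : 3 ≤ Fintype.card K) : IsSimpleGroup ↥(chevG2.group K) := by
  classical
  obtain ⟨a, -, ha⟩ : ∃ a : K, a ∈ Finset.univ ∧ a ∉ ({0, 1} : Finset K) :=
    Finset.exists_mem_notMem_of_card_lt_card (by
      rw [Finset.card_univ]
      exact lt_of_le_of_lt (Finset.card_le_two) (by omega))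
  refine ((Q K).simple ?_).1
  exact H37.Chev.perfect (by simp) fun _ => ⟨a, by simpa [not_or] using ha⟩

namespace Par

variable (P : Par K)
include P

theorem three_le : 3 ≤ Fintype.card K := by
  rw [P.card]
  have := P.e_pos
  nlinarith

theorem idealHom_injective :
    haveI : CharP K H37.Isog.dataG2.p := P.char
    Function.Injective (H37.Isog.goodG2.idealHom (F := K) (Q K).ord) := by
  haveI : CharP K H37.Isog.dataG2.p := P.char
  haveI := G2_simple P.three_le
  rcases ((H37.Isog.goodG2.idealHom (F := K) (Q K).ord).normal_ker).eq_bot_or_eq_top with h | h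
  · exact (MonoidHom.ker_eq_bot_iff _).1 h
  · exfalso
    let g : ↥(chevG2.group K) :=
      ⟨H37.xGL (Q K).ord 7 1, H37.xGL_mem_group (Q K).ord 7 1⟩
    have hg : H37.Isog.goodG2.idealHom (F := K) (Q K).ord g = 1 :=
      MonoidHom.mem_ker.1 (h ▸ Subgroup.mem_top g)
    have h4 : (4 : ℕ) < H37.Isog.dataG2.size := by decide
    have h0 : (0 : ℕ) < H37.Isog.dataG2.size := by decide
    have e := congrArg (fun u : GL (Fin H37.Isog.dataG2.size) K =>
      (u : Matrix (Fin H37.Isog.dataG2.size) (Fin H37.Isog.dataG2.size) K) ⟨4, h4⟩ ⟨0, h0⟩) hg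
    simp only [Units.val_one] at e
    rw [Matrix.one_apply_ne (by simp [Fin.ext_iff])] at e
    have e1 : chevG2.x K 7 1 (H37.Isog.goodG2.split (.inl ⟨4, h4⟩))
        (H37.Isog.goodG2.split (.inl ⟨0, h0⟩)) = 0 := e
    have i4 : H37.Isog.goodG2.split (.inl ⟨4, h4⟩) = (Sum.inr ⟨7, by decide⟩ : chevG2.Idx) :=
      Chevalley.idxNat_inj ((H37.Isog.goodG2.split_inl _).trans rfl)
    have i0 : H37.Isog.goodG2.split (.inl ⟨0, h0⟩) = (Sum.inl ⟨0, by decide⟩ : chevG2.Idx) :=
      Chevalley.idxNat_inj ((H37.Isog.goodG2.split_inl _).trans rfl)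
    rw [i4, i0] at e1
    obtain ⟨-, -, -, -, hok, hne⟩ := H37.Isog.goodG2.root_spec (r := 7) (by decide)
    rw [hok.x_eq (by decide) hne] at e1
    simp only [Chevalley.xR, Matrix.of_apply, Finset.sum_range_succ, Finset.sum_range_zero,
      Chevalley.aMat_rl, Chevalley.entUI] at e1
    rw [show chevG2.cartan 0 7 = 2 by decide +kernel] at e1
    simp [P.two_eq] at e1

theorem exists_iso : ∃ α : ↥(chevG2.group K) ≃* ↥(chevG2.group K), ∀ r, r < 12 → ∀ t : K,
    α (xG (Q K).K K r t) =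
      xG (Q K).K K (tables.rh r) (t ^ H37.Isog.dataG2.lm r) := by
  haveI : CharP K H37.Isog.dataG2.p := P.char
  haveI : Fact (Nat.Prime 3) := ⟨Nat.prime_three⟩
  haveI : CharP K 3 := P.char
  have hperf : ∀ x : K, ∃ y, y ^ H37.Isog.dataG2.p = x := fun x => by
    obtain ⟨y, hy⟩ := (Finite.injective_iff_surjective.1 (frobenius_inj K 3)) x
    exact ⟨y, hy⟩
  obtain ⟨α, hα⟩ := H37.Isog.goodG2.exists_isogeny (Q K).ord Nat.prime_three
    P.idealHom_injective hperf
  refine ⟨α, fun r hr t => Subtype.ext (Units.ext ?_)⟩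
  exact hα _ r t hr ((Q K).K.coe_xU K r t)

/-- The special isogeny. -/
noncomputable def iso : ↥(chevG2.group K) ≃* ↥(chevG2.group K) := P.exists_iso.choose

/-- The value on root elements. -/
def f (r : ℕ) (t : K) : K := (t ^ P.e) ^ H37.Isog.dataG2.lm r

/-- The endomorphism with fixed group `²G₂(q)`. -/
noncomputable def endo : H37.Twist.Endo (Q K) where
  s := sigmaG2
  f := P.f
  σ := P.iso.toMonoidHom.comp (H37.Twist.fieldHom P.φ)
  σ_x r hr t := by
    rw [MonoidHom.comp_apply, H37.Twist.fieldHom_xG, P.hφ]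
    exact P.exists_iso.choose_spec r hr (t ^ P.e)
  f_inv r hr t ht := by
    obtain ⟨hl, hodd⟩ := lm_neg r hr
    refine ⟨pow_ne_zero _ (pow_ne_zero _ ht), ?_⟩
    unfold f
    rw [hl, P.odd.neg_pow, inv_pow, hodd.neg_pow, inv_pow]

theorem σ_x {r : ℕ} (hr : r < 12) (t : K) :
    P.endo.σ (xG (Q K).K K r t) = xG (Q K).K K (tables.rh r) (P.f r t) :=
  P.endo.σ_x r hr t

end Par

end Cfsg.Agent.H38.Ree
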