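import Cfsg.Agent.H38.Ree.Counts

/-!
`²G₂(q)`: the four kinds of tori, their centralisers, and the counts by element order.
-/
set_option autoImplicit false
set_option maxRecDepth 100000
set_option maxHeartbeats 400000

namespace Cfsg.Agent.H38.Ree

open Cfsg.Lie Cfsg.Agent.H37.RootSys Cfsg.Agent.H37.Twist

theorem exists_mem_ne_one {G : Type*} [Group G] {B : Subgroup G} (hB : B ≠ ⊥) :
    ∃ b ∈ B, b ≠ 1 := by
  by_contra h
  push Not at h
  exact hB ((Subgroup.eq_bot_iff_forall B).2 h)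

theorem card_order_set {G : Type*} [Group G] [Finite G] {A : Subgroup G} (hA : IsCyclic ↥A)
    {i : ℕ} (hi : i ∣ Nat.card ↥A) : {w | w ∈ A ∧ orderOf w = i}.ncard = Nat.totient i := by
  classical
  haveI := Fintype.ofFinite ↥A
  haveI := hA
  rw [show {w | w ∈ A ∧ orderOf w = i} = (Subtype.val : ↥A → G) '' {a | orderOf a = i} from ?_,
    Set.ncard_image_of_injective _ Subtype.val_injective,
    show {a : ↥A | orderOf a = i} = ↑({a : ↥A | orderOf a = i} : Finset ↥A) by simp,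
    Set.ncard_coe_finset]
  · exact IsCyclic.card_orderOf_eq_totient (by rwa [← Nat.card_eq_fintype_card])
  · ext w
    constructor
    · rintro ⟨h1, h2⟩
      exact ⟨⟨w, h1⟩, by show orderOf _ = i; rwa [← Subgroup.orderOf_coe], rfl⟩
    · rintro ⟨⟨a, ha⟩, (h : orderOf _ = i), rfl⟩
      exact ⟨ha, by rwa [← Subgroup.orderOf_coe] at h⟩

/-- A cyclic group of order `k` meeting every conjugacy class of elements of order dividing `k`. -/
structure IsTorus {G : Type*} [Group G] (A : Subgroup G) (k : ℕ) : Prop where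
  cyclic : IsCyclic ↥A
  card : Nat.card ↥A = k
  conj_mem : ∀ g : G, g ^ k = 1 → ∃ a, a * g * a⁻¹ ∈ A

theorem IsTorus.conj_subgroup {G : Type*} [Group G] [Finite G] {A : Subgroup G} {k : ℕ}
    (hA : IsTorus A k) {B : Subgroup G} (hB : IsCyclic ↥B) (hd : Nat.card ↥B ∣ k) :
    ∃ a, B.map (MulAut.conj a).toMonoidHom ≤ A := by
  obtain ⟨⟨b, hbB⟩, hb⟩ := hB.exists_generator
  obtain ⟨a, ha⟩ := hA.conj_mem b (orderOf_dvd_iff_pow_eq_one.1
    ((Subgroup.orderOf_dvd_natCard B hbB).trans hd))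
  refine ⟨a, ?_⟩
  rintro _ ⟨x, hx, rfl⟩
  obtain ⟨n, hn⟩ := Subgroup.mem_zpowers_iff.1 (hb ⟨x, hx⟩)
  obtain rfl : b ^ n = x := congrArg Subtype.val hn
  rw [map_zpow]
  exact zpow_mem ha n

theorem cyclic_sub_unique {G : Type*} [Group G] [Finite G] {A B C : Subgroup G}
    (hA : IsCyclic ↥A) (hB : B ≤ A) (hC : C ≤ A) (h : Nat.card ↥B = Nat.card ↥C) : B = C := by
  refine Subgroup.eq_of_le_of_card_ge (fun w hw => mem_of_pow_card hA hC (hB hw) ?_) h.ge
  rw [← h]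
  exact congrArg Subtype.val (pow_card_eq_one' (x := (⟨w, hw⟩ : ↥B)))

theorem IsTorus.conj_of_card {G : Type*} [Group G] [Finite G] {A : Subgroup G} {k : ℕ}
    (hA : IsTorus A k) {B B' : Subgroup G} (hB : IsCyclic ↥B) (hB' : IsCyclic ↥B') {d : ℕ}
    (hd : d ∣ k) (h : Nat.card ↥B = d) (h' : Nat.card ↥B' = d) :
    ∃ g : G, B' = B.map (MulAut.conj g).toMonoidHom := by
  obtain ⟨a, ha⟩ := hA.conj_subgroup hB (h ▸ hd)
  obtain ⟨a', ha'⟩ := hA.conj_subgroup hB' (h' ▸ hd)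
  have hc : ∀ (D : Subgroup G) (g : G),
      Nat.card ↥(D.map (MulAut.conj g).toMonoidHom) = Nat.card ↥D := fun D g =>
    Subgroup.card_map_of_injective (MulAut.conj g).injective
  have e := cyclic_sub_unique hA.cyclic ha' ha (by rw [hc, hc, h, h'])
  refine ⟨a'⁻¹ * a, ?_⟩
  have e2 := congrArg (Subgroup.map (MulAut.conj a'⁻¹).toMonoidHom) e
  rw [Subgroup.map_map, Subgroup.map_map] at e2
  have e3 : ∀ x y : G, (MulAut.conj x).toMonoidHom.comp (MulAut.conj y).toMonoidHom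
      = (MulAut.conj (x * y)).toMonoidHom := fun x y => by
    ext z
    show x * (y * z * y⁻¹) * x⁻¹ = x * y * z * (x * y)⁻¹
    group
  rwa [e3, e3, inv_mul_cancel,
    show (MulAut.conj (1 : G)).toMonoidHom = MonoidHom.id G from MonoidHom.ext fun z => by simp,
    Subgroup.map_id] at e2

theorem centralizer_map_conj {G : Type*} [Group G] (B : Subgroup G) (a : G) :
    Subgroup.centralizer ((B.map (MulAut.conj a).toMonoidHom : Subgroup G) : Set G)
      = (Subgroup.centralizer (B : Set G)).map (MulAut.conj a).toMonoidHom := by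
  ext w
  rw [Subgroup.mem_map_equiv, Subgroup.mem_centralizer_iff, Subgroup.mem_centralizer_iff]
  constructor
  · intro h b hb
    exact (MulAut.conj a).injective (by
      rw [map_mul, map_mul, MulEquiv.apply_symm_apply]
      exact h _ (Subgroup.mem_map_of_mem _ hb))
  · rintro h _ ⟨b, hb, rfl⟩
    have := congrArg (MulAut.conj a) (h b hb)
    rwa [map_mul, map_mul, MulEquiv.apply_symm_apply] at this

namespace Par

variable {K : Type*} [Field K] [Fintype K] (P : Par K)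
include P

theorem third_pair (hq : 4 < Nat.card K) :
    ∃ x x', x ∈ P.E3 ∧ x' ∈ P.E3 ∧
      Nat.card ↥(Subgroup.centralizer {x}) = Nat.card K - 3 * P.e + 1 ∧
      Nat.card ↥(Subgroup.centralizer {x'}) = Nat.card K + 3 * P.e + 1 ∧
      Nat.card ↥(Subgroup.centralizer {x}) * Nat.card ↥(Subgroup.centralizer {x'}) = P.NN ∧
      P.E3 = P.fam x ∪ P.fam x' ∧
      Nat.card ↥(Subgroup.normalizer ((Subgroup.centralizer {x} : Subgroup ↥(twistedG2 K P.e)) :
        Set ↥(twistedG2 K P.e))) = 6 * Nat.card ↥(Subgroup.centralizer {x}) ∧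
      Nat.card ↥(Subgroup.normalizer ((Subgroup.centralizer {x'} : Subgroup ↥(twistedG2 K P.e)) :
        Set ↥(twistedG2 K P.e))) = 6 * Nat.card ↥(Subgroup.centralizer {x'}) := by
  obtain ⟨x, x', hx, hx', hm, hs, hE, hn, hn'⟩ := P.two_families hq (P.count_E3 hq)
  have hN := P.NN_eq
  have hc := P.card_nat
  have hle : 3 * P.e ≤ Nat.card K := by
    rw [hc]; exact Nat.mul_le_mul_left 3 (Nat.le_self_pow two_ne_zero _)
  have key : ((Nat.card ↥(Subgroup.centralizer {x}) : ℤ) - Nat.card ↥(Subgroup.centralizer {x'})) ^ 2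
      = (6 * (P.e : ℤ)) ^ 2 := by
    zify at hm hs hN hc
    set c : ℤ := (Nat.card ↥(Subgroup.centralizer {x}) : ℤ)
    set c' : ℤ := (Nat.card ↥(Subgroup.centralizer {x'}) : ℤ)
    linear_combination (c + c' + 2 * (Nat.card K : ℤ) + 2) * hs - 4 * hm - 4 * hN + 12 * hc
  rcases sq_eq_sq_iff_eq_or_eq_neg.1 key with h | h
  · exact ⟨x', x, hx', hx, by omega, by omega, by rw [mul_comm]; exact hm,
      by rw [Set.union_comm]; exact hE, hn', hn⟩
  · exact ⟨x, x', hx, hx', by omega, by omega, hm, hE, hn, hn'⟩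

theorem torus_A1 : IsTorus P.A1 ((Nat.card K - 1) / 2) where
  cyclic := P.isCyclic_A1
  card := P.card_A1
  conj_mem g hg := by
    obtain ⟨k, hk, hk'⟩ := P.q_sub_one
    rw [hk', Nat.mul_div_cancel_left _ two_pos] at hg
    by_cases hg1 : g = 1
    · exact ⟨1, by rw [hg1, mul_one, mul_inv_cancel]; exact one_mem _⟩
    have hd := orderOf_dvd_of_pow_eq_one hg
    have h2 : 2 < orderOf g := by
      have h1 : orderOf g ≠ 1 := fun e => hg1 (orderOf_eq_one_iff.1 e)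
      have h2' : orderOf g ≠ 2 := fun e => by
        rw [e] at hd
        exact absurd hd (Nat.two_dvd_ne_zero.2 (Nat.odd_iff.1 hk))
      have := hd.trans (dvd_refl k)
      have hpos : orderOf g ≠ 0 := fun e => by
        rw [e, zero_dvd_iff] at this
        obtain ⟨t, ht⟩ := hk
        omega
      omega
    obtain ⟨a, y, rfl⟩ := P.exists_conj_ft h2 (hk' ▸ hd.mul_left 2)
    refine ⟨a⁻¹, ?_⟩
    rw [show a⁻¹ * (a * P.ft y * a⁻¹) * a⁻¹⁻¹ = P.ft y by group, P.mem_A1]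
    rw [orderOf_conj_eq, orderOf_injective P.ft P.ft_injective, orderOf_dvd_iff_pow_eq_one] at hd
    obtain ⟨t, ht⟩ := hk
    exact ⟨y ^ (t + 1), by rw [← pow_mul, show (t + 1) * 2 = k + 1 by omega, pow_succ, hd, one_mul]⟩

theorem torus_A2 (hq : 4 < Nat.card K) : IsTorus P.A2 P.cN where
  cyclic := P.A2_aux.1
  card := P.A2_aux.2
  conj_mem g hg := by
    haveI : Finite ↥(twistedG2 K P.e) := Subtype.finite
    by_cases hg1 : g = 1
    · exact ⟨1, by rw [hg1, mul_one, mul_inv_cancel]; exact one_mem _⟩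
    obtain ⟨-, hodd, -, -⟩ := P.cN_spec
    have hd := orderOf_dvd_of_pow_eq_one hg
    have h2 : 2 < orderOf g := by
      have h1 : orderOf g ≠ 1 := fun e => hg1 (orderOf_eq_one_iff.1 e)
      have h2' : orderOf g ≠ 2 := fun e => by
        rw [e] at hd
        exact absurd hd (Nat.two_dvd_ne_zero.2 (Nat.odd_iff.1 hodd))
      have := orderOf_pos g
      omega
    obtain ⟨a, ha⟩ := P.exists_conj_C2 hq h2 (hd.mul_left 2)
    exact ⟨a, ha, by rw [conj_pow, hg, mul_one, mul_inv_cancel]⟩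

theorem torus_E3 (hq : 4 < Nat.card K) {x x' : ↥(twistedG2 K P.e)} (hx : x ∈ P.E3)
    (hx' : x' ∈ P.E3)
    (hm : Nat.card ↥(Subgroup.centralizer {x}) * Nat.card ↥(Subgroup.centralizer {x'}) = P.NN)
    (hs : Nat.card ↥(Subgroup.centralizer {x}) + Nat.card ↥(Subgroup.centralizer {x'})
      = 2 * Nat.card K + 2)
    (hE : P.E3 = P.fam x ∪ P.fam x') :
    IsTorus (Subgroup.centralizer {x}) (Nat.card ↥(Subgroup.centralizer {x})) where
  cyclic := P.E3_cyclic hq hx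
  card := rfl
  conj_mem g hg := by
    haveI : Finite ↥(twistedG2 K P.e) := Subtype.finite
    by_cases hg1 : g = 1
    · exact ⟨1, by rw [hg1, mul_one, mul_inv_cancel]; exact one_mem _⟩
    have hgE : g ∈ P.E3 := ⟨hg1, by rw [← hm, pow_mul, hg, one_pow]⟩
    rw [hE] at hgE
    rcases hgE with ⟨b, z, ⟨hz, -⟩, rfl⟩ | ⟨b, z, ⟨hz, -⟩, rfl⟩
    · exact ⟨b⁻¹, by rwa [show b⁻¹ * (b * z * b⁻¹) * b⁻¹⁻¹ = z by group]⟩
    · exfalso
      refine hg1 (orderOf_eq_one_iff.1 ?_)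
      have h1 := orderOf_dvd_of_pow_eq_one hg
      rw [orderOf_conj_eq] at h1 ⊢
      have h2 := Subgroup.orderOf_dvd_natCard _ hz
      refine Nat.eq_one_of_dvd_coprimes P.coprime_NN (hm ▸ h1.mul_right _) ?_
      have h3 : orderOf z ∣ 2 * (Nat.card K + 1) := by
        rw [show 2 * (Nat.card K + 1) = 2 * Nat.card K + 2 by ring, ← hs]
        exact dvd_add h1 h2
      exact h3.trans (Nat.mul_dvd_mul_left 2 (Dvd.dvd.mul_left (dvd_mul_left _ _) _))

theorem quarter : (Nat.card K + 1) / 4 = P.cN ∧ (Nat.card K + 1) / 2 = 2 * P.cN := by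
  have := P.cN_spec.1
  omega

/-- The four tori with their normalisers. -/
theorem four_tori (hq : 4 < Nat.card K) :
    ∀ kn ∈ ({((Nat.card K - 1) / 2, 2 * (Nat.card K - 1)),
        ((Nat.card K + 1) / 4, 6 * (Nat.card K + 1)),
        (Nat.card K - 3 * P.e + 1, 6 * (Nat.card K - 3 * P.e + 1)),
        (Nat.card K + 3 * P.e + 1, 6 * (Nat.card K + 3 * P.e + 1))} : Set (ℕ × ℕ)),
      ∃ A : Subgroup ↥(twistedG2 K P.e), IsTorus A kn.1 ∧
        Nat.card (Subgroup.normalizer (A : Set ↥(twistedG2 K P.e))) = kn.2 ∧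
        ∀ A₀ : Subgroup ↥(twistedG2 K P.e), A₀ ≤ A → A₀ ≠ ⊥ →
          Subgroup.normalizer (A₀ : Set ↥(twistedG2 K P.e))
            = Subgroup.normalizer (A : Set ↥(twistedG2 K P.e)) := by
  obtain ⟨x, x', hx, hx', hc, hc', hm, hE, hn, hn'⟩ := P.third_pair hq
  have hle : 3 * P.e ≤ Nat.card K := by
    rw [P.card_nat]; exact Nat.mul_le_mul_left 3 (Nat.le_self_pow two_ne_zero _)
  rintro kn (rfl | rfl | rfl | rfl)
  · exact ⟨P.A1, P.torus_A1, P.card_normalizer_A1 hq, fun A₀ h h1 => P.normalizer_eq_A1 h h1⟩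
  · refine ⟨P.A2, ?_, P.card_normalizer_A2 hq, fun A₀ h h1 => P.normalizer_eq_A2 hq h h1⟩
    rw [P.quarter.1]; exact P.torus_A2 hq
  · exact ⟨_, hc ▸ P.torus_E3 hq hx hx' hm (by omega) hE, hn.trans (by rw [hc]),
      fun A₀ h h1 => P.E3_normalizer hq hx h h1⟩
  · exact ⟨_, hc' ▸ P.torus_E3 hq hx' hx (by rw [mul_comm]; exact hm) (by omega)
      (by rw [Set.union_comm]; exact hE), hn'.trans (by rw [hc']),
      fun A₀ h h1 => P.E3_normalizer hq hx' h h1⟩

theorem cent_sub_A1 {B : Subgroup ↥(twistedG2 K P.e)} (hB : B ≤ P.A1) (hB1 : B ≠ ⊥) :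
    Subgroup.centralizer (B : Set ↥(twistedG2 K P.e)) = P.ft.range := by
  have hform : ∀ b ∈ B, ∃ y, b = P.ft y := fun b hb => by
    obtain ⟨x, hx⟩ := hB hb
    exact ⟨x ^ 2, by rw [← hx, MonoidHom.comp_apply, powMonoidHom_apply]⟩
  refine le_antisymm (fun w hw => ?_) ?_
  · obtain ⟨b, hb, hb1⟩ := exists_mem_ne_one hB1
    obtain ⟨y, rfl⟩ := hform b hb
    refine P.cent_torus (y := y) (fun h => hb1 (by rw [P.A1_sq (hB hb) h, map_one])) ?_
    exact (Subgroup.mem_centralizer_iff.1 hw _ hb).symm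
  · rintro _ ⟨z, rfl⟩
    rw [Subgroup.mem_centralizer_iff]
    intro b hb
    obtain ⟨y, rfl⟩ := hform b hb
    rw [← map_mul, ← map_mul, mul_comm]

theorem cent_sub_A2 (hq : 4 < Nat.card K) {B : Subgroup ↥(twistedG2 K P.e)} (hB : B ≤ P.A2)
    (hB1 : B ≠ ⊥) : Subgroup.centralizer (B : Set ↥(twistedG2 K P.e)) = P.C2 := by
  refine le_antisymm (fun w hw => ?_) fun w hw => Subgroup.mem_centralizer_iff.2 fun b hb =>
    P.C2_comm (hB hb).1 hw
  obtain ⟨b, hb, hb1⟩ := exists_mem_ne_one hB1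
  rw [← P.centralizer_A2 hq (hB hb) hb1, Subgroup.mem_centralizer_singleton_iff]
  exact (Subgroup.mem_centralizer_iff.1 hw _ hb).symm

theorem cent_transfer {A : Subgroup ↥(twistedG2 K P.e)} {k : ℕ} (hA : IsTorus A k)
    {C : Subgroup ↥(twistedG2 K P.e)}
    (hC : ∀ B : Subgroup ↥(twistedG2 K P.e), B ≤ A → B ≠ ⊥ →
      Subgroup.centralizer (B : Set ↥(twistedG2 K P.e)) = C)
    (hA1 : A ≠ ⊥) {H : Subgroup ↥(twistedG2 K P.e)} (hH : IsCyclic ↥H) (hk : Nat.card ↥H = k) :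
    ∃ f : ↥(twistedG2 K P.e) ≃* ↥(twistedG2 K P.e),
      Subgroup.centralizer (H : Set ↥(twistedG2 K P.e)) = C.map f.toMonoidHom ∧
      ∀ B : Subgroup ↥(twistedG2 K P.e), B ≤ H → B ≠ ⊥ →
        Subgroup.centralizer (B : Set ↥(twistedG2 K P.e))
          = Subgroup.centralizer (H : Set ↥(twistedG2 K P.e)) := by
  haveI : Finite ↥(twistedG2 K P.e) := Subtype.finite
  obtain ⟨g, hg⟩ := hA.conj_of_card hA.cyclic hH dvd_rfl hA.card hk
  refine ⟨MulAut.conj g, ?_, fun B hB hB1 => ?_⟩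
  · rw [hg, centralizer_map_conj, hC A le_rfl hA1]
  · have hB' : B = (B.comap (MulAut.conj g).toMonoidHom).map (MulAut.conj g).toMonoidHom :=
      (Subgroup.map_comap_eq_self_of_surjective (MulAut.conj g).surjective B).symm
    rw [hg, centralizer_map_conj, hC A le_rfl hA1, hB', centralizer_map_conj, hC]
    · intro w hw
      obtain ⟨v, hv, e⟩ := (hg ▸ hB) hw
      rwa [← (MulAut.conj g).injective e]
    · intro e
      rw [e, Subgroup.map_bot] at hB'
      exact hB1 hB'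

theorem cent_split (hq : 4 < Nat.card K) {H : Subgroup ↥(twistedG2 K P.e)} (hH : IsCyclic ↥H)
    (hk : Nat.card ↥H = (Nat.card K - 1) / 2) :
    IsCyclic ↥(Subgroup.centralizer (H : Set ↥(twistedG2 K P.e))) ∧
      Nat.card ↥(Subgroup.centralizer (H : Set ↥(twistedG2 K P.e))) = Nat.card K - 1 ∧
      ∀ A : Subgroup ↥(twistedG2 K P.e), A ≤ H → A ≠ ⊥ →
        Subgroup.centralizer (A : Set ↥(twistedG2 K P.e))
          = Subgroup.centralizer (H : Set ↥(twistedG2 K P.e)) := by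
  obtain ⟨f, e, h⟩ := P.cent_transfer P.torus_A1 (fun B hB hB1 => P.cent_sub_A1 hB hB1)
    (P.A1_ne_bot hq) hH hk
  refine ⟨?_, ?_, h⟩
  · rw [e]
    haveI : IsCyclic ↥P.ft.range := isCyclic_of_surjective _ P.ft.rangeRestrict_surjective
    exact (Subgroup.equivMapOfInjective _ _ f.injective).isCyclic.1 inferInstance
  · rw [e, Subgroup.card_map_of_injective f.injective,
      ← Nat.card_congr (MonoidHom.ofInjective P.ft_injective).toEquiv, P.card_units]

theorem cent_quarter (hq : 4 < Nat.card K) {H : Subgroup ↥(twistedG2 K P.e)} (hH : IsCyclic ↥H)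
    (hk : Nat.card ↥H = (Nat.card K + 1) / 4) :
    IsMulCommutative ↥(Subgroup.centralizer (H : Set ↥(twistedG2 K P.e))) ∧
      Nat.card ↥(Subgroup.centralizer (H : Set ↥(twistedG2 K P.e))) = Nat.card K + 1 ∧
      (∀ x ∈ Subgroup.centralizer (H : Set ↥(twistedG2 K P.e)), orderOf x ≠ 4) ∧
      ∀ A : Subgroup ↥(twistedG2 K P.e), A ≤ H → A ≠ ⊥ →
        Subgroup.centralizer (A : Set ↥(twistedG2 K P.e))
          = Subgroup.centralizer (H : Set ↥(twistedG2 K P.e)) := by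
  obtain ⟨f, e, h⟩ := P.cent_transfer (P.torus_A2 hq) (fun B hB hB1 => P.cent_sub_A2 hq hB hB1)
    (P.A2_ne_bot hq) hH (hk.trans P.quarter.1)
  refine ⟨?_, ?_, ?_, h⟩
  · rw [e]
    refine ⟨⟨?_⟩⟩
    rintro ⟨_, a, ha, rfl⟩ ⟨_, b, hb, rfl⟩
    refine Subtype.ext ?_
    show f a * f b = f b * f a
    rw [← map_mul, ← map_mul, P.C2_comm ha hb]
  · rw [e, Subgroup.card_map_of_injective f.injective, P.card_C2]
  · intro x hx ho
    rw [e] at hx
    obtain ⟨a, ha, rfl⟩ := hx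
    have hd := P.C2_order ha
    rw [← f.orderOf_eq a, show orderOf (f a) = 4 from ho] at hd
    obtain ⟨-, ⟨t, ht⟩, -, -⟩ := P.cN_spec
    omega

theorem count_split_order (hq : 4 < Nat.card K) {i : ℕ} (h2 : 2 < i) (hi : i ∣ Nat.card K - 1) :
    2 * (P.ordSet (· = i)).ncard
      = Nat.totient i * Nat.card K ^ 3 * (Nat.card K ^ 3 + 1) := by
  classical
  rw [P.split_card hq (· = i) (fun d (hd : d = i) => by subst hd; exact ⟨h2, hi⟩),
    show {y : Kˣ | orderOf y = i} = ↑({y : Kˣ | orderOf y = i} : Finset Kˣ) by simp,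
    Set.ncard_coe_finset,
    IsCyclic.card_orderOf_eq_totient (by rwa [← Nat.card_eq_fintype_card, P.card_units])]
  ring

theorem C2_pow_half {w : ↥(twistedG2 K P.e)} {i : ℕ} (hi : i ∣ P.cN) (hw : w ∈ P.C2)
    (ho : orderOf w = i) : w ∈ P.A2 :=
  P.mem_A2.2 ⟨hw, orderOf_dvd_iff_pow_eq_one.1 (ho.symm ▸ hi)⟩

theorem C2_two_mul_order {w : ↥(twistedG2 K P.e)} {i : ℕ} (hio : ¬ 2 ∣ i)
    (ho : orderOf w = 2 * i) :
    orderOf (w ^ i) = 2 ∧ orderOf (w ^ (i + 1)) = i ∧ w ^ i * w ^ (i + 1) = w := by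
  have hi0 : 0 < i := Nat.pos_of_ne_zero fun e => hio (e ▸ dvd_zero 2)
  have hw1 : w ^ (2 * i) = 1 := by rw [← ho, pow_orderOf_eq_one]
  refine ⟨?_, ?_, ?_⟩
  · rw [orderOf_pow_of_dvd hi0.ne' (ho.symm ▸ dvd_mul_left i 2), ho]
    exact Nat.mul_div_cancel _ hi0
  · obtain ⟨t, ht⟩ : ∃ t, i + 1 = 2 * t := ⟨(i + 1) / 2, by omega⟩
    have hg : Nat.Coprime i t := by
      refine Nat.Coprime.coprime_dvd_right (dvd_mul_left t 2) ?_
      rw [← ht]
      exact Nat.coprime_self_add_right.2 (Nat.coprime_one_right i)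
    rw [orderOf_pow' _ (by omega), ho, ht, Nat.gcd_mul_left, hg.gcd_eq_one]
    omega
  · rw [← pow_add, show i + (i + 1) = 2 * i + 1 by omega, pow_succ, hw1, one_mul]

theorem card_C2_invol : {w | w ∈ P.C2 ∧ orderOf w = 2}.ncard = 3 := by
  haveI : Finite ↥(twistedG2 K P.e) := Subtype.finite
  have e : {w | w ∈ P.C2 ∧ orderOf w = 2} = {w | w ∈ P.C2 ∧ ¬ 2 < orderOf w} \ {1} := by
    ext w
    constructor
    · rintro ⟨h1, h2⟩
      exact ⟨⟨h1, by omega⟩, fun (h : w = 1) => by rw [h, orderOf_one] at h2; omega⟩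
    · rintro ⟨⟨h1, h2⟩, h3⟩
      refine ⟨h1, ?_⟩
      have := orderOf_pos w
      have : orderOf w ≠ 1 := fun h => h3 (orderOf_eq_one_iff.1 h)
      omega
  rw [e, Set.ncard_sdiff_singleton_of_mem, P.card_VT]
  refine Set.mem_setOf.2 ⟨P.C2.one_mem, ?_⟩
  rw [orderOf_one]
  omega

theorem card_C2_two_mul {i : ℕ} (hio : ¬ 2 ∣ i) (hi : i ∣ P.cN) :
    {w | w ∈ P.C2 ∧ orderOf w = 2 * i}.ncard = 3 * Nat.totient i := by
  haveI : Finite ↥(twistedG2 K P.e) := Subtype.finite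
  set V : Set ↥(twistedG2 K P.e) := {w | w ∈ P.C2 ∧ orderOf w = 2} with hV
  set A : Set ↥(twistedG2 K P.e) := {w | w ∈ P.A2 ∧ orderOf w = i} with hA
  have hcomm : ∀ v ∈ V, ∀ a ∈ A, Commute v a := fun v hv a ha => P.C2_comm hv.1 (P.A2_le ha.1)
  have hpow : ∀ v ∈ V, ∀ a ∈ A, (v * a) ^ i = v := fun v hv a ha => by
    rw [(hcomm v hv a ha).mul_pow]
    have h1 : a ^ i = 1 := by rw [← ha.2, pow_orderOf_eq_one]
    rw [h1, mul_one, ← pow_mod_orderOf, hv.2,
      Nat.mod_two_ne_zero.1 (fun e => hio (Nat.dvd_of_mod_eq_zero e)), pow_one]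
  have e : {w | w ∈ P.C2 ∧ orderOf w = 2 * i}
      = (fun p : ↥(twistedG2 K P.e) × ↥(twistedG2 K P.e) => p.1 * p.2) '' (V ×ˢ A) := by
    ext w
    constructor
    · rintro ⟨hw, ho⟩
      obtain ⟨h1, h2, h3⟩ := P.C2_two_mul_order hio ho
      exact ⟨(w ^ i, w ^ (i + 1)), Set.mk_mem_prod ⟨pow_mem hw i, h1⟩
        ⟨P.C2_pow_half hi (pow_mem hw _) h2, h2⟩, h3⟩
    · rintro ⟨p, hp, rfl⟩
      obtain ⟨hv, ha⟩ := Set.mem_prod.1 hp
      refine ⟨P.C2.mul_mem hv.1 (P.A2_le ha.1), ?_⟩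
      show orderOf (p.1 * p.2) = 2 * i
      rw [(hcomm _ hv _ ha).orderOf_mul_eq_mul_orderOf_of_coprime, hv.2, ha.2]
      rw [hv.2, ha.2]
      exact (Nat.Prime.coprime_iff_not_dvd Nat.prime_two).2 hio
  rw [e, Set.InjOn.ncard_image, Set.ncard_prod, hV, P.card_C2_invol, hA,
    card_order_set P.A2_aux.1 (P.A2_aux.2.symm ▸ hi)]
  intro p hp p' hp' (h : p.1 * p.2 = p'.1 * p'.2)
  obtain ⟨hv, ha⟩ := Set.mem_prod.1 hp
  obtain ⟨hv', ha'⟩ := Set.mem_prod.1 hp'
  have hvv : p.1 = p'.1 := by rw [← hpow _ hv _ ha, h, hpow _ hv' _ ha']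
  refine Prod.ext hvv ?_
  rw [hvv] at h
  exact mul_left_cancel h

theorem count_quarter_order (hq : 4 < Nat.card K) {i : ℕ} (h1 : 1 < i) (hi : i ∣ P.cN) :
    6 * (P.ordSet (· = i)).ncard
      = Nat.totient i * Nat.card K ^ 3 * (Nat.card K - 1) * P.NN ∧
    2 * (P.ordSet (· = 2 * i)).ncard
      = Nat.totient i * Nat.card K ^ 3 * (Nat.card K - 1) * P.NN := by
  haveI : Finite ↥(twistedG2 K P.e) := Subtype.finite
  obtain ⟨-, hodd, -, -⟩ := P.cN_spec
  have hio : ¬ 2 ∣ i := fun h =>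
    absurd (h.trans hi) (Nat.two_dvd_ne_zero.2 (Nat.odd_iff.1 hodd))
  have hset : {w | w ∈ P.C2 ∧ orderOf w = i} = {w | w ∈ P.A2 ∧ orderOf w = i} :=
    Set.ext fun w => ⟨fun h => ⟨P.C2_pow_half hi h.1 h.2, h.2⟩, fun h => ⟨P.A2_le h.1, h.2⟩⟩
  constructor
  · rw [P.nonsplit_card hq (· = i) (fun d (hd : d = i) => by
      subst hd; exact ⟨by omega, hi.mul_left 2⟩), hset,
      card_order_set P.A2_aux.1 (P.A2_aux.2.symm ▸ hi)]
    ring
  · have h := P.nonsplit_card hq (· = 2 * i) (fun d (hd : d = 2 * i) => by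
      subst hd; exact ⟨by omega, Nat.mul_dvd_mul_left 2 hi⟩)
    rw [P.card_C2_two_mul hio hi] at h
    refine Nat.eq_of_mul_eq_mul_left (show 0 < 3 by norm_num) ?_
    calc 3 * (2 * (P.ordSet (· = 2 * i)).ncard) = 6 * (P.ordSet (· = 2 * i)).ncard := by ring
      _ = _ := by rw [h]; ring

theorem count_third_order (hq : 4 < Nat.card K) {x x' : ↥(twistedG2 K P.e)} (hx : x ∈ P.E3)
    (hx' : x' ∈ P.E3)
    (hm : Nat.card ↥(Subgroup.centralizer {x}) * Nat.card ↥(Subgroup.centralizer {x'}) = P.NN)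
    (hs : Nat.card ↥(Subgroup.centralizer {x}) + Nat.card ↥(Subgroup.centralizer {x'})
      = 2 * Nat.card K + 2)
    (hE : P.E3 = P.fam x ∪ P.fam x')
    (hn : Nat.card ↥(Subgroup.normalizer ((Subgroup.centralizer {x} :
      Subgroup ↥(twistedG2 K P.e)) : Set ↥(twistedG2 K P.e)))
        = 6 * Nat.card ↥(Subgroup.centralizer {x}))
    {i : ℕ} (h1 : 1 < i) (hi : i ∣ Nat.card ↥(Subgroup.centralizer {x})) :
    6 * (P.ordSet (· = i)).ncard = Nat.totient i * Nat.card K ^ 3 *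
      ((Nat.card K - 1) * (Nat.card K + 1)) * Nat.card ↥(Subgroup.centralizer {x'}) := by
  haveI : Finite ↥(twistedG2 K P.e) := Subtype.finite
  set C := Subgroup.centralizer {x} with hC
  set N := Subgroup.normalizer (C : Set ↥(twistedG2 K P.e))
  set X : Set ↥(twistedG2 K P.e) := {z | z ∈ C ∧ orderOf z = i} with hX
  have hne : ∀ z : ↥(twistedG2 K P.e), orderOf z = i → z ≠ 1 := fun z h e => by rw [e, orderOf_one] at h; omega
  have e : P.ordSet (· = i) = conjUnion X := by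
    ext g
    constructor
    · intro (hg : orderOf g = i)
      obtain ⟨a, ha⟩ := (P.torus_E3 hq hx hx' hm hs hE).conj_mem g
        (orderOf_dvd_iff_pow_eq_one.1 (hg ▸ hi))
      exact ⟨a⁻¹, _, ⟨ha, by rw [orderOf_conj_eq, hg]⟩, by group⟩
    · rintro ⟨g, z, ⟨-, hz⟩, rfl⟩
      show orderOf (g * z * g⁻¹) = i
      rw [orderOf_conj_eq, hz]
  have hc := N.card_mul_index
  rw [hn, P.card_T', ← hm] at hc
  have hidx : 6 * N.index = Nat.card K ^ 3 * ((Nat.card K - 1) * (Nat.card K + 1)) *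
      Nat.card ↥(Subgroup.centralizer {x'}) := by
    refine Nat.eq_of_mul_eq_mul_left (show 0 < Nat.card ↥C from Nat.card_pos) ?_
    calc Nat.card ↥C * (6 * N.index) = 6 * Nat.card ↥C * N.index := by ring
      _ = _ := by rw [hc]; ring
  rw [e, card_conjUnion N X, ← mul_assoc, hidx, hX, card_order_set (P.E3_cyclic hq hx) hi]
  · ring
  · rintro n hn z ⟨hz, hzo⟩
    exact ⟨(Subgroup.mem_normalizer_iff.1 hn z).1 hz, by rw [orderOf_conj_eq, hzo]⟩
  · rintro g z ⟨hz, hzo⟩ ⟨hgz, hgzo⟩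
    obtain ⟨-, e1⟩ := P.E3_eq hq hx hz (hne z hzo)
    obtain ⟨-, e2⟩ := P.E3_eq hq hx hgz (hne _ hgzo)
    rw [Subgroup.mem_normalizer_iff]
    intro u
    conv_lhs => rw [show u ∈ C ↔ u ∈ Subgroup.centralizer {z} by rw [e1],
      Subgroup.mem_centralizer_singleton_iff]
    conv_rhs => rw [show g * u * g⁻¹ ∈ C ↔ g * u * g⁻¹ ∈ Subgroup.centralizer {g * z * g⁻¹} by rw [e2],
      Subgroup.mem_centralizer_singleton_iff,
      show g * u * g⁻¹ * (g * z * g⁻¹) = g * (u * z) * g⁻¹ by group,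
      show g * z * g⁻¹ * (g * u * g⁻¹) = g * (z * u) * g⁻¹ by group, mul_left_inj, mul_right_inj]

/-- The element orders. -/
theorem element_orders (hq : 4 < Nat.card K) (d : ℕ) :
    (∃ g : ↥(twistedG2 K P.e), orderOf g = d) ↔
      (d ∣ 6 ∨ d ∣ 9 ∨ d ∣ Nat.card K - 1 ∨ d ∣ (Nat.card K + 1) / 2 ∨
        d ∣ Nat.card K - 3 * P.e + 1 ∨ d ∣ Nat.card K + 3 * P.e + 1) := by
  haveI : Finite ↥(twistedG2 K P.e) := Subtype.finite
  obtain ⟨x, x', hx, hx', hc, hc', hm, hE, hn, hn'⟩ := P.third_pair hq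
  obtain ⟨h4, hodd, -, -⟩ := P.cN_spec
  rw [P.quarter.2]
  constructor
  · rintro ⟨g, rfl⟩
    by_cases hg : g = 1
    · exact Or.inl (by rw [hg, orderOf_one]; exact one_dvd 6)
    rcases P.classify hq hg with h | h | h | h | h
    · rcases P.three_orders h with e | e | e <;> rw [e]
      · exact Or.inl (by norm_num)
      · exact Or.inl dvd_rfl
      · exact Or.inr (Or.inl dvd_rfl)
    · exact Or.inr (Or.inr (Or.inl h.2))
    · exact Or.inr (Or.inr (Or.inr (Or.inl h.2)))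
    · exact Or.inl (by rw [h]; norm_num)
    · rw [hE] at h
      rcases h with ⟨a, z, ⟨hz, -⟩, rfl⟩ | ⟨a, z, ⟨hz, -⟩, rfl⟩
      · refine Or.inr (Or.inr (Or.inr (Or.inr (Or.inl ?_))))
        rw [orderOf_conj_eq, ← hc]
        exact Subgroup.orderOf_dvd_natCard _ hz
      · refine Or.inr (Or.inr (Or.inr (Or.inr (Or.inr ?_))))
        rw [orderOf_conj_eq, ← hc']
        exact Subgroup.orderOf_dvd_natCard _ hz
  · intro h
    have hsub : ∀ {z : ↥(twistedG2 K P.e)} {n : ℕ}, orderOf z = n → d ∣ n →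
        ∃ g : ↥(twistedG2 K P.e), orderOf g = d := fun {z n} hz hdn =>
      ⟨z ^ (orderOf z / d), orderOf_pow_orderOf_div (orderOf_pos z).ne' (hz ▸ hdn)⟩
    rcases h with h | h | h | h | h | h
    · exact hsub ((P.order_inv_coset (v := (0, 1, 0))).2
        (by rw [P.th_zero, mul_zero]; exact one_ne_zero)) h
    · exact hsub (P.order_uT_nine (v := (1, 0, 0)) one_ne_zero) h
    · obtain ⟨y, hy⟩ := IsCyclic.exists_ofOrder_eq_natCard (α := Kˣ)
      exact hsub (z := P.ft y)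
        (by rw [orderOf_injective P.ft P.ft_injective, hy, P.card_units]) h
    · obtain ⟨a, ha⟩ := P.A2_aux.1.exists_ofOrder_eq_natCard
      rw [P.A2_aux.2, ← Subgroup.orderOf_coe] at ha
      haveI : Fact (Nat.Prime 2) := ⟨Nat.prime_two⟩
      have hv : orderOf P.vT = 2 :=
        orderOf_eq_prime (by rw [pow_two]; exact P.vT_sq) P.vT_ne.1
      refine hsub (z := P.vT * (a : ↥(twistedG2 K P.e))) ?_ h
      rw [(show Commute P.vT (a : ↥(twistedG2 K P.e)) from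
        P.C2_comm P.vT_mem a.2.1).orderOf_mul_eq_mul_orderOf_of_coprime, hv, ha]
      rw [hv, ha]
      exact Nat.coprime_two_left.2 hodd
    · obtain ⟨z, hz⟩ := (P.E3_cyclic hq hx).exists_ofOrder_eq_natCard
      rw [hc, ← Subgroup.orderOf_coe] at hz
      exact hsub hz h
    · obtain ⟨z, hz⟩ := (P.E3_cyclic hq hx').exists_ofOrder_eq_natCard
      rw [hc', ← Subgroup.orderOf_coe] at hz
      exact hsub hz h

end Par

end Cfsg.Agent.H38.Ree
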