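import Cfsg.Agent.H38.Ree.Cent
import Cfsg.Agent.H27.ProjLine
import Cfsg.Agent.Arith.SylowGL

/-!
`²G₂(q)`: the Sylow subgroups for primes above three are cyclic.
-/
set_option autoImplicit false
set_option maxRecDepth 100000

namespace Cfsg.Agent.H38.Ree

open Cfsg.Lie Cfsg.Agent.H37.RootSys Cfsg.Agent.H37.Twist

/-- An embedded cyclic group of the order of the `p`-part makes every Sylow subgroup cyclic. -/
theorem isCyclic_sylow_of_emb {G A : Type*} [Group G] [Finite G] [Group A] [hA : IsCyclic A]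
    {p : ℕ} [Fact p.Prime] (f : A →* G) (hf : Function.Injective f)
    (hc : Nat.card A = p ^ padicValNat p (Nat.card G)) (S : Sylow p G) :
    IsCyclic (S : Subgroup G) := by
  obtain ⟨i⟩ := Arith.nonempty_sylow_equiv f hf hc S
  exact i.isCyclic.2 hA

/-- In `GL₇(q)` the `p`-part is cyclic when `q` has order six modulo `p`. -/
theorem isCyclic_sylow_gl_seven {F : Type*} [Field F] [Fintype F] {p : ℕ} [Fact p.Prime]
    (hd : orderOf (Fintype.card F : ZMod p) = 6) (S : Sylow p (GL (Fin 7) F)) :
    IsCyclic (S : Subgroup (GL (Fin 7) F)) := by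
  set q := Fintype.card F with hq
  have hq2 : 2 ≤ q := Fintype.one_lt_card
  have hpq : ¬ p ∣ q := fun h => by
    rw [(ZMod.natCast_eq_zero_iff _ _).2 h, orderOf_zero] at hd
    omega
  obtain ⟨f, hf⟩ := Arith.exists_embedding_GL (F := F) (q := q) rfl 7 hpq
    (m := p ^ padicValNat p (q ^ orderOf (q : ZMod p) - 1)) pow_padicValNat_dvd
  haveI : Unique (Fin (7 / orderOf (q : ZMod p))) := by rw [hd]; exact Fin.instUnique
  haveI : IsCyclic (Fin (7 / orderOf (q : ZMod p)) →
      Multiplicative (ZMod (p ^ padicValNat p (q ^ orderOf (q : ZMod p) - 1)))) :=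
    (MulEquiv.piUnique _).isCyclic.2 inferInstance
  refine isCyclic_sylow_of_emb f hf ?_ S
  rw [Arith.card_pi_zmod, hd, show (7 / 6 : ℕ) = 1 from rfl, one_mul]
  congr 1
  have hne : ∀ i : Fin 7, q ^ 7 - q ^ (i : ℕ) ≠ 0 := fun i =>
    (Nat.sub_pos_of_lt (Nat.pow_lt_pow_right (by omega) i.2)).ne'
  rw [Matrix.card_GL_field, Arith.padicValNat_finsetProd _ _ (fun i _ => hne i),
    Finset.sum_eq_single (1 : Fin 7)]
  · rw [show q ^ 7 - q ^ ((1 : Fin 7) : ℕ) = q * (q ^ 6 - 1) by
      rw [Nat.mul_sub, mul_one, ← pow_succ']; simp,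
      padicValNat.mul (by omega) (Nat.sub_pos_of_lt (Nat.one_lt_pow (by omega) (by omega))).ne',
      padicValNat.eq_zero_of_not_dvd hpq, zero_add]
  · intro i _ hi
    refine padicValNat.eq_zero_of_not_dvd fun h => ?_
    rw [show q ^ 7 - q ^ (i : ℕ) = q ^ (i : ℕ) * (q ^ (7 - (i : ℕ)) - 1) by
      rw [Nat.mul_sub, mul_one, ← pow_add, Nat.add_sub_cancel' i.2.le]] at h
    rcases (Fact.out : p.Prime).dvd_mul.1 h with h | h
    · exact hpq ((Fact.out : p.Prime).dvd_of_dvd_pow h)
    · have h6 := (Arith.dvd_pow_sub_one_iff (r := p) (k := 7 - (i : ℕ)) (show 1 ≤ q by omega)).1 h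
      rw [hd] at h6
      have := i.2
      have : (i : ℕ) ≠ 1 := fun e => hi (Fin.ext e)
      omega
  · exact fun h => absurd (Finset.mem_univ _) h

variable {K : Type*} [Field K] [Fintype K]

theorem orderOf_eq_six {p : ℕ} [Fact p.Prime] {z : ZMod p} (h2 : (2 : ZMod p) ≠ 0)
    (h3 : (3 : ZMod p) ≠ 0) (hz : z ^ 2 - z + 1 = 0) : orderOf z = 6 := by
  have h0 : z ^ 3 = -1 := by linear_combination (z + 1) * hz
  refine (orderOf_eq_iff (by norm_num)).2 ⟨by linear_combination (z ^ 3 - 1) * h0, fun m hm h0' e => ?_⟩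
  interval_cases m
  · rw [pow_one] at e
    rw [e] at hz
    exact one_ne_zero (by linear_combination hz)
  · have : z = 2 := by linear_combination hz * -1 + e
    rw [this] at e
    exact h3 (by linear_combination e)
  · exact h2 (by linear_combination h0 - e)
  · have : z = -1 := by linear_combination z * h0 - e
    rw [this] at hz
    exact h3 (by linear_combination hz)
  · have e5 : z ^ 2 = -1 := by linear_combination z ^ 2 * h0 - e
    have : z = 0 := by linear_combination e5 - hz
    rw [this] at e5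
    exact one_ne_zero (by linear_combination e5)

namespace Par

variable (P : Par K)
include P

theorem val_card_T {p : ℕ} [Fact p.Prime] (hp : 3 < p) :
    padicValNat p (Nat.card ↥(twistedG2 K P.e)) = padicValNat p (Nat.card K - 1) +
      (padicValNat p (Nat.card K + 1) +
        padicValNat p (Nat.card K * (Nat.card K - 1) + 1)) := by
  obtain ⟨n, hn, e⟩ := P.card_pow_three
  have hK : 2 ≤ Nat.card K := Finite.one_lt_card
  have hnd : ¬ p ∣ Nat.card K ^ 3 := fun h => by
    rw [e, ← pow_mul] at h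
    have h' := (Fact.out : p.Prime).dvd_of_dvd_pow h
    have := (Nat.prime_dvd_prime_iff_eq Fact.out Nat.prime_three).1 h'
    omega
  have he : 1 + Nat.card K ^ 3 = (Nat.card K + 1) * (Nat.card K * (Nat.card K - 1) + 1) := by
    obtain ⟨k, hk⟩ : ∃ k, Nat.card K = k + 1 := ⟨Nat.card K - 1, by omega⟩
    rw [hk, Nat.add_sub_cancel]; ring
  rw [P.card_T, he, padicValNat.mul (Nat.mul_ne_zero (pow_ne_zero _ (by omega)) (by omega))
    (by positivity), padicValNat.mul (pow_ne_zero _ (by omega)) (by omega),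
    padicValNat.mul (by omega) (by omega), padicValNat.eq_zero_of_not_dvd hnd, zero_add]

/-- `Φ` into `T`. -/
noncomputable def ΦT : Matrix.SpecialLinearGroup (Fin 2) K →* ↥(twistedG2 K P.e) :=
  ((chevG2.group K).subtype.comp P.Φ).codRestrict _ fun g =>
    P.mem_T.2 (P.mem_CA.1 (P.Φ_mem g)).1

/-- `T` acting on seven dimensions. -/
noncomputable def gl7 : ↥(twistedG2 K P.e) →* GL (Fin 7) K :=
  haveI : CharP K H37.Isog.dataG2.p := P.char
  (H37.Isog.goodG2.idealHom (F := K) (Q K).ord).comp (Subgroup.inclusion P.T_le)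

theorem gl7_injective : Function.Injective P.gl7 :=
  fun _ _ h => Subgroup.inclusion_injective P.T_le (P.idealHom_injective h)

theorem sylow_cyclic {p : ℕ} [Fact p.Prime] (hp : 3 < p) (S : Sylow p ↥(twistedG2 K P.e)) :
    IsCyclic (S : Subgroup ↥(twistedG2 K P.e)) := by
  classical
  haveI : Finite ↥(twistedG2 K P.e) := Subtype.finite
  have hpp : p.Prime := Fact.out
  have hK : 2 ≤ Nat.card K := Finite.one_lt_card
  have hv := P.val_card_T hp
  set q := Nat.card K with hq
  have hsq : q * (q - 1) + 1 + q = q ^ 2 + 1 := by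
    obtain ⟨k, hk⟩ : ∃ k, q = k + 1 := ⟨q - 1, by omega⟩
    rw [hk, Nat.add_sub_cancel]; ring
  have hq1 : ((q - 1 : ℕ) : ZMod p) = q - 1 := by
    rw [Nat.cast_sub (by omega), Nat.cast_one]
  have h2 : (2 : ZMod p) ≠ 0 := fun h => by
    have := Nat.le_of_dvd (by norm_num) ((ZMod.natCast_eq_zero_iff 2 p).1 (by exact_mod_cast h))
    omega
  have h3 : (3 : ZMod p) ≠ 0 := fun h => by
    have := Nat.le_of_dvd (by norm_num) ((ZMod.natCast_eq_zero_iff 3 p).1 (by exact_mod_cast h))
    omega
  by_cases hA : p ∣ q - 1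
  · have z0 : (q : ZMod p) = 1 := by
      rw [← sub_eq_zero, ← hq1]; exact (ZMod.natCast_eq_zero_iff _ _).2 hA
    have hB : ¬ p ∣ q + 1 := fun h => h2 (by
      have := (ZMod.natCast_eq_zero_iff _ _).2 h; push_cast at this; rw [z0] at this
      linear_combination this)
    have hC : ¬ p ∣ q * (q - 1) + 1 := fun h => one_ne_zero (α := ZMod p) (by
      have := (ZMod.natCast_eq_zero_iff _ _).2 h; push_cast [hq1] at this; rw [z0] at this
      linear_combination this)
    rw [padicValNat.eq_zero_of_not_dvd hB, padicValNat.eq_zero_of_not_dvd hC, add_zero,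
      add_zero] at hv
    obtain ⟨R⟩ := (inferInstance : Nonempty (Sylow p Kˣ))
    let f : ↥(R : Subgroup Kˣ) →* ↥(twistedG2 K P.e) :=
      ((Subgroup.inclusion inf_le_right).comp P.hT).comp (R : Subgroup Kˣ).subtype
    refine isCyclic_sylow_of_emb f
      (((Subgroup.inclusion_injective inf_le_right).comp P.hT_bijective.1).comp
        Subtype.val_injective) ?_ S
    rw [R.card_eq_multiplicity, hv, Nat.factorization_def _ hpp, Nat.card_units]
  by_cases hB : p ∣ q + 1
  · have z0 : (q : ZMod p) = -1 := by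
      have := (ZMod.natCast_eq_zero_iff _ _).2 hB; push_cast at this
      linear_combination this
    have hC : ¬ p ∣ q * (q - 1) + 1 := fun h => h3 (by
      have := (ZMod.natCast_eq_zero_iff _ _).2 h; push_cast [hq1] at this; rw [z0] at this
      linear_combination this)
    rw [padicValNat.eq_zero_of_not_dvd hA, padicValNat.eq_zero_of_not_dvd hC, add_zero,
      zero_add] at hv
    haveI := P.char
    haveI : Fact (Nat.Prime 3) := ⟨Nat.prime_three⟩
    obtain ⟨R⟩ := (inferInstance : Nonempty (Sylow p (Matrix.SpecialLinearGroup (Fin 2) K)))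
    haveI : IsCyclic ↥(R : Subgroup (Matrix.SpecialLinearGroup (Fin 2) K)) :=
      H27.ProjLine.isCyclic_sl_two_subgroup 3 p (by omega) (by omega) _ R.isPGroup'
    refine isCyclic_sylow_of_emb (P.ΦT.comp (R : Subgroup _).subtype) ?_ ?_ S
    · rw [injective_iff_map_eq_one]
      intro x hx
      have hx' : P.Φ (x : Matrix.SpecialLinearGroup (Fin 2) K) = 1 :=
        Subtype.ext (congrArg (fun u : ↥(twistedG2 K P.e) => (u : GL chevG2.Idx K)) hx)
      rcases (P.Φ_ker _).1 hx' with e | e
      · exact Subtype.ext e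
      · exfalso
        have h2x : x ^ 2 = 1 := Subtype.ext (by push_cast; rw [e]; simp)
        obtain ⟨k, hk⟩ := R.isPGroup' x
        have hd : orderOf x ∣ Nat.gcd 2 (p ^ k) :=
          Nat.dvd_gcd (orderOf_dvd_of_pow_eq_one h2x) (orderOf_dvd_of_pow_eq_one hk)
        rw [((Nat.coprime_primes Nat.prime_two hpp).2 (by omega) |>.pow_right k).gcd_eq_one,
          Nat.dvd_one, orderOf_eq_one_iff] at hd
        rw [hd] at e
        have e00 := congrArg (fun g : Matrix.SpecialLinearGroup (Fin 2) K => g 0 0) e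
        simp at e00
        exact P.one_ne_neg e00.symm
    · rw [R.card_eq_multiplicity, hv, Nat.factorization_def _ hpp, Linear.card_SL_two,
        ← Nat.card_eq_fintype_card, ← hq, padicValNat.mul (by omega)
          (Nat.sub_pos_of_lt (Nat.one_lt_pow (by omega) (by omega))).ne',
        show q ^ 2 - 1 = (q + 1) * (q - 1) by simpa using Nat.sq_sub_sq q 1,
        padicValNat.mul (by omega) (by omega), padicValNat.eq_zero_of_not_dvd hA,
        padicValNat.eq_zero_of_not_dvd (n := q) ?_, zero_add, add_zero]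
      intro h
      have h' := (ZMod.natCast_eq_zero_iff _ _).2 h
      rw [z0, neg_eq_zero] at h'
      exact one_ne_zero h'
  by_cases hC : p ∣ q * (q - 1) + 1
  · have hd : orderOf (Fintype.card K : ZMod p) = 6 := by
      refine orderOf_eq_six h2 h3 ?_
      have := (ZMod.natCast_eq_zero_iff _ _).2 hC; push_cast [hq1] at this
      rw [← Nat.card_eq_fintype_card, ← hq]
      linear_combination this
    obtain ⟨R, hR⟩ := (S.isPGroup'.map P.gl7).exists_le_sylow
    haveI := isCyclic_sylow_gl_seven hd R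
    have : IsCyclic ↥((S : Subgroup _).map P.gl7) :=
      isCyclic_of_injective (Subgroup.inclusion hR) (Subgroup.inclusion_injective hR)
    exact ((S : Subgroup _).equivMapOfInjective P.gl7 P.gl7_injective).isCyclic.2 this
  rw [padicValNat.eq_zero_of_not_dvd hA, padicValNat.eq_zero_of_not_dvd hB,
    padicValNat.eq_zero_of_not_dvd hC] at hv
  refine isCyclic_sylow_of_emb (A := (⊥ : Subgroup ↥(twistedG2 K P.e))) (Subgroup.subtype _)
    Subtype.val_injective ?_ S
  rw [hv, add_zero, pow_zero, Subgroup.card_bot]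

end Par

end Cfsg.Agent.H38.Ree
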