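import Cfsg.Agent.H38.Ree.SylowTwo
import Cfsg.Agent.H38.Ree.Perfect

/-!
The normaliser of a Sylow two-subgroup of `²G₂(q)`, `q > 3`, has order `168`.
-/
set_option autoImplicit false
set_option maxRecDepth 100000

namespace Cfsg.Agent.H38.Ree

open scoped Pointwise
open Cfsg.Lie Cfsg.Agent.H37.RootSys Cfsg.Agent.H37.Twist Cfsg.Agent.H37.NormalForm

/-- The elementary group of order eight. -/
abbrev EV := Multiplicative (ZMod 2) × (Multiplicative (ZMod 2) × Multiplicative (ZMod 2))

/-- The automorphism of order three. -/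
def cycleEV : EV → EV := fun p => (p.1, (p.2.2, p.2.1 * p.2.2))

/-- The first generator. -/
def baseEV : EV := (Multiplicative.ofAdd 1, 1)

theorem baseEV_spec : baseEV * baseEV = 1 ∧ baseEV ≠ 1 := by decide +kernel

/-- The two three-cycles. -/
def orbA : Finset EV := {(1, Multiplicative.ofAdd 1, 1), (1, 1, Multiplicative.ofAdd 1),
  (1, Multiplicative.ofAdd 1, Multiplicative.ofAdd 1)}

/-- The three-cycle shifted by the fixed element. -/
def orbB : Finset EV := {(Multiplicative.ofAdd 1, Multiplicative.ofAdd 1, 1),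
  (Multiplicative.ofAdd 1, 1, Multiplicative.ofAdd 1),
  (Multiplicative.ofAdd 1, Multiplicative.ofAdd 1, Multiplicative.ofAdd 1)}

theorem orb_cases : ∀ p : EV, p = 1 ∨ p = baseEV ∨ p ∈ orbA ∨ p ∈ orbB := by decide +kernel

theorem orb_cycle : ∀ p ∈ orbA, p = (1, Multiplicative.ofAdd 1, 1) ∨
    p = cycleEV (1, Multiplicative.ofAdd 1, 1) ∨
    p = cycleEV (cycleEV (1, Multiplicative.ofAdd 1, 1)) := by decide +kernel

theorem orb_cycle' : ∀ p ∈ orbB, p = (Multiplicative.ofAdd 1, Multiplicative.ofAdd 1, 1) ∨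
    p = cycleEV (Multiplicative.ofAdd 1, Multiplicative.ofAdd 1, 1) ∨
    p = cycleEV (cycleEV (Multiplicative.ofAdd 1, Multiplicative.ofAdd 1, 1)) := by decide +kernel

theorem cycleEV_three : ∀ p : EV, cycleEV (cycleEV (cycleEV p)) = p := by decide +kernel

theorem orb_cards : ({baseEV} ∪ orbA : Finset EV).card = 4 ∧
    ({baseEV} ∪ orbB : Finset EV).card = 4 ∧
    ({baseEV} ∪ orbA ∪ orbB : Finset EV).card = 7 := by decide +kernel

theorem orb_not : baseEV ∉ orbA ∧ baseEV ∉ orbB := by decide +kernel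

theorem orb_one : (1 : EV) ∉ ({baseEV} ∪ orbA ∪ orbB : Finset EV) ∧
    (1 : EV) ∉ ({baseEV} ∪ orbA : Finset EV) ∧ (1 : EV) ∉ ({baseEV} ∪ orbB : Finset EV) := by
  decide +kernel

theorem orb_disjA : ∀ p ∈ orbA, ¬ (p ∈ orbB) ∧ ¬ (p = baseEV) := by decide +kernel

theorem orb_disjB : ∀ p ∈ orbB, ¬ (p ∈ orbA) ∧ ¬ (p = baseEV) := by decide +kernel

theorem orb_disj : (∀ p ∈ orbA, p ∉ ({baseEV} ∪ orbB : Finset EV)) ∧
    ∀ p ∈ orbB, p ∉ ({baseEV} ∪ orbA : Finset EV) := by
  constructor <;> intro p hp h <;> rw [Finset.mem_union, Finset.mem_singleton] at h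
  · exact h.elim (orb_disjA p hp).2 (orb_disjA p hp).1
  · exact h.elim (orb_disjB p hp).2 (orb_disjB p hp).1

theorem orbit_shape (O : Finset EV) (hs : ∀ p ∈ O, cycleEV p ∈ O) (hb : baseEV ∈ O)
    (h1 : (1 : EV) ∉ O) (hodd : O.card % 2 = 1) : O = {baseEV} ∨ O.card = 7 := by
  have hiff : ∀ p, p ∈ O ↔ cycleEV p ∈ O := fun p => ⟨hs p, fun h => by
    have := hs _ (hs _ h)
    rwa [cycleEV_three] at this⟩
  have hA : ∀ p ∈ orbA, (p ∈ O ↔ (1, Multiplicative.ofAdd 1, 1) ∈ O) := fun p hp => by
    rcases orb_cycle p hp with rfl | rfl | rfl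
    · rfl
    · exact (hiff _).symm
    · exact ((hiff _).trans (hiff _)).symm
  have hB : ∀ p ∈ orbB, (p ∈ O ↔
      (Multiplicative.ofAdd 1, Multiplicative.ofAdd 1, 1) ∈ O) := fun p hp => by
    rcases orb_cycle' p hp with rfl | rfl | rfl
    · rfl
    · exact (hiff _).symm
    · exact ((hiff _).trans (hiff _)).symm
  obtain ⟨c1, c2, c3⟩ := orb_cards
  by_cases a : (1, Multiplicative.ofAdd 1, 1) ∈ O <;>
    by_cases b : (Multiplicative.ofAdd 1, Multiplicative.ofAdd 1, 1) ∈ O
  · refine Or.inr ((congrArg Finset.card (?_ : O = {baseEV} ∪ orbA ∪ orbB)).trans c3)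
    ext p
    rcases orb_cases p with rfl | rfl | h | h
    · exact iff_of_false h1 orb_one.1
    · exact iff_of_true hb (Finset.mem_union_left _ (Finset.mem_union_left _ (by simp)))
    · exact iff_of_true ((hA p h).2 a) (Finset.mem_union_left _ (Finset.mem_union_right _ h))
    · exact iff_of_true ((hB p h).2 b) (Finset.mem_union_right _ h)
  · exfalso
    have e : O = {baseEV} ∪ orbA := by
      ext p
      rcases orb_cases p with rfl | rfl | h | h
      · exact iff_of_false h1 orb_one.2.1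
      · exact iff_of_true hb (Finset.mem_union_left _ (by simp))
      · exact iff_of_true ((hA p h).2 a) (Finset.mem_union_right _ h)
      · exact iff_of_false (fun h' => b ((hB p h).1 h')) (orb_disj.2 p h)
    rw [e, c1] at hodd; omega
  · exfalso
    have e : O = {baseEV} ∪ orbB := by
      ext p
      rcases orb_cases p with rfl | rfl | h | h
      · exact iff_of_false h1 orb_one.2.2
      · exact iff_of_true hb (Finset.mem_union_left _ (by simp))
      · exact iff_of_false (fun h' => a ((hA p h).1 h')) (orb_disj.1 p h)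
      · exact iff_of_true ((hB p h).2 b) (Finset.mem_union_right _ h)
    rw [e, c2] at hodd; omega
  · refine Or.inl ?_
    ext p
    rcases orb_cases p with rfl | rfl | h | h
    · exact iff_of_false h1 fun e => baseEV_spec.2 (Finset.mem_singleton.1 e).symm
    · exact iff_of_true hb (Finset.mem_singleton_self _)
    · exact iff_of_false (fun h' => a ((hA p h).1 h')) fun e =>
        orb_not.1 (Finset.mem_singleton.1 e ▸ h)
    · exact iff_of_false (fun h' => b ((hB p h).1 h')) fun e =>
        orb_not.2 (Finset.mem_singleton.1 e ▸ h)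

theorem cycleEV_move : cycleEV (1, (Multiplicative.ofAdd 1, 1)) ≠
    (1, (Multiplicative.ofAdd 1, 1)) := by decide +kernel

theorem baseEV_mul : ∀ p : EV, baseEV * (baseEV * p) = p := by decide +kernel

theorem split_EV : ∀ p : EV, p = (if p.1 = 1 then 1 else baseEV) * (1, p.2) := by decide +kernel

theorem snd_cases : ∀ p v : EV, p.2 = v.2 → p = v ∨ p = baseEV * v := by decide +kernel

/-- An automorphism group of odd order fixing the base element has order dividing three. -/
theorem stab_dvd_three (A : Subgroup (MulAut EV)) (hA : Odd (Nat.card A))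
    (hfix : ∀ φ ∈ A, φ baseEV = baseEV) : Nat.card A ∣ 3 := by
  classical
  have hsnd : ∀ φ : ↥A, ∀ p : EV, ((φ : MulAut EV) p).2 = ((φ : MulAut EV) (1, p.2)).2 :=
    fun φ p => by
      conv_lhs => rw [split_EV p]
      rw [map_mul, Prod.snd_mul, apply_ite (φ : MulAut EV), map_one, hfix φ.1 φ.2]
      split_ifs
      · exact one_mul _
      · exact one_mul _
  let ρ : ↥A →* Equiv.Perm (Multiplicative (ZMod 2) × Multiplicative (ZMod 2)) :=
    { toFun := fun φ =>
        { toFun := fun v => ((φ : MulAut EV) (1, v)).2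
          invFun := fun v => (((φ⁻¹ : ↥A) : MulAut EV) (1, v)).2
          left_inv := fun v => by
            show (((φ⁻¹ : ↥A) : MulAut EV) (1, ((φ : MulAut EV) (1, v)).2)).2 = v
            rw [← hsnd, InvMemClass.coe_inv, MulAut.inv_apply_self]
          right_inv := fun v => by
            show ((φ : MulAut EV) (1, (((φ⁻¹ : ↥A) : MulAut EV) (1, v)).2)).2 = v
            rw [← hsnd, InvMemClass.coe_inv, MulAut.apply_inv_self] }
      map_one' := Equiv.ext fun v => rfl
      map_mul' := fun φ χ => Equiv.ext fun v => hsnd φ _ }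
  have hinj : Function.Injective ρ := by
    rw [injective_iff_map_eq_one]
    intro φ hφ
    have hsq : ∀ p, (φ : MulAut EV) ((φ : MulAut EV) p) = p := fun p => by
      have h2 : ((φ : MulAut EV) p).2 = p.2 :=
        (hsnd φ p).trans (Equiv.congr_fun hφ p.2)
      rcases snd_cases _ _ h2 with e | e
      · rw [e, e]
      · rw [e, map_mul, e, hfix φ.1 φ.2, baseEV_mul]
    have h2 : φ ^ 2 = 1 := Subtype.ext (MulEquiv.ext fun p => by
      show (φ : MulAut EV) ((φ : MulAut EV) p) = p
      exact hsq p)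
    rcases (Nat.dvd_prime Nat.prime_two).1 (orderOf_dvd_of_pow_eq_one h2) with h | h
    · exact orderOf_eq_one_iff.1 h
    · exact absurd (h ▸ Odd.of_dvd_nat hA (orderOf_dvd_natCard φ)) (by decide)
  have h := Subgroup.card_dvd_of_injective ρ hinj
  rw [Nat.card_eq_fintype_card (α := Equiv.Perm _), Fintype.card_perm, Fintype.card_prod,
    Fintype.card_multiplicative, ZMod.card] at h
  have hc : Nat.Coprime (Nat.card A) (2 ^ 3) := (Nat.coprime_two_right.2 hA).pow_right 3
  exact hc.dvd_of_dvd_mul_left (h.trans (dvd_of_eq (by decide)))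

namespace Klein

variable {K : Type*} [Field K] {α β : K} (h : α ^ 2 + β ^ 2 = -1)

/-- The element permuting the four-group cyclically. -/
def gM (h3 : (3 : K) = 0) : Matrix.SpecialLinearGroup (Fin 2) K :=
  ⟨!![-(1 + α + β), -(1 + β - α); -(-1 + β - α), -(1 - α - β)], by
    rw [Matrix.det_fin_two_of]
    have := h
    linear_combination -2 * this + h3⟩

theorem coe_gM (h3 : (3 : K) = 0) :
    ((gM h h3 : Matrix.SpecialLinearGroup (Fin 2) K) : Matrix (Fin 2) (Fin 2) K) =
      !![-(1 + α + β), -(1 + β - α); -(-1 + β - α), -(1 - α - β)] := rfl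

theorem gM_conj (h3 : (3 : K) = 0) :
    mk (gM h h3) * mk wM = mk (sM α β h) * mk (gM h h3) ∧
    mk (gM h h3) * mk (sM α β h) = mk wM * mk (sM α β h) * mk (gM h h3) := by
  constructor
  · rw [← map_mul, ← map_mul]
    refine congrArg mk (Subtype.ext ?_)
    simp only [Matrix.SpecialLinearGroup.coe_mul, coe_wM, coe_sM, coe_gM, Matrix.mul_fin_two]
    ext i j
    fin_cases i <;> fin_cases j <;> simp
    all_goals first | linear_combination h | linear_combination -h | linear_combination (0 : K)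
  · rw [← map_mul, ← map_mul, ← map_mul]
    refine congrArg mk (Subtype.ext ?_)
    simp only [Matrix.SpecialLinearGroup.coe_mul, coe_wM, coe_sM, coe_gM, Matrix.mul_fin_two]
    ext i j
    fin_cases i <;> fin_cases j <;> simp
    all_goals first | linear_combination h | linear_combination -h | linear_combination (0 : K)

end Klein

namespace Par

variable {K : Type*} [Field K] [Fintype K] (P : Par K)
include P

theorem conj_of_mul {G : Type*} [Group G] {g a b : G} (h : g * a = b * g) : g * a * g⁻¹ = b :=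
  mul_inv_eq_iff_eq_mul.2 h

/-- The element of order three. -/
noncomputable def rK : Matrix.ProjectiveSpecialLinearGroup (Fin 2) K :=
  Klein.mk (Klein.gM P.exists_sum.choose_spec P.three_eq)

theorem rK_conj (q : Multiplicative (ZMod 2) × Multiplicative (ZMod 2)) :
    P.rK * P.V4 q * P.rK⁻¹ = P.V4 (q.2, q.1 * q.2) := by
  obtain ⟨x, y⟩ := q
  obtain ⟨h1, h2⟩ := Klein.gM_conj P.exists_sum.choose_spec P.three_eq
  have hw : ∀ x : Multiplicative (ZMod 2), P.rK * twoHom _ Klein.wM_sq x * P.rK⁻¹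
      = twoHom P.sK P.sK_sq x := fun x => by
    rcases mult_two x with rfl | rfl
    · rw [map_one, map_one, mul_one, mul_inv_cancel]
    · rw [twoHom_one, twoHom_one]; exact P.conj_of_mul h1
  have hs : ∀ y : Multiplicative (ZMod 2), P.rK * twoHom _ P.sK_sq y * P.rK⁻¹
      = twoHom _ Klein.wM_sq y * twoHom P.sK P.sK_sq y := fun y => by
    rcases mult_two y with rfl | rfl
    · rw [map_one, map_one, mul_one, mul_one, mul_inv_cancel]
    · rw [twoHom_one, twoHom_one]; exact P.conj_of_mul h2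
  have hc : ∀ x y : Multiplicative (ZMod 2), Commute (twoHom P.sK P.sK_sq x)
      (twoHom (Klein.mk (Klein.wM (K := K))) Klein.wM_sq y) := fun x y => by
    rcases mult_two x with rfl | rfl <;> rcases mult_two y with rfl | rfl <;>
      simp only [map_one, twoHom_one, Commute.one_left, Commute.one_right]
    exact (Klein.wM_sM_comm _).symm
  rw [V4_apply, V4_apply, show P.rK * (twoHom _ Klein.wM_sq x * twoHom _ P.sK_sq y) * P.rK⁻¹
    = (P.rK * twoHom _ Klein.wM_sq x * P.rK⁻¹) * (P.rK * twoHom _ P.sK_sq y * P.rK⁻¹) by group,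
    hw, hs, ← mul_assoc, (hc x y).eq, mul_assoc, ← map_mul]

/-- The element of order three of the twisted group. -/
noncomputable def rT : ↥(twistedG2 K P.e) := P.toT P.Θ P.Θ_fixed (1, P.rK)

theorem rT_conj (p : EV) : P.rT * P.eight p * P.rT⁻¹ = P.eight (cycleEV p) := by
  refine P.ιT_inj ?_
  rw [map_mul, map_mul, map_inv, eight_apply, eight_apply, rT, ιT_toT, ← map_inv, ← map_mul,
    ← map_mul]
  refine congrArg P.Θ (Prod.ext ?_ ?_)
  · show 1 * p.1 * 1⁻¹ = p.1
    rw [one_mul, inv_one, mul_one]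
  · exact P.rK_conj p.2

/-- The action of the normaliser. -/
noncomputable def autHom :
    ↥(Subgroup.normalizer (P.eight.range : Set ↥(twistedG2 K P.e))) →* MulAut EV :=
  (MulAut.congr (MonoidHom.ofInjective P.eight_injective).symm).toMonoidHom.comp
    (Subgroup.normalizerMonoidHom P.eight.range)

theorem autHom_spec (n : ↥(Subgroup.normalizer (P.eight.range : Set ↥(twistedG2 K P.e))))
    (p : EV) : P.eight (P.autHom n p) = (n : ↥(twistedG2 K P.e)) * P.eight p * (n : ↥(twistedG2 K P.e))⁻¹ := by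
  show ((MonoidHom.ofInjective P.eight_injective ((MonoidHom.ofInjective P.eight_injective).symm
    _) : P.eight.range) : ↥(twistedG2 K P.e)) = _
  rw [MulEquiv.apply_symm_apply]
  rfl

theorem autHom_ker : P.autHom.ker
    = P.eight.range.subgroupOf (Subgroup.normalizer (P.eight.range : Set ↥(twistedG2 K P.e))) := by
  ext n
  rw [MonoidHom.mem_ker, Subgroup.mem_subgroupOf]
  constructor
  · intro h
    refine P.eight_centralizer.le (Subgroup.mem_centralizer_iff.2 ?_)
    rintro _ ⟨p, rfl⟩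
    have e := P.autHom_spec n p
    rw [h] at e
    exact mul_inv_eq_iff_eq_mul.1 e.symm |>.symm
  · intro h
    replace h := Subgroup.mem_centralizer_iff.1 (P.eight_centralizer.ge h)
    refine MulEquiv.ext fun p => P.eight_injective ?_
    rw [P.autHom_spec, ← h _ ⟨p, rfl⟩, mul_inv_cancel_right]
    rfl

theorem card_normalizer_eq :
    Nat.card ↥(Subgroup.normalizer (P.eight.range : Set ↥(twistedG2 K P.e)))
      = 8 * Nat.card P.autHom.range := by
  rw [Subgroup.card_eq_card_quotient_mul_card_subgroup P.autHom.ker,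
    Nat.card_congr (QuotientGroup.quotientKerEquivRange P.autHom).toEquiv, P.autHom_ker,
    Nat.card_congr (Subgroup.subgroupOfEquivOfLe Subgroup.le_normalizer).toEquiv, P.card_eight,
    mul_comm]

theorem odd_range : Odd (Nat.card P.autHom.range) := by
  obtain ⟨r, hr, e⟩ := P.card_two_part
  have h := Subgroup.card_subgroup_dvd_card
    (Subgroup.normalizer (P.eight.range : Set ↥(twistedG2 K P.e)))
  rw [P.card_normalizer_eq, e] at h
  exact Odd.of_dvd_nat hr (Nat.dvd_of_mul_dvd_mul_left (by norm_num) h)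

theorem rT_mem : P.rT ∈ Subgroup.normalizer (P.eight.range : Set ↥(twistedG2 K P.e)) := by
  have hinv : ∀ p : EV, ∃ q, cycleEV q = p := fun p =>
    ⟨_, cycleEV_three p⟩
  rw [Subgroup.mem_normalizer_iff]
  intro x
  constructor
  · rintro ⟨p, rfl⟩
    exact ⟨_, (P.rT_conj p).symm⟩
  · rintro ⟨p, e⟩
    obtain ⟨q, rfl⟩ := hinv p
    rw [← P.rT_conj] at e
    exact ⟨q, mul_left_cancel (mul_right_cancel e)⟩

theorem autHom_rT (p : EV) : P.autHom ⟨P.rT, P.rT_mem⟩ p = cycleEV p :=
  P.eight_injective ((P.autHom_spec _ p).trans (P.rT_conj p))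

theorem three_dvd : 3 ∣ Nat.card P.autHom.range := by
  haveI : Fact (Nat.Prime 3) := ⟨Nat.prime_three⟩
  set c : ↥P.autHom.range := ⟨P.autHom ⟨P.rT, P.rT_mem⟩, _, rfl⟩
  have hc : ∀ p, (c : MulAut EV) p = cycleEV p := P.autHom_rT
  have h3 : orderOf c = 3 := by
    refine orderOf_eq_prime (Subtype.ext (MulEquiv.ext fun p => ?_)) fun h => ?_
    · show (((c ^ 3 : ↥P.autHom.range)) : MulAut EV) p = p
      rw [SubgroupClass.coe_pow, pow_three, MulAut.mul_apply, MulAut.mul_apply, hc, hc, hc]
      exact cycleEV_three p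
    · have := (hc (1, (Multiplicative.ofAdd 1, 1))).symm
      rw [h] at this
      exact cycleEV_move this
  exact h3 ▸ orderOf_dvd_natCard c

theorem not_fixed (hq : 4 < Nat.card K) :
    ∃ n : ↥(Subgroup.normalizer (P.eight.range : Set ↥(twistedG2 K P.e))),
      P.autHom n baseEV ≠ baseEV := by
  by_contra hcon
  push Not at hcon
  haveI : Fact (Nat.Prime 2) := ⟨Nat.prime_two⟩
  haveI : Finite ↥(twistedG2 K P.e) := Subtype.finite
  obtain ⟨S, hS⟩ := P.exists_sylow_two
  have hcomm : ∀ x ∈ P.eight.range, ∀ y ∈ P.eight.range, x * y = y * x := by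
    rintro _ ⟨p, rfl⟩ _ ⟨q, rfl⟩
    rw [← map_mul, ← map_mul, mul_comm]
  letI : CommGroup ↥P.eight.range :=
    { (inferInstance : Group ↥P.eight.range) with
      mul_comm := fun a b => Subtype.ext (hcomm _ a.2 _ b.2) }
  haveI : IsMulCommutative ↥(S : Subgroup ↥(twistedG2 K P.e)) :=
    ⟨⟨fun a b => Subtype.ext (hcomm _ (hS ▸ a.2) _ (hS ▸ b.2))⟩⟩
  set g := P.eight baseEV
  have key : ∀ (k : ℕ) (g₀ : ↥(twistedG2 K P.e)), g₀⁻¹ * g ^ k * g₀ ∈ P.eight.range →
      g₀⁻¹ * g ^ k * g₀ = g ^ k := by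
    intro k g₀ h
    have hg : g ^ k ∈ P.eight.range := pow_mem (show g ∈ P.eight.range from ⟨_, rfl⟩) k
    obtain ⟨n, hn, e⟩ := S.conj_eq_normalizer_conj_of_mem (g ^ k) g₀
      (show g ^ k ∈ (S : Subgroup _) from hS ▸ hg)
      (show g₀⁻¹ * g ^ k * g₀ ∈ (S : Subgroup _) from hS ▸ h)
    have hn' : n ∈ Subgroup.normalizer (P.eight.range : Set ↥(twistedG2 K P.e)) := by
      rw [← hS]; exact hn
    have h1 : n * g * n⁻¹ = g := by
      have := congrArg P.eight (hcon ⟨n, hn'⟩)
      rwa [P.autHom_spec] at this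
    have h2 : Commute n g := mul_inv_eq_iff_eq_mul.1 h1
    rw [e, (h2.pow_right k).inv_left.eq, inv_mul_cancel_right]
  have ht := MonoidHom.transfer_eq_pow (MonoidHom.id ↥P.eight.range) g key
  have hker : (MonoidHom.transfer (MonoidHom.id ↥P.eight.range)).ker = ⊤ := by
    rw [eq_top_iff, ← P.perfect hq]
    exact Abelianization.commutator_subset_ker _
  have h1 : MonoidHom.transfer (MonoidHom.id ↥P.eight.range) g = 1 :=
    MonoidHom.mem_ker.1 (hker ▸ Subgroup.mem_top g)
  rw [h1] at ht
  have h2 : g ^ P.eight.range.index = 1 := (congrArg Subtype.val ht).symm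
  have hidx : Odd P.eight.range.index := by
    obtain ⟨r, hr, e⟩ := P.card_two_part
    have h := P.eight.range.card_mul_index
    rw [P.card_eight, e] at h
    rwa [Nat.eq_of_mul_eq_mul_left (by norm_num) h]
  obtain ⟨i, hi⟩ := hidx
  have hg2 : g * g = 1 := by
    rw [← map_mul, baseEV_spec.1, map_one]
  rw [hi, pow_succ, pow_mul, pow_two, hg2, one_pow, one_mul] at h2
  exact baseEV_spec.2 (P.eight_injective (h2.trans (map_one _).symm))

theorem card_range (hq : 4 < Nat.card K) : Nat.card P.autHom.range = 21 := by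
  classical
  set A := P.autHom.range
  set O := (MulAction.orbit ↥A baseEV).toFinset with hO
  have hmem : ∀ p, p ∈ O ↔ ∃ φ : ↥A, (φ : MulAut EV) baseEV = p := fun p => by
    rw [hO, Set.mem_toFinset]; rfl
  have hdvd : O.card ∣ Nat.card A := by
    rw [hO, Set.toFinset_card, Nat.card_eq_fintype_card]
    exact Dvd.intro _ (MulAction.card_orbit_mul_card_stabilizer_eq_card_group ↥A baseEV)
  have hstab : ∀ p ∈ O, cycleEV p ∈ O := fun p hp => by
    obtain ⟨φ, rfl⟩ := (hmem _).1 hp
    exact (hmem _).2 ⟨⟨P.autHom ⟨P.rT, P.rT_mem⟩, _, rfl⟩ * φ, P.autHom_rT _⟩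
  have hone : (1 : EV) ∉ O := fun h1 => by
    obtain ⟨φ, e⟩ := (hmem _).1 h1
    exact baseEV_spec.2 ((φ : MulAut EV).injective (e.trans (map_one _).symm))
  rcases orbit_shape O hstab ((hmem _).2 ⟨1, rfl⟩) hone
    (Nat.odd_iff.1 (Odd.of_dvd_nat P.odd_range hdvd)) with h | h
  · exfalso
    obtain ⟨n, hn⟩ := P.not_fixed hq
    have := (hmem _).2 ⟨⟨P.autHom n, n, rfl⟩, rfl⟩
    rw [h, Finset.mem_singleton] at this
    exact hn this
  have hmul := MulAction.card_orbit_mul_card_stabilizer_eq_card_group ↥A baseEV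
  rw [← Set.toFinset_card, ← hO, h, ← Nat.card_eq_fintype_card, ← Nat.card_eq_fintype_card] at hmul
  set St := MulAction.stabilizer ↥A baseEV
  have hcard : Nat.card (St.map A.subtype) = Nat.card St :=
    (Nat.card_congr (Subgroup.equivMapOfInjective _ _ A.subtype_injective).toEquiv).symm
  have h3 : Nat.card St ∣ 3 := by
    rw [← hcard]
    refine stab_dvd_three _ (Odd.of_dvd_nat P.odd_range ?_) ?_
    · rw [hcard]; exact ⟨7, by rw [← hmul, mul_comm]⟩
    · rintro _ ⟨φ, hφ, rfl⟩
      exact hφ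
  have hd : 3 ∣ 7 * Nat.card St := hmul ▸ P.three_dvd
  rcases (Nat.dvd_prime Nat.prime_three).1 h3 with h' | h' <;> rw [h'] at hd hmul <;> omega

theorem card_normalizer (hq : 4 < Nat.card K) (S : Sylow 2 ↥(twistedG2 K P.e)) :
    Nat.card (Subgroup.normalizer
      ((S : Subgroup ↥(twistedG2 K P.e)) : Set ↥(twistedG2 K P.e))) = 168 := by
  haveI : Fact (Nat.Prime 2) := ⟨Nat.prime_two⟩
  haveI : Finite ↥(twistedG2 K P.e) := Subtype.finite
  obtain ⟨S0, hS0⟩ := P.exists_sylow_two
  obtain ⟨g, rfl⟩ := MulAction.exists_smul_eq ↥(twistedG2 K P.e) S0 S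
  have e : Subgroup.normalizer (((g • S0 : Sylow 2 ↥(twistedG2 K P.e)) :
      Subgroup ↥(twistedG2 K P.e)) : Set ↥(twistedG2 K P.e))
      = MulAut.conj g • Subgroup.normalizer (P.eight.range : Set ↥(twistedG2 K P.e)) := by
    rw [Sylow.coe_subgroup_smul, hS0]
    exact (Subgroup.map_equiv_normalizer_eq _ (MulAut.conj g)).symm
  rw [e, ← Nat.card_congr (Subgroup.equivSMul (MulAut.conj g) _).toEquiv, P.card_normalizer_eq,
    P.card_range hq]

end Par

end Cfsg.Agent.H38.Ree
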