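import Cfsg.Agent.H38.Ree.ThreePoint
import Cfsg.Agent.H38.Ree.NormTwo
import Cfsg.Agent.H38.Ree.Cyclic

/-!
`²G₂(q)`: the Borel subgroup, elements of order divisible by three.
-/
set_option autoImplicit false
set_option maxRecDepth 100000

namespace Cfsg.Agent.H38.Ree

open Cfsg.Lie Cfsg.Agent.H37.RootSys Cfsg.Agent.H37.Twist Cfsg.Agent.H37.NormalForm

theorem h_conj_mem {K : Type*} [Field K] {h u : ↥(chevG2.group K)} (hh : h ∈ (Q K).sys.H)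
    (hu : u ∈ (Q K).sys.U) : h * u * h⁻¹ ∈ (Q K).sys.U := by
  refine conj_mem_XS (fun r hr t => ?_) hu
  obtain ⟨t', e'⟩ := (Q K).sys.h_conj h hh r (mem_posSet.1 (Finset.mem_coe.1 hr)).1 t
  rw [e']
  exact x_mem_XS hr _

namespace Par

variable {K : Type*} [Field K] [Fintype K] (P : Par K)
include P

/-- The torus in the twisted group. -/
def ft : Kˣ →* ↥(twistedG2 K P.e) := P.toT P.hp P.σ_hp

theorem inc_ft (y : Kˣ) : P.inc (P.ft y) = P.hp y := rfl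

theorem ft_injective : Function.Injective P.ft := fun _ _ h =>
  P.hp_inj (congrArg P.inc h)

theorem card_units : Nat.card Kˣ = Nat.card K - 1 := Nat.card_units K

theorem mem_UT {u : ↥(twistedG2 K P.e)} : u ∈ P.UT ↔ P.inc u ∈ (Q K).sys.U :=
  Subgroup.mem_subgroupOf.trans (sysU_mem (x := P.inc u)).symm

theorem UT_le_BT : P.UT ≤ P.BT := fun u hu =>
  P.mem_BT.2 ⟨P.inc u, P.mem_UT.1 hu, 1, one_mem _, (mul_one _).symm⟩

theorem ft_mem_BT (y : Kˣ) : P.ft y ∈ P.BT :=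
  P.mem_BT.2 ⟨1, one_mem _, P.hp y, P.hp_mem y, (one_mul _).symm⟩

theorem BT_form {g : ↥(twistedG2 K P.e)} :
    g ∈ P.BT ↔ ∃ u ∈ P.UT, ∃ y, g = u * P.ft y := by
  constructor
  · intro hg
    obtain ⟨u, hu, h, hh, e⟩ := P.mem_BT.1 hg
    obtain ⟨huf, hhf⟩ := P.fixed_parts hu hh (by rw [← e]; exact P.inc_fixed g)
    obtain ⟨y, rfl⟩ := P.exists_hp hh hhf
    exact ⟨P.lift u huf, P.mem_UT.2 hu, y, P.inc_inj (by rw [map_mul, inc_lift, inc_ft, e])⟩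
  · rintro ⟨u, hu, y, rfl⟩
    exact mul_mem (P.UT_le_BT hu) (P.ft_mem_BT y)

theorem ft_conj_UT (y : Kˣ) {u : ↥(twistedG2 K P.e)} (hu : u ∈ P.UT) :
    P.ft y * u * (P.ft y)⁻¹ ∈ P.UT := by
  rw [P.mem_UT, map_mul, map_mul, map_inv, inc_ft]
  exact h_conj_mem (P.hp_mem y) (P.mem_UT.1 hu)

theorem BT_unique {u u' : ↥(twistedG2 K P.e)} {y y' : Kˣ} (hu : u ∈ P.UT) (hu' : u' ∈ P.UT)
    (e : u * P.ft y = u' * P.ft y') : u = u' ∧ y = y' := by
  have e1 : P.inc (u'⁻¹ * u) = P.hp (y' * y⁻¹) := by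
    rw [← inc_ft, map_mul P.ft, map_inv P.ft]
    congr 1
    rw [eq_mul_inv_iff_mul_eq, mul_assoc, e, inv_mul_cancel_left]
  have h1 := U_inter_H (P.mem_UT.1 (mul_mem (inv_mem hu') hu)) (P.hp_mem _) e1
  have h2 : u'⁻¹ * u = 1 := P.inc_inj (h1.trans (map_one _).symm)
  obtain rfl : u = u' := (inv_mul_eq_one.1 h2).symm
  exact ⟨rfl, P.ft_injective (mul_left_cancel e)⟩

theorem mem_BT_of_conj {g x : ↥(twistedG2 K P.e)} (hx : x ∈ P.UT) (hx1 : x ≠ 1)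
    (hgx : g * x * g⁻¹ ∈ P.UT) : g ∈ P.BT := by
  rcases P.cells (P.inc_fixed g) with ⟨u, h, hu, -, hh, -, e⟩ | ⟨u, h, v, hu, -, hh, hv, -, e⟩
  · exact P.mem_BT.2 ⟨u, hu, h, hh, e⟩
  · exfalso
    refine hx1 (P.inc_inj ?_)
    rw [map_one]
    refine P.big_cell_TI hu hh hv (P.mem_UT.1 hx) ?_
    rw [← e, ← map_inv, ← map_mul, ← map_mul]
    exact P.mem_UT.1 hgx

theorem pow_mem_UT {g : ↥(twistedG2 K P.e)} (hg : g ∈ P.BT) :
    g ^ (Nat.card K - 1) ∈ P.UT := by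
  obtain ⟨u, hu, y, rfl⟩ := P.BT_form.1 hg
  have key : ∀ k : ℕ, ∃ w ∈ P.UT, (u * P.ft y) ^ k = w * P.ft (y ^ k) := by
    intro k
    induction k with
    | zero => exact ⟨1, one_mem _, by simp⟩
    | succ k ih =>
      obtain ⟨w, hw, e⟩ := ih
      refine ⟨w * (P.ft (y ^ k) * u * (P.ft (y ^ k))⁻¹), mul_mem hw (P.ft_conj_UT _ hu), ?_⟩
      rw [pow_succ, e, pow_succ y k, map_mul P.ft]
      group
  obtain ⟨w, hw, e⟩ := key (Nat.card K - 1)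
  rw [e, ← P.card_units, pow_card_eq_one', map_one, mul_one]
  exact hw

theorem UT_pow {u : ↥(twistedG2 K P.e)} (hu : u ∈ P.UT) : u ^ Nat.card K ^ 3 = 1 := by
  haveI : Finite ↥(twistedG2 K P.e) := Subtype.finite
  rw [← P.card_UT]
  exact congrArg Subtype.val (pow_card_eq_one' (x := (⟨u, hu⟩ : ↥P.UT)))

theorem exists_conj_mem_UT {g : ↥(twistedG2 K P.e)} {k : ℕ} (hg : g ^ 3 ^ k = 1) :
    ∃ a : ↥(twistedG2 K P.e), a⁻¹ * g * a ∈ P.UT := by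
  haveI : Fact (Nat.Prime 3) := ⟨Nat.prime_three⟩
  haveI : Finite ↥(twistedG2 K P.e) := Subtype.finite
  obtain ⟨i, -, hi⟩ := (Nat.dvd_prime_pow Nat.prime_three).1 (orderOf_dvd_of_pow_eq_one hg)
  obtain ⟨S, hS⟩ := (IsPGroup.of_card (p := 3) (G := ↥(Subgroup.zpowers g))
    ((Nat.card_zpowers g).trans hi)).exists_le_sylow
  obtain ⟨S0, hS0⟩ := P.exists_sylow
  obtain ⟨a, rfl⟩ := MulAction.exists_smul_eq ↥(twistedG2 K P.e) S0 S
  have h := hS (Subgroup.mem_zpowers g)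
  rw [Sylow.coe_subgroup_smul, hS0] at h
  obtain ⟨x, hx, e⟩ := h
  refine ⟨a, ?_⟩
  have e' : a * x * a⁻¹ = g := e
  rw [show a⁻¹ * g * a = x by rw [← e']; group]
  exact hx

/-- The centraliser of an element of order three has order prime to the large primes. -/
theorem three_cent {g t : ↥(twistedG2 K P.e)} (ht : t ^ 3 = 1) (ht1 : t ≠ 1)
    (hc : g * t = t * g) : g ^ ((Nat.card K - 1) * Nat.card K ^ 3) = 1 := by
  obtain ⟨a, ha⟩ := P.exists_conj_mem_UT (k := 1) (by rwa [pow_one])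
  set t' := a⁻¹ * t * a with htdef
  set g' := a⁻¹ * g * a with hgdef
  have e : g' * t' * g'⁻¹ = t' := by
    rw [hgdef, htdef, show a⁻¹ * g * a * (a⁻¹ * t * a) * (a⁻¹ * g * a)⁻¹
      = a⁻¹ * (g * t * g⁻¹) * a by group, hc, mul_inv_cancel_right]
  have hB : g' ∈ P.BT := P.mem_BT_of_conj ha (fun h => ht1 (by
    rw [show t = a * t' * a⁻¹ by rw [htdef]; group, h]; group)) (e.symm ▸ ha)
  have h := P.UT_pow (P.pow_mem_UT hB)
  rw [← pow_mul] at h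
  have h2 : (MulAut.conj a⁻¹ g) = g' := by simp [hgdef]
  rw [← h2, ← map_pow] at h
  exact (MulAut.conj a⁻¹).injective (h.trans (map_one _).symm)

theorem fpf_UT {y : Kˣ} (hy : y ^ 2 ≠ 1) {u : ↥(twistedG2 K P.e)} (hu : u ∈ P.UT)
    (hc : P.ft y * u = u * P.ft y) : u = 1 := by
  obtain ⟨a, c, d, e⟩ := (P.fixed_iff (P.mem_UT.1 hu)).1 (P.inc_fixed u)
  obtain ⟨rfl, rfl, h⟩ := P.hp_commute (y := y) (fun h => hy (by rw [h, one_pow])) (a := a)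
    (c := c) (d := d) (by
      rw [← e, ← inc_ft, ← map_mul, ← map_mul, hc])
  refine P.inc_inj ?_
  rw [map_one, e, h hy, P.U1_zero]

/-- A regular torus element times a unipotent one is conjugate to the torus element. -/
theorem conj_of_regular {y : Kˣ} (hy : y ^ 2 ≠ 1) {u : ↥(twistedG2 K P.e)} (hu : u ∈ P.UT) :
    ∃ v ∈ P.UT, v * P.ft y * v⁻¹ = u * P.ft y := by
  haveI : Finite ↥(twistedG2 K P.e) := Subtype.finite
  let f : ↥P.UT → ↥P.UT := fun v =>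
    ⟨(v : ↥(twistedG2 K P.e)) * (P.ft y * (v : ↥(twistedG2 K P.e))⁻¹ * (P.ft y)⁻¹),
      mul_mem v.2 (P.ft_conj_UT y (inv_mem v.2))⟩
  have hf : Function.Injective f := by
    intro v w h
    have h' : (v : ↥(twistedG2 K P.e)) * (P.ft y * (v : ↥(twistedG2 K P.e))⁻¹ * (P.ft y)⁻¹)
        = w * (P.ft y * (w : ↥(twistedG2 K P.e))⁻¹ * (P.ft y)⁻¹) := congrArg Subtype.val h
    have h2 : (w : ↥(twistedG2 K P.e))⁻¹ * v = 1 := by
      refine P.fpf_UT hy (mul_mem (inv_mem w.2) v.2) ?_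
      calc P.ft y * ((w : ↥(twistedG2 K P.e))⁻¹ * v)
          = (w : ↥(twistedG2 K P.e))⁻¹ * (w * (P.ft y * (w : ↥(twistedG2 K P.e))⁻¹ *
              (P.ft y)⁻¹)) * P.ft y * v := by group
        _ = _ := by rw [← h']; group
    exact Subtype.ext (inv_mul_eq_one.1 h2).symm
  obtain ⟨v, hv⟩ := (Finite.injective_iff_surjective.1 hf) ⟨u, hu⟩
  refine ⟨v, v.2, ?_⟩
  have hv' : (v : ↥(twistedG2 K P.e)) * (P.ft y * (v : ↥(twistedG2 K P.e))⁻¹ * (P.ft y)⁻¹) = u :=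
    congrArg Subtype.val hv
  conv_rhs => rw [← hv']
  group

theorem card_BT : Nat.card ↥P.BT = Nat.card K ^ 3 * (Nat.card K - 1) := by
  haveI : Finite ↥(twistedG2 K P.e) := Subtype.finite
  rw [← P.card_UT, ← P.card_units, ← Nat.card_prod]
  refine (Nat.card_eq_of_bijective (fun p : ↥P.UT × Kˣ =>
    (⟨(p.1 : ↥(twistedG2 K P.e)) * P.ft p.2, P.BT_form.2 ⟨_, p.1.2, _, rfl⟩⟩ : ↥P.BT))
      ⟨?_, ?_⟩).symm
  · intro p p' h
    obtain ⟨h1, h2⟩ := P.BT_unique p.1.2 p'.1.2 (congrArg Subtype.val h)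
    exact Prod.ext (Subtype.ext h1) h2
  · rintro ⟨g, hg⟩
    obtain ⟨u, hu, y, rfl⟩ := P.BT_form.1 hg
    exact ⟨(⟨u, hu⟩, y), rfl⟩

theorem index_BT : P.BT.index = Nat.card K ^ 3 + 1 := by
  have h := P.BT.card_mul_index
  rw [P.card_BT, P.card_T] at h
  rw [add_comm]
  refine Nat.eq_of_mul_eq_mul_left ?_ h
  have : 1 < Nat.card K := Finite.one_lt_card
  exact Nat.mul_pos (by positivity) (by omega)

theorem BT_conj_UT {g u : ↥(twistedG2 K P.e)} (hg : g ∈ P.BT) (hu : u ∈ P.UT) :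
    g * u * g⁻¹ ∈ P.UT := by
  obtain ⟨w, hw, y, rfl⟩ := P.BT_form.1 hg
  rw [show w * P.ft y * u * (w * P.ft y)⁻¹ = w * (P.ft y * u * (P.ft y)⁻¹) * w⁻¹ by group]
  exact mul_mem (mul_mem hw (P.ft_conj_UT y hu)) (inv_mem hw)

end Par

end Cfsg.Agent.H38.Ree
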