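import Mathlib

/-!
A four-group in `PSL₂(K)` for `-1` a non-square, and its centraliser.
-/
set_option autoImplicit false

namespace Cfsg.Agent.H38.Ree.Klein

open Matrix

variable {K : Type*} [Field K]

local notation "SL" => Matrix.SpecialLinearGroup (Fin 2) K
local notation "PSL" => Matrix.ProjectiveSpecialLinearGroup (Fin 2) K

theorem mem_center {g : SL} : g ∈ Subgroup.center SL ↔ g = 1 ∨ g = -1 := by
  rw [Matrix.SpecialLinearGroup.mem_center_iff, Fintype.card_fin]
  constructor
  · rintro ⟨r, hr, e⟩
    rcases sq_eq_one_iff.1 hr with rfl | rfl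
    · exact Or.inl (Subtype.ext (by rw [← e, map_one]; rfl))
    · refine Or.inr (Subtype.ext ?_)
      rw [← e, map_neg, map_one, Matrix.SpecialLinearGroup.coe_neg]
      rfl
  · rintro (rfl | rfl)
    · exact ⟨1, one_pow 2, by rw [map_one]; rfl⟩
    · exact ⟨-1, neg_one_sq, by rw [map_neg, map_one, Matrix.SpecialLinearGroup.coe_neg]; rfl⟩

/-- The quotient map. -/
def mk : SL →* PSL := QuotientGroup.mk' _

theorem mk_surjective : Function.Surjective (mk (K := K)) := QuotientGroup.mk'_surjective _

theorem mk_eq {g h : SL} : mk g = mk h ↔ g = h ∨ g = -h := by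
  show (g : PSL) = (h : PSL) ↔ _
  rw [QuotientGroup.eq, mem_center]
  constructor
  · rintro (e | e)
    · exact Or.inl (inv_mul_eq_one.1 e)
    · rw [inv_mul_eq_iff_eq_mul, mul_neg, mul_one] at e
      exact Or.inr (by rw [e, neg_neg])
  · rintro (rfl | rfl)
    · exact Or.inl (inv_mul_cancel _)
    · refine Or.inr ?_
      rw [inv_mul_eq_iff_eq_mul, mul_neg, mul_one, neg_neg]

theorem mk_eq_one {g : SL} : mk g = 1 ↔ g = 1 ∨ g = -1 := by
  rw [← map_one mk, mk_eq]

/-- The rotation. -/
def wM : SL := ⟨!![0, 1; -1, 0], by simp [det_fin_two_of]⟩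

/-- A symmetric element. -/
def sM (α β : K) (h : α ^ 2 + β ^ 2 = -1) : SL :=
  ⟨!![α, β; β, -α], by rw [det_fin_two_of]; linear_combination -h⟩

variable {α β : K} (h : α ^ 2 + β ^ 2 = -1)

theorem coe_wM : ((wM : SL) : Matrix (Fin 2) (Fin 2) K) = !![0, 1; -1, 0] := rfl

theorem coe_sM : ((sM α β h : SL) : Matrix (Fin 2) (Fin 2) K) = !![α, β; β, -α] := rfl

theorem wM_sq : mk (wM (K := K)) * mk wM = 1 := by
  rw [← map_mul, mk_eq_one]
  refine Or.inr (Subtype.ext ?_)
  simp [Matrix.SpecialLinearGroup.coe_mul, coe_wM, Matrix.one_fin_two]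

theorem sM_sq : mk (sM α β h) * mk (sM α β h) = 1 := by
  rw [← map_mul, mk_eq_one]
  refine Or.inr (Subtype.ext ?_)
  simp only [Matrix.SpecialLinearGroup.coe_mul, coe_sM, Matrix.mul_fin_two,
    Matrix.SpecialLinearGroup.coe_neg, Matrix.SpecialLinearGroup.coe_one, Matrix.one_fin_two,
    Matrix.neg_of, Matrix.neg_cons, Matrix.neg_empty]
  ext i j
  fin_cases i <;> fin_cases j <;> simp
  all_goals first | linear_combination h | linear_combination -h | linear_combination (0 : K)

theorem wM_sM_comm : mk (wM (K := K)) * mk (sM α β h) = mk (sM α β h) * mk wM := by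
  rw [← map_mul, ← map_mul, mk_eq]
  refine Or.inr (Subtype.ext ?_)
  simp only [Matrix.SpecialLinearGroup.coe_mul, coe_wM, coe_sM, Matrix.mul_fin_two,
    Matrix.SpecialLinearGroup.coe_neg]
  ext i j
  fin_cases i <;> fin_cases j <;> simp

variable (hns : ¬ IsSquare (-1 : K)) (h2 : (2 : K) ≠ 0)

include h2 in
theorem wM_ne : mk (wM (K := K)) ≠ 1 := by
  rw [Ne, mk_eq_one]
  rintro (e | e) <;>
    simpa [coe_wM] using congrFun (congrFun (congrArg Subtype.val e) 0) 1

include hns h2 in
theorem sM_ne : mk (sM α β h) ≠ 1 := by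
  rw [Ne, mk_eq_one]
  rintro (e | e) <;>
  · have e0 : α = _ := congrFun (congrFun (congrArg Subtype.val e) 0) 0
    have e1 : -α = _ := congrFun (congrFun (congrArg Subtype.val e) 1) 1
    simp at e0 e1
    apply h2
    first
      | linear_combination e0 + e1
      | linear_combination -e0 - e1
      | linear_combination e0 - e1
      | linear_combination e1 - e0

include hns in
theorem wsM_ne : mk (wM (K := K)) * mk (sM α β h) ≠ 1 := by
  rw [← map_mul, Ne, mk_eq_one]
  rintro (e | e) <;>
  · have e0 := congrFun (congrFun (congrArg Subtype.val e) 0) 0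
    have e1 := congrFun (congrFun (congrArg Subtype.val e) 0) 1
    simp [coe_wM, coe_sM, Matrix.mul_apply, Matrix.vecMul, dotProduct, Fin.sum_univ_two] at e0 e1
    refine hns ⟨1, ?_⟩
    subst e1
    rw [e0] at h
    linear_combination -h

include h hns h2 in
/-- The four-group is its own centraliser. -/
theorem centralizer {x : PSL} (hw : x * mk wM = mk wM * x)
    (hs : x * mk (sM α β h) = mk (sM α β h) * x) :
    x = 1 ∨ x = mk wM ∨ x = mk (sM α β h) ∨ x = mk wM * mk (sM α β h) := by
  obtain ⟨g, rfl⟩ := mk_surjective x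
  rw [← map_mul, ← map_mul, mk_eq] at hw hs
  rw [← map_mul]
  have hd : g 0 0 * g 1 1 - g 0 1 * g 1 0 = 1 := by
    rw [← det_fin_two]; exact g.2
  have hg : ∀ A B C D : K, g 0 0 = A → g 0 1 = B → g 1 0 = C → g 1 1 = D →
      (g : Matrix (Fin 2) (Fin 2) K) = !![A, B; C, D] := by
    rintro A B C D rfl rfl rfl rfl
    exact Matrix.eta_fin_two _
  have hzero : ∀ A B : K, A ^ 2 + B ^ 2 = 0 → A = 0 ∧ B = 0 := by
    intro A B hAB
    by_cases hA : A = 0
    · exact ⟨hA, by simpa [hA] using hAB⟩
    · exact absurd ⟨B / A, by field_simp; linear_combination -hAB⟩ hns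
  rcases hw with hw | hw
  · have a1 := congrFun (congrFun (congrArg Subtype.val hw) 0) 0
    have a2 := congrFun (congrFun (congrArg Subtype.val hw) 0) 1
    simp [coe_wM, Matrix.mul_apply, Matrix.vecMul, dotProduct, Fin.sum_univ_two] at a1 a2
    -- g = [a, b; -b, a]
    have ec : g 1 0 = -g 0 1 := by linear_combination -a1
    have ed : g 1 1 = g 0 0 := a2.symm
    rw [ec, ed] at hd
    rcases hs with hs | hs
    · have b1 := congrFun (congrFun (congrArg Subtype.val hs) 0) 0
      have b2 := congrFun (congrFun (congrArg Subtype.val hs) 0) 1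
      simp [coe_sM, Matrix.mul_apply, Matrix.vecMul, dotProduct, Fin.sum_univ_two, ec, ed] at b1 b2
      have hb : g 0 1 = 0 := by
        by_contra hb
        have hβ : β = 0 := by
          refine (mul_eq_zero.1 (show g 0 1 * β = 0 from ?_)).resolve_left hb
          exact mul_left_cancel₀ h2 (by first | linear_combination b1 | linear_combination -b1)
        have hα : α = 0 := by
          refine (mul_eq_zero.1 (show g 0 1 * α = 0 from ?_)).resolve_left hb
          exact mul_left_cancel₀ h2 (by first | linear_combination b2 | linear_combination -b2)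
        rw [hα, hβ] at h
        exact one_ne_zero (show (1 : K) = 0 by first | linear_combination -h | linear_combination h)
      refine Or.inl (mk_eq_one.2 ?_)
      rcases sq_eq_one_iff.1 (show g 0 0 ^ 2 = 1 by rw [hb] at hd; linear_combination hd) with
        ha | ha
      · exact Or.inl (Subtype.ext ((hg _ _ _ _ ha hb (by rw [ec, hb, neg_zero])
          (ed.trans ha)).trans Matrix.one_fin_two.symm))
      · refine Or.inr (Subtype.ext ((hg _ _ _ _ ha hb (by rw [ec, hb, neg_zero])
          (ed.trans ha)).trans ?_))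
        simp [Matrix.one_fin_two]
    · have b1 := congrFun (congrFun (congrArg Subtype.val hs) 0) 0
      have b2 := congrFun (congrFun (congrArg Subtype.val hs) 0) 1
      simp [coe_sM, Matrix.mul_apply, Matrix.vecMul, dotProduct, Fin.sum_univ_two, ec, ed] at b1 b2
      have ha : g 0 0 = 0 := by
        by_contra ha
        have hα : α = 0 := by
          refine (mul_eq_zero.1 (show g 0 0 * α = 0 from ?_)).resolve_left ha
          exact mul_left_cancel₀ h2 (by first | linear_combination b1 | linear_combination -b1)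
        have hβ : β = 0 := by
          refine (mul_eq_zero.1 (show g 0 0 * β = 0 from ?_)).resolve_left ha
          exact mul_left_cancel₀ h2 (by first | linear_combination b2 | linear_combination -b2)
        rw [hα, hβ] at h
        exact one_ne_zero (show (1 : K) = 0 by first | linear_combination -h | linear_combination h)
      refine Or.inr (Or.inl (mk_eq.2 ?_))
      rcases sq_eq_one_iff.1 (show g 0 1 ^ 2 = 1 by rw [ha] at hd; linear_combination hd) with
        hb | hb
      · exact Or.inl (Subtype.ext (hg _ _ _ _ ha hb (by rw [ec, hb]) (ed.trans ha)))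
      · refine Or.inr (Subtype.ext ((hg _ _ _ _ ha hb (by rw [ec, hb, neg_neg])
          (ed.trans ha)).trans ?_))
        simp [coe_wM]
  · have a1 := congrFun (congrFun (congrArg Subtype.val hw) 0) 0
    have a2 := congrFun (congrFun (congrArg Subtype.val hw) 0) 1
    simp [coe_wM, Matrix.mul_apply, Matrix.vecMul, dotProduct, Fin.sum_univ_two] at a1 a2
    have ec : g 1 0 = g 0 1 := by first | linear_combination a1 | linear_combination -a1
    have ed : g 1 1 = -g 0 0 := by first | linear_combination a2 | linear_combination -a2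
    rw [ec, ed] at hd
    rcases hs with hs | hs
    · have b2 := congrFun (congrFun (congrArg Subtype.val hs) 0) 1
      simp [coe_sM, Matrix.mul_apply, Matrix.vecMul, dotProduct, Fin.sum_univ_two, ec, ed] at b2
      have hk : g 0 0 * β = g 0 1 * α := mul_left_cancel₀ h2 (by first | linear_combination b2 | linear_combination -b2)
      set t := -(g 0 0 * α + g 0 1 * β) with ht
      have ea : g 0 0 = t * α := by rw [ht]; linear_combination g 0 0 * h - β * hk
      have eb : g 0 1 = t * β := by rw [ht]; linear_combination g 0 1 * h + α * hk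
      refine Or.inr (Or.inr (Or.inl (mk_eq.2 ?_)))
      have hc : (g : Matrix (Fin 2) (Fin 2) K) = !![t * α, t * β; t * β, -(t * α)] :=
        hg _ _ _ _ ea eb (ec.trans eb) (by rw [ed, ea])
      rcases sq_eq_one_iff.1 (show t ^ 2 = 1 by
        rw [ea, eb] at hd; linear_combination hd + t ^ 2 * h) with ht1 | ht1
      · exact Or.inl (Subtype.ext (hc.trans (by simp [ht1, coe_sM])))
      · exact Or.inr (Subtype.ext (hc.trans (by simp [ht1, coe_sM])))
    · have b1 := congrFun (congrFun (congrArg Subtype.val hs) 0) 0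
      simp [coe_sM, Matrix.mul_apply, Matrix.vecMul, dotProduct, Fin.sum_univ_two, ec, ed] at b1
      have hk : g 0 0 * α + g 0 1 * β = 0 := mul_left_cancel₀ h2 (by first | linear_combination b1 | linear_combination -b1)
      set t := g 0 1 * α - g 0 0 * β with ht
      have ea : g 0 0 = t * β := by rw [ht]; linear_combination g 0 0 * h - α * hk
      have eb : g 0 1 = -(t * α) := by rw [ht]; linear_combination g 0 1 * h - β * hk
      refine Or.inr (Or.inr (Or.inr (mk_eq.2 ?_)))
      have hc : (g : Matrix (Fin 2) (Fin 2) K) = !![t * β, -(t * α); -(t * α), -(t * β)] :=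
        hg _ _ _ _ ea eb (ec.trans eb) (by rw [ed, ea])
      rcases sq_eq_one_iff.1 (show t ^ 2 = 1 by
        rw [ea, eb] at hd; linear_combination hd + t ^ 2 * h) with ht1 | ht1
      · exact Or.inl (Subtype.ext (hc.trans (by
          simp [ht1, coe_sM, coe_wM, Matrix.SpecialLinearGroup.coe_mul])))
      · exact Or.inr (Subtype.ext (hc.trans (by
          simp [ht1, coe_sM, coe_wM, Matrix.SpecialLinearGroup.coe_mul])))

end Cfsg.Agent.H38.Ree.Klein
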