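import Cfsg.Agent.H38.Ree.Group
import Cfsg.Agent.H38.Ree.Klein
import Cfsg.Agent.Chevalley.RankOne

/-!
The centraliser of the involution of the fixed torus: `Z₂ × PSL₂(q)`.
-/
set_option autoImplicit false
set_option maxRecDepth 100000

namespace Cfsg.Agent.H38.Ree

open Cfsg.Lie Cfsg.Agent.H37.RootSys Cfsg.Agent.H37.Twist Cfsg.Agent.H37.NormalForm
open Cfsg.Agent.H54.Presentation Cfsg.Agent.H87

theorem U_inter_H {K : Type*} [Field K] {u h : ↥(chevG2.group K)} (hu : u ∈ (Q K).sys.U)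
    (hh : h ∈ (Q K).sys.H) (e : u = h) : u = 1 := by
  obtain ⟨-, h2, -, -⟩ := (Q K).amb.toNormalForm.unique (w := 1) (w' := 1) (u := u) (u' := 1)
    (h := 1) (h' := h) (v := 1) (v' := 1) hu (one_mem _) (one_mem _) hh (one_mem _) (one_mem _)
    (by rw [e]; group)
  exact h2

/-- The homomorphism from the group of order two given by an involution. -/
noncomputable def twoHom {G : Type*} [Group G] (g : G) (hg : g * g = 1) :
    Multiplicative (ZMod 2) →* G where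
  toFun z := if z = 1 then 1 else g
  map_one' := if_pos rfl
  map_mul' a b := by
    have h2 : (Multiplicative.ofAdd (1 : ZMod 2)) ≠ 1 := by decide
    have h3 : Multiplicative.ofAdd (1 : ZMod 2) * Multiplicative.ofAdd 1 = 1 := by decide
    rcases mult_two a with rfl | rfl <;> rcases mult_two b with rfl | rfl <;> simp [h2, h3, hg]

theorem twoHom_one {G : Type*} [Group G] (g : G) (hg : g * g = 1) :
    twoHom g hg (Multiplicative.ofAdd 1) = g := by
  show (if Multiplicative.ofAdd (1 : ZMod 2) = 1 then (1 : G) else g) = g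
  exact if_neg (by decide)

namespace Par

variable {K : Type*} [Field K] [Fintype K] (P : Par K)
include P

/-- The involution of the fixed torus. -/
def aG : ↥(chevG2.group K) := P.hp (-1)

theorem aG_sq : P.aG * P.aG = 1 := by
  rw [aG, ← map_mul, neg_one_mul, neg_neg, map_one]

theorem aG_inv : P.aG⁻¹ = P.aG := inv_eq_of_mul_eq_one_right P.aG_sq

theorem neg_one_ne : (-1 : Kˣ) ≠ 1 := fun h => P.one_ne_neg (by simpa using congrArg Units.val h)

theorem aG_ne : P.aG ≠ 1 := fun h => P.neg_one_ne (P.hp_inj (h.trans (map_one _).symm))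

theorem H_comm {h k : ↥(chevG2.group K)} (hh : h ∈ (Q K).sys.H) (hk : k ∈ (Q K).sys.H) :
    h * k = k * h := by
  obtain ⟨c, rfl⟩ := exists_tG (Q K) hh
  obtain ⟨d, rfl⟩ := exists_tG (Q K) hk
  rw [← map_mul, ← map_mul, mul_comm]

theorem invol_unique {h : ↥(chevG2.group K)} (hh : h ∈ (Q K).sys.H) (hf : P.endo.σ h = h)
    (h2 : h * h = 1) : h = 1 ∨ h = P.aG := by
  obtain ⟨y, rfl⟩ := P.exists_hp hh hf
  rw [← map_mul, ← map_one P.hp] at h2
  have h3 := congrArg Units.val (P.hp_inj h2)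
  rw [Units.val_mul, Units.val_one, mul_self_eq_one_iff] at h3
  rcases h3 with h3 | h3
  · exact Or.inl (by rw [show y = 1 from Units.ext h3, map_one])
  · exact Or.inr (by rw [show y = -1 from Units.ext (by simpa using h3)]; rfl)

theorem aG_rep :
    (Q K).sys.rep (w0 K) * P.aG * ((Q K).sys.rep (w0 K))⁻¹ = P.aG := by
  set r := (Q K).sys.rep (w0 K)
  obtain ⟨h0, hh0, hm⟩ := P.n_mem
  have hz : r * P.aG * r⁻¹ ∈ (Q K).sys.H := (Q K).sys.rep_conj_H _ (P.hp_mem _)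
  have e : r * P.aG * r⁻¹ = (h0 * r) * P.aG * (h0 * r)⁻¹ := by
    rw [show (h0 * r) * P.aG * (h0 * r)⁻¹ = h0 * (r * P.aG * r⁻¹) * h0⁻¹ by group,
      P.H_comm hh0 hz, mul_inv_cancel_right]
  have hf : P.endo.σ (r * P.aG * r⁻¹) = r * P.aG * r⁻¹ := by
    rw [e, map_mul, map_mul, map_inv, P.TG_iff.1 hm, aG, P.σ_hp]
  have h2 : r * P.aG * r⁻¹ * (r * P.aG * r⁻¹) = 1 := by
    rw [show r * P.aG * r⁻¹ * (r * P.aG * r⁻¹) = r * (P.aG * P.aG) * r⁻¹ by group, P.aG_sq]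
    group
  refine (P.invol_unique hz hf h2).resolve_left fun h1 => P.aG_ne ?_
  calc P.aG = r⁻¹ * (r * P.aG * r⁻¹) * r := by group
    _ = 1 := by rw [h1]; group

/-- The parametrisation of the centraliser of `aG` in the fixed part of `U`. -/
def xJ (t : K) : ↥(chevG2.group K) := xe 8 t * xe 10 (P.ti t)

/-- Its opposite. -/
def yJ (t : K) : ↥(chevG2.group K) := xe 3 t * xe 1 (P.ti t)

theorem xJ_eq (t : K) : P.xJ t = P.U1 0 t 0 := by
  simp [xJ, U1, N, th, ti, xe_zero, P.e_pos.ne']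

theorem yJ_eq (t : K) : P.yJ t = P.V1 0 (-t) 0 := by
  rw [V1, ← xJ_eq, xJ, map_mul, ψ_xe (by omega), ψ_xe (by omega), yJ, neg_neg, P.ti_neg,
    neg_neg]

theorem σ_xJ (t : K) : P.endo.σ (P.xJ t) = P.xJ t := by rw [xJ_eq, σ_U1]

theorem σ_yJ (t : K) : P.endo.σ (P.yJ t) = P.yJ t := by rw [yJ_eq, σ_V1]

theorem xJ_mem (t : K) : P.xJ t ∈ (Q K).sys.U := by rw [xJ_eq]; exact P.U1_mem _ _ _

theorem yJ_neg (t : K) : P.yJ t ∈ XS (Q K).sys.x (↑(negSet chevG2) : Set ℕ) := by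
  rw [yJ_eq]; exact P.V1_neg _ _ _

theorem yJ_eq_one {t : K} (h : P.yJ t = 1) : t = 0 := by
  rw [yJ_eq] at h
  exact neg_eq_zero.1 (P.U1_eq_one_iff.1 (ψ_injective (h.trans (map_one _).symm))).2.1

theorem xJ_eq_one {t : K} (h : P.xJ t = 1) : t = 0 := by
  rw [xJ_eq] at h
  exact (P.U1_eq_one_iff.1 h).2.1

theorem aG_xJ (t : K) : Commute P.aG (P.xJ t) := by
  have e := P.hp_conj_U1 (-1) 0 t 0
  rw [χ8, P.odd.neg_one_pow, inv_mul_cancel, Units.val_one, one_mul, mul_zero, mul_zero,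
    ← xJ_eq] at e
  exact mul_inv_eq_iff_eq_mul.1 e

theorem aG_yJ (t : K) : Commute P.aG (P.yJ t) := by
  have h3 : P.χ 3 (-1) = 1 := by
    rw [χ, P.odd.neg_one_pow, show chevG2.cartan 0 3 = 1 by decide +kernel,
      show chevG2.cartan 1 3 = -1 by decide +kernel]
    simp
  have h1 : P.χ 1 (-1) = 1 := by
    rw [χ, P.odd.neg_one_pow, show chevG2.cartan 0 1 = -3 by decide +kernel,
      show chevG2.cartan 1 1 = 1 by decide +kernel]
    simp [pow_succ]
  refine Commute.mul_right ?_ ?_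
  · have e := P.hp_conj_xe (r := 3) (by omega) (-1) t
    rw [h3, Units.val_one, one_mul] at e
    exact mul_inv_eq_iff_eq_mul.1 e
  · have e := P.hp_conj_xe (r := 1) (by omega) (-1) (P.ti t)
    rw [h1, Units.val_one, one_mul] at e
    exact mul_inv_eq_iff_eq_mul.1 e

theorem wEl_J {t : K} :
    wEl P.xJ P.yJ t = nUG (Q K) 8 t * nUG (Q K) 10 (P.ti t) := by
  rw [nUG_mul_pair (Q K) orth_ok, show chevG2.neg 8 = 3 by decide +kernel,
    show chevG2.neg 10 = 1 by decide +kernel,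
    show -(P.ti t)⁻¹ = P.ti (-t⁻¹) by rw [P.ti_neg, ti, ti, inv_pow]]
  rfl

theorem cross_nUG (r s : ℕ) (hr : r = 8 ∧ (s = 10 ∨ s = 1) ∨ r = 10 ∧ (s = 8 ∨ s = 3))
    (t u : K) : Commute (nUG (Q K) r t) (xe s u) := by
  have h := fun a b => commute_cross (Q K) orth_ok (a : K) b
  rw [show chevG2.neg 8 = 3 by decide +kernel, show chevG2.neg 10 = 1 by decide +kernel] at h
  rw [nUG_eq]
  rcases hr with ⟨rfl, rfl | rfl⟩ | ⟨rfl, rfl | rfl⟩
  · rw [show chevG2.neg 8 = 3 by decide +kernel]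
    exact (((h _ _).1).mul_left (h _ _).2.2.1).mul_left (h _ _).1
  · rw [show chevG2.neg 8 = 3 by decide +kernel]
    exact (((h _ _).2.1).mul_left (h _ _).2.2.2).mul_left (h _ _).2.1
  · rw [show chevG2.neg 10 = 1 by decide +kernel]
    exact (((h _ _).1.symm).mul_left (h _ _).2.1.symm).mul_left (h _ _).1.symm
  · rw [show chevG2.neg 10 = 1 by decide +kernel]
    exact (((h _ _).2.2.1.symm).mul_left (h _ _).2.2.2.symm).mul_left (h _ _).2.2.1.symm

theorem conj_self {r s : ℕ} (hr : r < 12) (hs : chevG2.neg r = s) {t : K} (ht : t ≠ 0) (u : K) :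
    nUG (Q K) r t * xe r u * (nUG (Q K) r t)⁻¹ = xe s (-(t⁻¹ ^ 2 * u)) := by
  subst hs
  exact Subtype.ext ((Q K).K.nU_conj_self K r hr (Units.mk0 t ht) u)

theorem rels : SL2Rels P.xJ P.yJ where
  x_add t u := by
    rw [xJ_eq, xJ_eq, xJ_eq, P.U1_mul, P.th_zero]
    congr 1 <;> ring
  y_add t u := by
    rw [yJ_eq, yJ_eq, yJ_eq, V1, V1, V1, ← map_mul, P.U1_mul, P.th_zero]
    congr 2 <;> ring
  w_conj t u ht := by
    rw [wEl_J, xJ]
    set n8 := nUG (Q K) 8 t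
    set n10 := nUG (Q K) 10 (P.ti t)
    have ht' : P.ti t ≠ 0 := pow_ne_zero _ ht
    have e10 := P.conj_self (r := 10) (s := 1) (by omega) (by decide +kernel) ht' (P.ti u)
    have e8 := P.conj_self (r := 8) (s := 3) (by omega) (by decide +kernel) ht u
    have c1 : n10 * xe 8 u = xe 8 u * n10 := (P.cross_nUG 10 8 (by omega) _ _).eq
    have c2 : n8 * xe 1 (-((P.ti t)⁻¹ ^ 2 * P.ti u)) = xe 1 (-((P.ti t)⁻¹ ^ 2 * P.ti u)) * n8 :=
      (P.cross_nUG 8 1 (by omega) _ _).eq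
    calc n8 * n10 * (xe 8 u * xe 10 (P.ti u)) * (n8 * n10)⁻¹
        = n8 * (n10 * xe 8 u) * xe 10 (P.ti u) * n10⁻¹ * n8⁻¹ := by group
      _ = n8 * xe 8 u * (n10 * xe 10 (P.ti u) * n10⁻¹) * n8⁻¹ := by rw [c1]; group
      _ = n8 * xe 8 u * (xe 1 (-((P.ti t)⁻¹ ^ 2 * P.ti u))) * n8⁻¹ := by rw [e10]
      _ = n8 * xe 8 u * n8⁻¹ * ((n8 * xe 1 (-((P.ti t)⁻¹ ^ 2 * P.ti u))) * n8⁻¹) := by group
      _ = n8 * xe 8 u * n8⁻¹ * xe 1 (-((P.ti t)⁻¹ ^ 2 * P.ti u)) := by rw [c2]; group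
      _ = _ := by
        rw [e8, yJ]
        congr 2
        rw [P.ti_neg]
        simp only [ti, mul_pow, inv_pow]
        rw [← pow_mul, ← pow_mul, mul_comm 2]

theorem hEl_J (t : Kˣ) :
    SL2Rels.hEl P.xJ P.yJ (t : K) = P.hp (t ^ (3 + 3 * P.e)) := by
  rw [SL2Rels.hEl, P.wEl_J, P.wEl_J, show P.ti (-1 : K) = -1 by rw [P.ti_neg]; simp,
    show nUG (Q K) 8 (t : K) * nUG (Q K) 10 (P.ti (t : K)) *
        (nUG (Q K) 8 (-1) * nUG (Q K) 10 (-1))
      = nUG (Q K) 8 (t : K) * (nUG (Q K) 10 (P.ti (t : K)) * nUG (Q K) 8 (-1)) *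
        nUG (Q K) 10 (-1) by group,
    ← (commute_nUG (Q K) orth_ok (-1 : K) (P.ti (t : K))).eq,
    show nUG (Q K) 8 (t : K) * (nUG (Q K) 8 (-1) * nUG (Q K) 10 (P.ti (t : K))) *
        nUG (Q K) 10 (-1)
      = (nUG (Q K) 8 (t : K) * nUG (Q K) 8 (-1)) *
        (nUG (Q K) 10 (P.ti (t : K)) * nUG (Q K) 10 (-1)) by group,
    ← hUG_eq, ← hUG_eq, show P.ti (t : K) = ((t ^ (3 * P.e) : Kˣ) : K) from
      (Units.val_pow_eq_pow_val t _).symm, hUG_pair]
  show _ = tG (Q K) (vec ((t ^ (3 + 3 * P.e)) ^ P.e) (t ^ (3 + 3 * P.e)))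
  rw [← pow_add, show (t ^ (3 + 3 * P.e)) ^ P.e = t * t ^ (3 * P.e) from ?_]
  rw [← pow_mul, show (3 + 3 * P.e) * P.e = 3 * P.e + 3 * P.e ^ 2 by ring, pow_add,
    P.units_pow_card]
  exact mul_comm _ _

theorem exists_pow_sq (z : Kˣ) : ∃ t : Kˣ, t ^ (3 + 3 * P.e) = z ^ 2 := by
  obtain ⟨k, hk⟩ : ∃ k, P.e = k + 1 := ⟨P.e - 1, by have := P.e_pos; omega⟩
  refine ⟨(z ^ k)⁻¹, ?_⟩
  rw [inv_pow, ← pow_mul, inv_eq_iff_mul_eq_one, ← pow_add]
  have hc : k * (3 + 3 * P.e) + 2 = 3 * P.e ^ 2 - 1 := by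
    rw [hk]; refine (Nat.sub_eq_of_eq_add ?_).symm; ring
  rw [hc]
  refine mul_right_cancel (b := z) ?_
  rw [← pow_succ, one_mul, Nat.sub_add_cancel (Nat.one_le_iff_ne_zero.2 (by
    have := P.e_pos; positivity)), P.units_pow_card]

theorem pow_eq_one_sq {t : Kˣ} (h : t ^ (3 + 3 * P.e) = 1) : t ^ 2 = 1 := by
  obtain ⟨k, hk⟩ : ∃ k, P.e = k + 1 := ⟨P.e - 1, by have := P.e_pos; omega⟩
  have hc : (3 + 3 * P.e) * k + 3 = 3 * P.e ^ 2 := by rw [hk]; ring
  have h3 : t ^ 3 = t := by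
    calc t ^ 3 = (t ^ (3 + 3 * P.e)) ^ k * t ^ 3 := by rw [h, one_pow, one_mul]
      _ = t := by rw [← pow_mul, ← pow_add, hc, P.units_pow_card]
  refine mul_right_cancel (b := t) ?_
  rw [one_mul, ← pow_succ, h3]

theorem hEl_mul (t u : Kˣ) : SL2Rels.hEl P.xJ P.yJ (t : K) * SL2Rels.hEl P.xJ P.yJ (u : K) =
    SL2Rels.hEl P.xJ P.yJ ((t * u : Kˣ) : K) := by
  rw [hEl_J, hEl_J, hEl_J, ← map_mul, mul_pow]

theorem exists_sl2 : ∃ Φ : Matrix.SpecialLinearGroup (Fin 2) K →* ↥(chevG2.group K),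
    (∀ t, Φ (upMat t) = P.xJ t) ∧ (∀ t, Φ (lowMat t) = P.yJ t) ∧
      Φ.range = Subgroup.closure (Set.range P.xJ ∪ Set.range P.yJ) :=
  Chevalley.SL2Hom.exists_hom P.rels P.hEl_mul

/-- The homomorphism from `SL₂`. -/
noncomputable def Φ : Matrix.SpecialLinearGroup (Fin 2) K →* ↥(chevG2.group K) :=
  P.exists_sl2.choose

theorem Φ_up (t : K) : P.Φ (upMat t) = P.xJ t := P.exists_sl2.choose_spec.1 t

theorem Φ_low (t : K) : P.Φ (lowMat t) = P.yJ t := P.exists_sl2.choose_spec.2.1 t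

/-- The fixed elements centralising the involution. -/
noncomputable def CA : Subgroup ↥(chevG2.group K) :=
  fixedPts P.endo.σ ⊓ Subgroup.centralizer {P.aG}

theorem mem_CA {g : ↥(chevG2.group K)} :
    g ∈ P.CA ↔ P.endo.σ g = g ∧ g * P.aG = P.aG * g := by
  rw [CA, Subgroup.mem_inf, Subgroup.mem_centralizer_singleton_iff]
  rfl

theorem Φ_mem (g : Matrix.SpecialLinearGroup (Fin 2) K) : P.Φ g ∈ P.CA := by
  have hle : P.Φ.range ≤ P.CA := by
    rw [show P.Φ.range = Subgroup.closure (Set.range P.xJ ∪ Set.range P.yJ) from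
      P.exists_sl2.choose_spec.2.2, Subgroup.closure_le]
    rintro z (⟨t, rfl⟩ | ⟨t, rfl⟩)
    · exact P.mem_CA.2 ⟨P.σ_xJ t, (P.aG_xJ t).eq.symm⟩
    · exact P.mem_CA.2 ⟨P.σ_yJ t, (P.aG_yJ t).eq.symm⟩
  exact hle ⟨g, rfl⟩

/-- The element `n` of the four roots. -/
noncomputable def nJ : ↥(chevG2.group K) := P.Φ (wEl upMat lowMat (1 : K))

theorem Φ_wEl (t : K) : P.Φ (wEl upMat lowMat t) = wEl P.xJ P.yJ t := by
  rw [wEl, wEl, map_mul, map_mul, Φ_up, Φ_low]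

theorem Φ_hEl (t : Kˣ) :
    P.Φ (SL2Rels.hEl upMat lowMat (t : K)) = P.hp (t ^ (3 + 3 * P.e)) := by
  rw [SL2Rels.hEl, map_mul, Φ_wEl, Φ_wEl, ← hEl_J]
  rfl

theorem wEl_not_U {t : K} (ht : t ≠ 0) {u h : ↥(chevG2.group K)} (hu : u ∈ (Q K).sys.U)
    (hh : h ∈ (Q K).sys.H) : wEl P.xJ P.yJ t ≠ u * h := by
  intro e
  have hmem : wEl P.xJ P.yJ t * P.xJ 1 * (wEl P.xJ P.yJ t)⁻¹ ∈ (Q K).sys.U := by
    rw [e, show u * h * P.xJ 1 * (u * h)⁻¹ = u * (h * P.xJ 1 * h⁻¹) * u⁻¹ by group]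
    refine mul_mem (mul_mem hu ?_) (inv_mem hu)
    refine conj_mem_XS (fun r hr t => ?_) (P.xJ_mem 1)
    obtain ⟨t', e'⟩ := (Q K).sys.h_conj h hh r (mem_posSet.1 (Finset.mem_coe.1 hr)).1 t
    rw [e']
    exact x_mem_XS hr _
  rw [P.rels.w_conj t 1 ht] at hmem
  have h1 := neg_cell (P.yJ_neg _) hmem (one_mem _) (mul_one _).symm
  have h2 := P.yJ_eq_one h1
  simp [ht] at h2

theorem hEl_coe {t : K} (ht : t ≠ 0) :
    ((SL2Rels.hEl (upMat (k := K)) lowMat t : Matrix.SpecialLinearGroup (Fin 2) K) :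
      Matrix (Fin 2) (Fin 2) K) = !![t, 0; 0, t⁻¹] := by
  rw [SL2Rels.hEl, Matrix.SpecialLinearGroup.coe_mul, Chevalley.SL2Hom.wEl_sl2 ht,
    Chevalley.SL2Hom.wEl_sl2 (neg_ne_zero.2 one_ne_zero)]
  simp [Matrix.mul_fin_two]

theorem Φ_ker (g : Matrix.SpecialLinearGroup (Fin 2) K) : P.Φ g = 1 ↔ g = 1 ∨ g = -1 := by
  constructor
  · intro hg
    have hd : g 0 0 * g 1 1 - g 0 1 * g 1 0 = 1 := by
      rw [← Matrix.det_fin_two]; exact g.2
    by_cases hc : g 1 0 = 0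
    · have ha : g 0 0 ≠ 0 := fun h => by simp [h, hc] at hd
      set a : Kˣ := Units.mk0 (g 0 0) ha
      have eg : g = SL2Rels.hEl upMat lowMat (a : K) * upMat (g 0 1 / g 0 0) := by
        refine Subtype.ext ?_
        rw [Matrix.SpecialLinearGroup.coe_mul, P.hEl_coe a.ne_zero, upMat_coe, Matrix.mul_fin_two]
        rw [hc, mul_zero, sub_zero] at hd
        conv_lhs => rw [Matrix.eta_fin_two (g : Matrix (Fin 2) (Fin 2) K), hc,
          eq_inv_of_mul_eq_one_right hd]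
        simp [a, mul_div_cancel₀ _ ha]
      rw [eg, map_mul, Φ_hEl, Φ_up, mul_eq_one_iff_eq_inv'] at hg
      have h1 := U_inter_H (P.xJ_mem _) (inv_mem (P.hp_mem _)) hg
      rw [h1] at hg
      have ha2 := P.pow_eq_one_sq (P.hp_inj ((inv_eq_one.1 hg.symm).trans (map_one _).symm))
      have hb : g 0 1 = 0 := (div_eq_zero_iff.1 (P.xJ_eq_one h1)).resolve_right ha
      have hd' : g 1 1 = (g 0 0)⁻¹ :=
        eq_inv_of_mul_eq_one_right (by rw [hc, mul_zero, sub_zero] at hd; exact hd)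
      have ha3 := congrArg Units.val ha2
      simp only [a, Units.val_pow_eq_pow_val, Units.val_mk0, Units.val_one, sq_eq_one_iff] at ha3
      rcases ha3 with ha3 | ha3
      · refine Or.inl (Subtype.ext ?_)
        rw [Matrix.eta_fin_two (g : Matrix (Fin 2) (Fin 2) K), hc, hb, hd', ha3]
        simp [Matrix.one_fin_two]
      · refine Or.inr (Subtype.ext ?_)
        rw [Matrix.eta_fin_two (g : Matrix (Fin 2) (Fin 2) K), hc, hb, hd', ha3]
        simp [Matrix.one_fin_two]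
    · exfalso
      set β := -(g 1 0)⁻¹ with hβ
      have hβ0 : β ≠ 0 := neg_ne_zero.2 (inv_ne_zero hc)
      have eg : g = upMat (g 0 0 / g 1 0) * wEl upMat lowMat β * upMat (g 1 1 / g 1 0) := by
        refine Subtype.ext ?_
        rw [Matrix.SpecialLinearGroup.coe_mul, Matrix.SpecialLinearGroup.coe_mul,
          Chevalley.SL2Hom.wEl_sl2 hβ0, upMat_coe, upMat_coe, Matrix.mul_fin_two,
          Matrix.mul_fin_two]
        conv_lhs => rw [Matrix.eta_fin_two (g : Matrix (Fin 2) (Fin 2) K)]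
        ext i j
        fin_cases i <;> fin_cases j <;> simp [hβ] <;> field_simp
        linear_combination -hd
      rw [eg, map_mul, map_mul, Φ_wEl, Φ_up, Φ_up, mul_assoc, mul_eq_one_iff_eq_inv'] at hg
      have e : wEl P.xJ P.yJ β
          = (P.xJ (g 0 0 / g 1 0))⁻¹ * (P.xJ (g 1 1 / g 1 0))⁻¹ * 1 := by
        rw [mul_one, ← hg, mul_inv_cancel_right]
      exact P.wEl_not_U hβ0 (mul_mem (inv_mem (P.xJ_mem _)) (inv_mem (P.xJ_mem _))) (one_mem _) e
  · rintro (rfl | rfl)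
    · exact map_one _
    · have e : (-1 : Matrix.SpecialLinearGroup (Fin 2) K)
          = SL2Rels.hEl upMat lowMat ((-1 : Kˣ) : K) := by
        refine Subtype.ext ?_
        rw [P.hEl_coe (Units.ne_zero _)]
        simp [Matrix.one_fin_two]
      rw [e, Φ_hEl, (show Even (3 + 3 * P.e) by
        obtain ⟨k, hk⟩ := P.odd; exact ⟨3 * k + 3, by rw [hk]; ring⟩).neg_one_pow, map_one]

/-- The induced homomorphism on `PSL₂`. -/
noncomputable def Φb : Matrix.ProjectiveSpecialLinearGroup (Fin 2) K →* ↥(chevG2.group K) :=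
  QuotientGroup.lift _ P.Φ fun g hg =>
    (P.Φ_ker g).2 (Klein.mem_center.1 hg)

theorem Φb_mk (g : Matrix.SpecialLinearGroup (Fin 2) K) : P.Φb (Klein.mk g) = P.Φ g := rfl

theorem Φb_mem (x : Matrix.ProjectiveSpecialLinearGroup (Fin 2) K) : P.Φb x ∈ P.CA := by
  obtain ⟨g, rfl⟩ := Klein.mk_surjective x
  exact P.Φ_mem g

theorem Φb_injective : Function.Injective P.Φb := by
  rw [injective_iff_map_eq_one]
  intro x hx
  obtain ⟨g, rfl⟩ := Klein.mk_surjective x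
  exact Klein.mk_eq_one.2 ((P.Φ_ker g).1 hx)

theorem commute_upMat {g : Matrix.SpecialLinearGroup (Fin 2) K} {t : K}
    (h : P.Φ (g * upMat t) = P.Φ (upMat t * g)) : g * upMat t = upMat t * g := by
  have h' : Klein.mk (g * upMat t) = Klein.mk (upMat t * g) := P.Φb_injective h
  rcases Klein.mk_eq.1 h' with e | e
  · exact e
  · exfalso
    have ec := congrArg (fun x : Matrix.SpecialLinearGroup (Fin 2) K =>
      (x : Matrix (Fin 2) (Fin 2) K)) e
    simp only [Matrix.SpecialLinearGroup.coe_mul, Matrix.SpecialLinearGroup.coe_neg,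
      upMat_coe] at ec
    have hd : g 0 0 * g 1 1 - g 0 1 * g 1 0 = 1 := by
      rw [← Matrix.det_fin_two]; exact g.2
    have h2 : (2 : K) ≠ 0 := by rw [P.two_eq]; exact neg_ne_zero.2 one_ne_zero
    have e00 := congrFun (congrFun ec 0) 0
    have e10 := congrFun (congrFun ec 1) 0
    have e11 := congrFun (congrFun ec 1) 1
    simp [Matrix.mul_apply, Matrix.vecMul, dotProduct, Fin.sum_univ_two] at e00 e10 e11
    have hz : g 1 0 = 0 := mul_left_cancel₀ h2 (by linear_combination e10)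
    rw [hz] at e00 e11 hd
    have hz0 : g 0 0 = 0 := mul_left_cancel₀ h2 (by linear_combination e00)
    rw [hz0] at hd
    simp at hd

theorem aG_not_range (x : Matrix.ProjectiveSpecialLinearGroup (Fin 2) K) : P.Φb x ≠ P.aG := by
  intro hx
  obtain ⟨g, rfl⟩ := Klein.mk_surjective x
  rw [Φb_mk] at hx
  have hcu : ∀ t, g * upMat t = upMat t * g := fun t => P.commute_upMat (by
    rw [map_mul, map_mul, hx, Φ_up]; exact (P.aG_xJ t).eq)
  have hcl : ∀ t, g * lowMat t = lowMat t * g := fun t => by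
    have h' : Klein.mk (g * lowMat t) = Klein.mk (lowMat t * g) := P.Φb_injective (by
      show P.Φ (g * lowMat t) = P.Φ (lowMat t * g)
      rw [map_mul, map_mul, hx, Φ_low]; exact (P.aG_yJ t).eq)
    rcases Klein.mk_eq.1 h' with e | e
    · exact e
    · exfalso
      have ec := congrArg (fun x : Matrix.SpecialLinearGroup (Fin 2) K =>
        (x : Matrix (Fin 2) (Fin 2) K)) e
      simp only [Matrix.SpecialLinearGroup.coe_mul, Matrix.SpecialLinearGroup.coe_neg,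
        lowMat_coe] at ec
      have e0 := congrArg (fun x : Matrix.SpecialLinearGroup (Fin 2) K =>
        (x : Matrix (Fin 2) (Fin 2) K)) (hcu 1)
      simp only [Matrix.SpecialLinearGroup.coe_mul, upMat_coe] at e0
      have hd : g 0 0 * g 1 1 - g 0 1 * g 1 0 = 1 := by
        rw [← Matrix.det_fin_two]; exact g.2
      have h2 : (2 : K) ≠ 0 := by rw [P.two_eq]; exact neg_ne_zero.2 one_ne_zero
      have a1 := congrFun (congrFun e0 0) 0
      have a2 := congrFun (congrFun e0 0) 1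
      have b2 := congrFun (congrFun ec 0) 1
      have b3 := congrFun (congrFun ec 0) 0
      simp [Matrix.mul_apply, Matrix.vecMul, dotProduct, Fin.sum_univ_two] at a1 a2 b2 b3
      have hb : g 0 1 = 0 := mul_left_cancel₀ h2 (by linear_combination b2)
      rw [hb] at b3
      have ha : g 0 0 = 0 := mul_left_cancel₀ h2 (by linear_combination b3)
      rw [ha, hb] at hd
      simp at hd
  have hz : g ∈ Subgroup.center (Matrix.SpecialLinearGroup (Fin 2) K) := by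
    rw [Subgroup.mem_center_iff]
    intro k
    have hk : k ∈ Subgroup.closure (Set.range (upMat (k := K)) ∪ Set.range lowMat) := by
      rw [Chevalley.SL2Hom.closure_upMat_lowMat]; trivial
    have : Subgroup.closure (Set.range (upMat (k := K)) ∪ Set.range lowMat)
        ≤ Subgroup.centralizer {g} := by
      rw [Subgroup.closure_le]
      rintro z (⟨t, rfl⟩ | ⟨t, rfl⟩) <;>
        rw [SetLike.mem_coe, Subgroup.mem_centralizer_singleton_iff]
      · exact (hcu t).symm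
      · exact (hcl t).symm
    exact Subgroup.mem_centralizer_singleton_iff.1 (this hk)
  rw [(P.Φ_ker g).2 (Klein.mem_center.1 hz)] at hx
  exact P.aG_ne hx.symm

/-- The map onto the centraliser. -/
noncomputable def Θ :
    Multiplicative (ZMod 2) × Matrix.ProjectiveSpecialLinearGroup (Fin 2) K →*
      ↥(chevG2.group K) :=
  MonoidHom.noncommCoprod (twoHom P.aG P.aG_sq) P.Φb fun z x => by
    rcases mult_two z with rfl | rfl
    · rw [map_one]; exact Commute.one_left _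
    · rw [twoHom_one]; exact (P.mem_CA.1 (P.Φb_mem x)).2.symm

theorem Θ_apply (z : Multiplicative (ZMod 2))
    (x : Matrix.ProjectiveSpecialLinearGroup (Fin 2) K) :
    P.Θ (z, x) = twoHom P.aG P.aG_sq z * P.Φb x := rfl

theorem Θ_injective : Function.Injective P.Θ := by
  rw [injective_iff_map_eq_one]
  rintro ⟨z, x⟩ h
  rw [Θ_apply] at h
  rcases mult_two z with rfl | rfl
  · rw [map_one, one_mul] at h
    rw [P.Φb_injective (h.trans (map_one _).symm)]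
    rfl
  · rw [twoHom_one] at h
    exact absurd ((inv_eq_of_mul_eq_one_right h).symm.trans P.aG_inv) (P.aG_not_range x)

theorem xJ_range (t : K) : P.xJ t ∈ P.Θ.range :=
  ⟨(1, Klein.mk (upMat t)), by rw [Θ_apply, map_one, one_mul, Φb_mk, Φ_up]⟩

theorem hp_range (y : Kˣ) : P.hp y ∈ P.Θ.range := by
  obtain ⟨z, rfl | rfl⟩ := P.units_dichotomy y
  · obtain ⟨t, ht⟩ := P.exists_pow_sq z
    exact ⟨(1, Klein.mk (SL2Rels.hEl upMat lowMat (t : K))),
      by rw [Θ_apply, map_one, one_mul, Φb_mk, Φ_hEl, ht]⟩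
  · obtain ⟨t, ht⟩ := P.exists_pow_sq z
    refine ⟨(Multiplicative.ofAdd 1, Klein.mk (SL2Rels.hEl upMat lowMat (t : K))), ?_⟩
    rw [Θ_apply, twoHom_one, Φb_mk, Φ_hEl, ht, aG, ← map_mul, neg_one_mul]

theorem cent_U {u : ↥(chevG2.group K)} (hu : u ∈ (Q K).sys.U) (hf : P.endo.σ u = u)
    (hc : P.aG * u * P.aG⁻¹ = u) : ∃ c, u = P.xJ c := by
  obtain ⟨a, c, d, rfl⟩ := (P.fixed_iff hu).1 hf
  obtain ⟨rfl, rfl, -⟩ := P.hp_commute P.neg_one_ne (mul_inv_eq_iff_eq_mul.1 hc)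
  exact ⟨c, (P.xJ_eq c).symm⟩

/-- Elements of the centraliser outside `B`. -/
theorem cent_big {g u h v : ↥(chevG2.group K)} (hg : g * P.aG = P.aG * g)
    (hu : u ∈ (Q K).sys.U) (hf : P.endo.σ u = u) (hh : h ∈ (Q K).sys.H)
    (hv : v ∈ (Q K).sys.U) (hvf : P.endo.σ v = v)
    (e : g = u * h * (Q K).sys.rep (w0 K) * v) : ∃ c d, u = P.xJ c ∧ v = P.xJ d := by
  set r := (Q K).sys.rep (w0 K)
  have hcU : ∀ z ∈ (Q K).sys.U, P.aG * z * P.aG⁻¹ ∈ (Q K).sys.U := fun z hz => by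
    refine conj_mem_XS (fun r hr t => ?_) hz
    obtain ⟨t', e'⟩ :=
      (Q K).sys.h_conj P.aG (P.hp_mem _) r (mem_posSet.1 (Finset.mem_coe.1 hr)).1 t
    rw [e']
    exact x_mem_XS hr _
  have hr2 : P.aG * r * P.aG⁻¹ = r := by
    have h0 : r * P.aG = P.aG * r := mul_inv_eq_iff_eq_mul.1 P.aG_rep
    rw [← h0, mul_inv_cancel_right]
  have e1 : P.aG * g * P.aG⁻¹ = g := by rw [← hg, mul_inv_cancel_right]
  have e2 : P.aG * u * P.aG⁻¹ * h * r * (P.aG * v * P.aG⁻¹) = g := by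
    conv_rhs => rw [← e1, e]
    rw [show P.aG * (u * h * r * v) * P.aG⁻¹ = (P.aG * u * P.aG⁻¹) * (P.aG * h * P.aG⁻¹) *
      (P.aG * r * P.aG⁻¹) * (P.aG * v * P.aG⁻¹) by group, hr2,
      show P.aG * h = h * P.aG from P.H_comm (P.hp_mem _) hh, mul_inv_cancel_right]
  have hv' : v ∈ (Q K).amb.toNormalForm.Uw (w0 K) := (Q K).Uw_w0.symm ▸ hv
  have hv'' : P.aG * v * P.aG⁻¹ ∈ (Q K).amb.toNormalForm.Uw (w0 K) :=
    (Q K).Uw_w0.symm ▸ hcU v hv
  obtain ⟨-, h1, -, h4⟩ :=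
    (Q K).amb.toNormalForm.unique (hcU u hu) hu hh hh hv'' hv' (e2.trans e)
  obtain ⟨c, hc⟩ := P.cent_U hu hf h1
  obtain ⟨d, hd⟩ := P.cent_U hv hvf h4
  exact ⟨c, d, hc, hd⟩

theorem Θ_range : P.Θ.range = P.CA := by
  refine le_antisymm ?_ fun g hg => ?_
  · rintro _ ⟨⟨z, x⟩, rfl⟩
    rw [Θ_apply]
    refine mul_mem ?_ (P.Φb_mem x)
    rcases mult_two z with rfl | rfl
    · rw [map_one]; exact one_mem _
    · rw [twoHom_one]; exact P.mem_CA.2 ⟨P.σ_hp _, rfl⟩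
  obtain ⟨hgf, hga⟩ := P.mem_CA.1 hg
  rcases P.cells hgf with ⟨u, h, hu, huf, hh, hhf, e⟩ | ⟨u, h, v, hu, huf, hh, hv, hvf, e⟩
  · obtain ⟨y, rfl⟩ := P.exists_hp hh hhf
    have hc : P.aG * u * P.aG⁻¹ = u := by
      refine mul_inv_eq_iff_eq_mul.2 (mul_right_cancel (b := P.hp y) ?_)
      rw [mul_assoc u P.aG, show P.aG * P.hp y = P.hp y * P.aG from P.H_comm (P.hp_mem _) (P.hp_mem y),
        ← mul_assoc u, ← e, hga, e]
      group
    obtain ⟨c, rfl⟩ := P.cent_U hu huf hc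
    rw [e]
    exact mul_mem (P.xJ_range c) (P.hp_range y)
  · have hnJ : P.nJ ∈ P.CA := P.Φ_mem _
    obtain ⟨hnf, hna⟩ := P.mem_CA.1 hnJ
    rcases P.cells hnf with ⟨u', h', hu', -, hh', -, e'⟩ |
      ⟨u1, h1, v1, hu1, hu1f, hh1, hv1, hv1f, e1⟩
    · exact absurd ((P.Φ_wEl 1).symm.trans e') (P.wEl_not_U one_ne_zero hu' hh')
    obtain ⟨c, d, rfl, rfl⟩ := P.cent_big hga hu huf hh hv hvf e
    obtain ⟨c1, d1, rfl, rfl⟩ := P.cent_big hna hu1 hu1f hh1 hv1 hv1f e1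
    have e2 : g = P.xJ c * (h * h1⁻¹) * ((P.xJ c1)⁻¹ * P.nJ * (P.xJ d1)⁻¹) * P.xJ d := by
      rw [e, e1]; group
    have hk : P.endo.σ (h * h1⁻¹) = h * h1⁻¹ := by
      have : h * h1⁻¹ = (P.xJ c)⁻¹ * g * (P.xJ d)⁻¹ * (P.xJ d1 * P.nJ⁻¹ * P.xJ c1) := by
        rw [e, e1]; group
      rw [this]
      simp only [map_mul, map_inv, P.σ_xJ, hgf, hnf]
    obtain ⟨y, hy⟩ := P.exists_hp (mul_mem hh (inv_mem hh1)) hk
    rw [e2, ← hy]
    exact mul_mem (mul_mem (mul_mem (P.xJ_range c) (P.hp_range y))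
      (mul_mem (mul_mem (inv_mem (P.xJ_range c1))
        ⟨(1, Klein.mk _), by rw [Θ_apply, map_one, one_mul]; rfl⟩) (inv_mem (P.xJ_range d1))))
      (P.xJ_range d)

end Par

end Cfsg.Agent.H38.Ree
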