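import Cfsg.Agent.H38.Ree.NormTwo
import Cfsg.Agent.H38.Ree.Cyclic
import Cfsg.Agent.Cores.Fitting
import Cfsg.Agent.Components.CyclicSylow

/-!
`²G₂(q)`: solvable subgroups lie in local normalisers (given the maximal tori).
-/
set_option autoImplicit false
set_option maxRecDepth 100000

namespace Cfsg.Agent.H38.Ree

open Cfsg.Lie Cfsg.Agent.H37.RootSys Cfsg.Agent.H37.Twist

/-- In a cyclic group, subgroups are normal in the normaliser of each bigger subgroup. -/
theorem normalizer_le_of_le_cyclic {G : Type*} [Group G] [Finite G] {p : ℕ} [Fact p.Prime]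
    {R : Subgroup G} (hR : IsCyclic R) {z : G} (hz : z ∈ R) (ho : orderOf z = p) :
    Subgroup.normalizer (R : Set G) ≤ Subgroup.normalizer (Subgroup.zpowers z : Set G) := by
  intro g hg
  rw [Subgroup.mem_normalizer_iff] at hg
  have key : ∀ y : G, y ∈ R → y ^ p = 1 → y ∈ Subgroup.zpowers z := by
    intro y hy hyp
    obtain ⟨k, hk⟩ := Subgroup.mem_zpowers_iff.1
      (Components.mem_zpowers_of_pow_eq_one (C := ↥R) (z := ⟨z, hz⟩) (y := ⟨y, hy⟩)
        (by rw [← Subgroup.orderOf_coe]; exact ho) (Subtype.ext hyp))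
    exact ⟨k, congrArg Subtype.val hk⟩
  have hzp : ∀ y ∈ Subgroup.zpowers z, y ∈ R ∧ y ^ p = 1 := by
    rintro _ ⟨k, rfl⟩
    exact ⟨zpow_mem hz k, by
      rw [← zpow_natCast, ← zpow_mul, mul_comm, zpow_mul, zpow_natCast, ← ho, pow_orderOf_eq_one,
        one_zpow]⟩
  rw [Subgroup.mem_normalizer_iff]
  intro y
  constructor
  · intro hy
    refine key _ ((hg y).1 (hzp y hy).1) ?_
    rw [conj_pow, (hzp y hy).2, mul_one, mul_inv_cancel]
  · intro hy
    refine key _ ((hg y).2 (hzp _ hy).1) ?_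
    have := (hzp _ hy).2
    rwa [conj_pow, mul_inv_eq_one, mul_eq_left] at this

/-- The largest prime-power part: a finite group which is not a two-group has an element of odd
prime order among the powers of a given element. -/
theorem exists_odd_prime_pow {G : Type*} [Group G] [Finite G] {c : G}
    (hc : ∀ k : ℕ, orderOf c ≠ 2 ^ k) :
    ∃ r : ℕ, r.Prime ∧ r ≠ 2 ∧ ∃ j : ℕ, c ^ j ≠ 1 ∧ (c ^ j) ^ r = 1 := by
  obtain ⟨r, hr, hd, hr2⟩ : ∃ r : ℕ, r.Prime ∧ r ∣ orderOf c ∧ r ≠ 2 := by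
    by_contra h
    push Not at h
    exact hc _ (Nat.eq_prime_pow_of_unique_prime_dvd (orderOf_pos c).ne' (p := 2)
      fun {d} hd hdd => h d hd hdd)
  refine ⟨r, hr, hr2, orderOf c / r, fun h => ?_, ?_⟩
  · have h1 := Nat.div_lt_self (orderOf_pos c) hr.one_lt
    have h2 := Nat.div_pos (Nat.le_of_dvd (orderOf_pos c) hd) hr.pos
    exact pow_ne_one_of_lt_orderOf h2.ne' h1 h
  · rw [← pow_mul, Nat.div_mul_cancel hd, pow_orderOf_eq_one]

namespace Klein

open Matrix

variable {K : Type*} [Field K]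

local notation "SL" => Matrix.SpecialLinearGroup (Fin 2) K
local notation "PSL" => Matrix.ProjectiveSpecialLinearGroup (Fin 2) K

theorem lift_invol {g : SL} (h2 : (2 : K) ≠ 0) (hne : mk g ≠ 1) (hsq : mk g * mk g = 1) :
    g 1 1 = -g 0 0 ∧ g 0 0 ^ 2 + g 0 1 * g 1 0 = -1 ∧ g * g = -1 := by
  have hd : g 0 0 * g 1 1 - g 0 1 * g 1 0 = 1 := by
    rw [← det_fin_two]; exact g.2
  rw [← map_mul, mk_eq_one] at hsq
  rcases hsq with e | e
  · exfalso
    have a00 := congrFun (congrFun (congrArg Subtype.val e) 0) 0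
    have a01 := congrFun (congrFun (congrArg Subtype.val e) 0) 1
    have a10 := congrFun (congrFun (congrArg Subtype.val e) 1) 0
    simp [Matrix.mul_apply, Matrix.vecMul, dotProduct, Fin.sum_univ_two] at a00 a01 a10
    have hs : g 0 0 + g 1 1 ≠ 0 := by
      intro h0
      apply h2
      linear_combination -a00 - hd + g 0 0 * h0
    have hb : g 0 1 = 0 := (mul_eq_zero.1 (show (g 0 0 + g 1 1) * g 0 1 = 0 by
      linear_combination a01)).resolve_left hs
    have hc : g 1 0 = 0 := (mul_eq_zero.1 (show (g 0 0 + g 1 1) * g 1 0 = 0 by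
      linear_combination a10)).resolve_left hs
    rw [hb, hc] at a00 hd
    have hdd : g 1 1 = g 0 0 := by
      linear_combination g 0 0 * hd - g 1 1 * a00
    apply hne
    rw [mk_eq_one]
    rcases sq_eq_one_iff.1 (show g 0 0 ^ 2 = 1 by linear_combination a00) with ha | ha
    · refine Or.inl (Subtype.ext ?_)
      rw [Matrix.eta_fin_two (g : Matrix (Fin 2) (Fin 2) K), hb, hc, hdd, ha]
      simp [Matrix.one_fin_two]
    · refine Or.inr (Subtype.ext ?_)
      rw [Matrix.eta_fin_two (g : Matrix (Fin 2) (Fin 2) K), hb, hc, hdd, ha]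
      simp [Matrix.one_fin_two]
  · have a00 := congrFun (congrFun (congrArg Subtype.val e) 0) 0
    simp [Matrix.mul_apply, Matrix.vecMul, dotProduct, Fin.sum_univ_two] at a00
    refine ⟨?_, by linear_combination a00, e⟩
    have hb := congrFun (congrFun (congrArg Subtype.val e) 0) 1
    have hc := congrFun (congrFun (congrArg Subtype.val e) 1) 0
    simp [Matrix.mul_apply, Matrix.vecMul, dotProduct, Fin.sum_univ_two] at hb hc
    by_contra hs
    have hs' : g 0 0 + g 1 1 ≠ 0 := fun h0 => hs (by linear_combination h0)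
    have hb' : g 0 1 = 0 := (mul_eq_zero.1 (show (g 0 0 + g 1 1) * g 0 1 = 0 by
      linear_combination hb)).resolve_left hs'
    have hc' : g 1 0 = 0 := (mul_eq_zero.1 (show (g 0 0 + g 1 1) * g 1 0 = 0 by
      linear_combination hc)).resolve_left hs'
    rw [hb', hc'] at a00 hd
    apply hs
    linear_combination -(g 0 0) * hd + g 1 1 * a00

theorem comm_of_comm {g a b : SL} (hg : g 1 0 ≠ 0) (ha : a * g = g * a) (hb : b * g = g * b) :
    a * b = b * a := by
  have a00 := congrFun (congrFun (congrArg Subtype.val ha) 0) 0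
  have a10 := congrFun (congrFun (congrArg Subtype.val ha) 1) 0
  have b00 := congrFun (congrFun (congrArg Subtype.val hb) 0) 0
  have b10 := congrFun (congrFun (congrArg Subtype.val hb) 1) 0
  simp [Matrix.mul_apply, Matrix.vecMul, dotProduct, Fin.sum_univ_two] at a00 a10 b00 b10
  have hX : a 1 0 * (b 1 1 - b 0 0) = b 1 0 * (a 1 1 - a 0 0) :=
    mul_left_cancel₀ hg (by linear_combination a 1 0 * b10 - b 1 0 * a10)
  refine Subtype.ext (Matrix.ext fun i j => mul_left_cancel₀ hg ?_)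
  rw [Matrix.SpecialLinearGroup.coe_mul, Matrix.SpecialLinearGroup.coe_mul, Matrix.mul_apply,
    Matrix.mul_apply, Fin.sum_univ_two, Fin.sum_univ_two]
  fin_cases i <;> fin_cases j <;> simp only [Fin.zero_eta, Fin.mk_one, Fin.isValue]
  · linear_combination b 1 0 * a00 - a 1 0 * b00
  · linear_combination (b 1 1 - b 0 0) * a00 - (a 1 1 - a 0 0) * b00 + g 0 1 * hX
  · linear_combination (-(g 1 0)) * hX
  · linear_combination a 1 0 * b00 - b 1 0 * a00

/-- Odd order elements of the centraliser of an involution commute. -/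
theorem comm_of_odd {x y z : PSL} (hns : ¬ IsSquare (-1 : K)) (h2 : (2 : K) ≠ 0) (hx1 : x ≠ 1)
    (hx2 : x * x = 1) {r : ℕ} (hr : Odd r) (hy : y * x = x * y) (hyr : y ^ r = 1)
    (hz : z * x = x * z) (hzr : z ^ r = 1) : y * z = z * y := by
  obtain ⟨g, rfl⟩ := mk_surjective x
  obtain ⟨-, hq, -⟩ := lift_invol h2 hx1 hx2
  have hg : g 1 0 ≠ 0 := fun h => hns ⟨g 0 0, by rw [h] at hq; linear_combination -hq⟩
  have key : ∀ w : PSL, w * mk g = mk g * w → w ^ r = 1 →
      ∃ a : SL, mk a = w ∧ a * g = g * a := by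
    intro w hw hwr
    obtain ⟨k, hk⟩ := hr
    obtain ⟨h, hh⟩ := mk_surjective (w ^ (k + 1))
    have hc : mk h * mk g = mk g * mk h := by
      rw [hh]; exact ((show Commute w (mk g) from hw).pow_left _).eq
    rw [← map_mul, ← map_mul, mk_eq] at hc
    refine ⟨h * h, ?_, ?_⟩
    · rw [map_mul, hh, ← pow_add, show k + 1 + (k + 1) = r + 1 by omega, pow_succ, hwr, one_mul]
    · rcases hc with hc | hc
      · rw [mul_assoc, hc, ← mul_assoc, hc, mul_assoc]
      · rw [mul_assoc, hc, mul_neg, ← mul_assoc, hc, neg_mul, neg_neg, mul_assoc]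
  obtain ⟨a, rfl, ha⟩ := key y hy hyr
  obtain ⟨b, rfl, hb⟩ := key z hz hzr
  rw [← map_mul, ← map_mul, comm_of_comm hg ha hb]

/-- The centraliser of an involution is not an elementary two-group. -/
theorem exists_not_sq [Fintype K] {x : PSL} (hq : 3 < Fintype.card K) (hns : ¬ IsSquare (-1 : K))
    (h2 : (2 : K) ≠ 0) (hx1 : x ≠ 1) (hx2 : x * x = 1) :
    ∃ y : PSL, y * x = x * y ∧ y * y ≠ 1 := by
  classical
  obtain ⟨g, rfl⟩ := mk_surjective x
  obtain ⟨hu, hgq, -⟩ := lift_invol h2 hx1 hx2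
  have hg : g 1 0 ≠ 0 := fun h => hns ⟨g 0 0, by rw [h] at hgq; linear_combination -hgq⟩
  obtain ⟨τ, -, hτ⟩ : ∃ a : K, a ∈ Finset.univ ∧ a ∉ ({0, 1, -1} : Finset K) :=
    Finset.exists_mem_notMem_of_card_lt_card (by
      rw [Finset.card_univ]
      exact lt_of_le_of_lt Finset.card_le_three hq)
  simp only [Finset.mem_insert, Finset.mem_singleton, not_or] at hτ
  have hden : (1 + τ ^ 2 : K) ≠ 0 := fun h => hns ⟨τ, by linear_combination -h⟩
  set a : K := (1 - τ ^ 2) / (1 + τ ^ 2) with ha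
  set b : K := 2 * τ / (1 + τ ^ 2) with hb
  have hab : a ^ 2 + b ^ 2 = 1 := by
    rw [ha, hb]; field_simp; ring
  have hb0 : b ≠ 0 := div_ne_zero (mul_ne_zero h2 hτ.1) hden
  have ha0 : a ≠ 0 := div_ne_zero (fun h => by
    rcases mul_eq_zero.1 (show (1 - τ) * (1 + τ) = 0 by linear_combination h) with h' | h'
    · exact hτ.2.1 (by linear_combination -h')
    · exact hτ.2.2 (by linear_combination h')) hden
  obtain ⟨h, e00, e01, e10', e11⟩ : ∃ h : SL, h 0 0 = a + b * g 0 0 ∧ h 0 1 = b * g 0 1 ∧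
      h 1 0 = b * g 1 0 ∧ h 1 1 = a - b * g 0 0 := by
    refine ⟨⟨!![a + b * g 0 0, b * g 0 1; b * g 1 0, a - b * g 0 0], ?_⟩, rfl, rfl, rfl, rfl⟩
    rw [det_fin_two_of]; linear_combination hab - b ^ 2 * hgq
  refine ⟨mk h, ?_, ?_⟩
  · rw [← map_mul, ← map_mul, mk_eq]
    refine Or.inl (Subtype.ext (Matrix.ext fun i j => ?_))
    fin_cases i <;> fin_cases j <;>
      simp [e00, e01, e10', e11, Matrix.mul_apply, Matrix.vecMul, dotProduct, Fin.sum_univ_two, hu] <;> ring
  · rw [← map_mul, Ne, mk_eq_one]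
    intro e
    have e10 : (b * g 1 0) * (a + b * g 0 0) + (a - b * g 0 0) * (b * g 1 0) = 0 := by
      rcases e with e | e <;>
      · have := congrFun (congrFun (congrArg Subtype.val e) 1) 0
        simpa [e00, e01, e10', e11, Matrix.mul_apply, Matrix.vecMul, dotProduct, Fin.sum_univ_two] using this
    refine mul_ne_zero (mul_ne_zero (mul_ne_zero h2 ha0) hb0) hg ?_
    linear_combination e10

end Klein

namespace Par

variable {K : Type*} [Field K] [Fintype K] (P : Par K)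
include P

/-- The normaliser of a Sylow two-subgroup is transitive on its involutions. -/
theorem exists_autHom (hq : 4 < Nat.card K) {p : EV} (hp : p ≠ 1) :
    ∃ n, P.autHom n baseEV = p := by
  classical
  set A := P.autHom.range
  set O := (MulAction.orbit ↥A baseEV).toFinset with hO
  have hmem : ∀ p, p ∈ O ↔ ∃ φ : ↥A, (φ : MulAut EV) baseEV = p := fun p => by
    rw [hO, Set.mem_toFinset]; rfl
  have hone : (1 : EV) ∉ O := fun h1 => by
    obtain ⟨φ, e⟩ := (hmem _).1 h1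
    exact baseEV_spec.2 ((φ : MulAut EV).injective (e.trans (map_one _).symm))
  have hdvd : O.card ∣ Nat.card A := by
    rw [hO, Set.toFinset_card, Nat.card_eq_fintype_card]
    exact Dvd.intro _ (MulAction.card_orbit_mul_card_stabilizer_eq_card_group ↥A baseEV)
  have hstab : ∀ p ∈ O, cycleEV p ∈ O := fun p hp => by
    obtain ⟨φ, rfl⟩ := (hmem _).1 hp
    exact (hmem _).2 ⟨⟨P.autHom ⟨P.rT, P.rT_mem⟩, _, rfl⟩ * φ, P.autHom_rT _⟩
  rcases orbit_shape O hstab ((hmem _).2 ⟨1, rfl⟩) hone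
    (Nat.odd_iff.1 (Odd.of_dvd_nat P.odd_range hdvd)) with h | h
  · exfalso
    obtain ⟨n, hn⟩ := P.not_fixed hq
    have := (hmem _).2 ⟨⟨P.autHom n, n, rfl⟩, rfl⟩
    rw [h, Finset.mem_singleton] at this
    exact hn this
  · have hall : O = Finset.univ.erase 1 := by
      refine Finset.eq_of_subset_of_card_le (fun x hx => ?_) ?_
      · exact Finset.mem_erase.2 ⟨fun e => hone (e ▸ hx), Finset.mem_univ _⟩
      · rw [h, Finset.card_erase_of_mem (Finset.mem_univ _), Finset.card_univ]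
        decide
    obtain ⟨⟨_, n, rfl⟩, e⟩ := (hmem p).1 (hall ▸ Finset.mem_erase.2 ⟨hp, Finset.mem_univ _⟩)
    exact ⟨n, e⟩

theorem conj_baseEV (hq : 4 < Nat.card K) {p : EV} (hp : p ≠ 1) :
    ∃ n : ↥(twistedG2 K P.e), n * P.eight baseEV * n⁻¹ = P.eight p := by
  obtain ⟨n, e⟩ := P.exists_autHom hq hp
  exact ⟨n, by rw [← P.autHom_spec]; exact congrArg P.eight e⟩

theorem sq_eq_one {x : ↥(twistedG2 K P.e)} {k : ℕ} (hx : orderOf x = 2 ^ k) : x * x = 1 := by
  haveI : Fact (Nat.Prime 2) := ⟨Nat.prime_two⟩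
  obtain ⟨S, hS⟩ := (IsPGroup.of_card (G := ↥(Subgroup.zpowers x))
    ((Nat.card_zpowers x).trans hx)).exists_le_sylow
  exact (P.sylow_two S).2 x (hS (Subgroup.mem_zpowers x))

theorem invol_conj (hq : 4 < Nat.card K) {u : ↥(twistedG2 K P.e)} (hu : u * u = 1)
    (hu1 : u ≠ 1) : ∃ g, g * P.eight baseEV * g⁻¹ = u := by
  haveI : Fact (Nat.Prime 2) := ⟨Nat.prime_two⟩
  haveI : Finite ↥(twistedG2 K P.e) := Subtype.finite
  obtain ⟨S, hS⟩ := (IsPGroup.of_card (p := 2) (G := ↥(Subgroup.zpowers u)) (n := 1)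
    ((Nat.card_zpowers u).trans ((orderOf_eq_prime ((pow_two u).trans hu) hu1).trans (pow_one 2).symm))).exists_le_sylow
  obtain ⟨S0, hS0⟩ := P.exists_sylow_two
  obtain ⟨g, rfl⟩ := MulAction.exists_smul_eq ↥(twistedG2 K P.e) S0 S
  have hu' : u ∈ P.eight.range.map (MulAut.conj g).toMonoidHom := by
    have h := hS (Subgroup.mem_zpowers u)
    rwa [Sylow.coe_subgroup_smul, hS0] at h
  obtain ⟨_, ⟨p, rfl⟩, rfl⟩ := hu'
  obtain ⟨n, hn⟩ := P.conj_baseEV hq (p := p) (fun h => hu1 (by rw [h, map_one, map_one]))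
  exact ⟨g * n, by
    rw [← hn]; show g * n * P.eight baseEV * (g * n)⁻¹ = g * (n * P.eight baseEV * n⁻¹) * g⁻¹
    group⟩

theorem ιT_base : P.ιT (P.eight baseEV) = P.aG := by
  rw [eight_apply, baseEV, Θ_apply, twoHom_one, Prod.snd, map_one, map_one, mul_one]

/-- Elements of one odd prime order centralising a four-group commute; some exist. -/
theorem four_core (hq : 4 < Nat.card K) {v : ↥(twistedG2 K P.e)}
    (hc : v * P.eight baseEV = P.eight baseEV * v) (h2 : v * v = 1) (h1 : v ≠ 1)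
    (hne : v ≠ P.eight baseEV) :
    ∃ r : ℕ, r.Prime ∧ r ≠ 2 ∧
      (∀ c d, c * P.eight baseEV = P.eight baseEV * c → c * v = v * c → c ^ r = 1 →
        d * P.eight baseEV = P.eight baseEV * d → d * v = v * d → d ^ r = 1 → c * d = d * c) ∧
      ∃ c, c * P.eight baseEV = P.eight baseEV * c ∧ c * v = v * c ∧ c ≠ 1 ∧ c ^ r = 1 := by
  haveI : Finite ↥(twistedG2 K P.e) := Subtype.finite
  have hΘ : ∀ c : ↥(twistedG2 K P.e), c * P.eight baseEV = P.eight baseEV * c →
      ∃ p, P.Θ p = P.ιT c := fun c hc' => by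
    show P.ιT c ∈ P.Θ.range
    rw [P.Θ_range, P.mem_CA, ← P.ιT_base, ← map_mul, ← map_mul, hc']
    exact ⟨P.ιT_fixed c, rfl⟩
  obtain ⟨⟨z, x⟩, ev⟩ := hΘ v hc
  have hxx : x * x = 1 := by
    have : P.Θ ((z, x) * (z, x)) = P.Θ 1 := by
      rw [map_mul, ev, ← map_mul, h2, map_one, map_one]
    exact congrArg Prod.snd (P.Θ_injective this)
  have hx1 : x ≠ 1 := by
    rintro rfl
    rcases mult_two z with rfl | rfl
    · exact h1 (P.ιT_inj (ev.symm.trans ((congrArg P.Θ rfl).trans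
        ((map_one P.Θ).trans (map_one P.ιT).symm))))
    · exact hne (P.ιT_inj (ev.symm.trans (by rw [P.ιT_base, Θ_apply, twoHom_one, map_one, mul_one])))
  obtain ⟨y, hy, hyy⟩ := Klein.exists_not_sq
    (by rw [← Nat.card_eq_fintype_card]; omega) P.not_sq P.two_ne hx1 hxx
  set f := P.toT P.Θ P.Θ_fixed
  have hf : ∀ c p, P.Θ p = P.ιT c → f p = c := fun c p h => P.ιT_inj h
  have hb : f (Multiplicative.ofAdd 1, 1) = P.eight baseEV :=
    hf _ _ (by rw [P.ιT_base, Θ_apply, twoHom_one, map_one, mul_one])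
  have hv : f (z, x) = v := hf _ _ ev
  set c := f (1, y) with hcdef
  have hc2 : ∀ k : ℕ, orderOf c ≠ 2 ^ k := by
    intro k hk
    have h := P.sq_eq_one hk
    rw [hcdef, ← map_mul] at h
    have h' : P.Θ ((1, y) * (1, y)) = P.Θ 1 := by
      rw [map_one]
      exact (congrArg P.ιT h).trans (map_one _)
    exact hyy (congrArg Prod.snd (P.Θ_injective h'))
  obtain ⟨r, hr, hr2, j, hj1, hj⟩ := exists_odd_prime_pow hc2
  refine ⟨r, hr, hr2, ?_, c ^ j, ?_, ?_, hj1, hj⟩
  · intro c' d' hc' hcv hcr hd' hdv hdr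
    obtain ⟨⟨z1, x1⟩, e1⟩ := hΘ c' hc'
    obtain ⟨⟨z2, x2⟩, e2⟩ := hΘ d' hd'
    have hx : ∀ (w : ↥(twistedG2 K P.e)) p, P.Θ p = P.ιT w → w * v = v * w → w ^ r = 1 →
        p.2 * x = x * p.2 ∧ p.2 ^ r = 1 := by
      intro w p e hw hwr
      refine ⟨congrArg Prod.snd (P.Θ_injective (show P.Θ (p * (z, x)) = P.Θ ((z, x) * p) by
        rw [map_mul, map_mul, e, ev, ← map_mul, ← map_mul, hw])), ?_⟩
      exact congrArg Prod.snd (P.Θ_injective (show P.Θ (p ^ r) = P.Θ 1 by
        rw [map_pow, e, ← map_pow, hwr, map_one, map_one]))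
    have hodd := hr.odd_of_ne_two hr2
    have := Klein.comm_of_odd P.not_sq P.two_ne hx1 hxx hodd (hx c' _ e1 hcv hcr).1
      (hx c' _ e1 hcv hcr).2 (hx d' _ e2 hdv hdr).1 (hx d' _ e2 hdv hdr).2
    refine P.ιT_inj ?_
    rw [map_mul, map_mul, ← e1, ← e2, ← map_mul, ← map_mul]
    exact congrArg P.Θ (Prod.ext (mul_comm _ _) this)
  · refine ((show Commute c (P.eight baseEV) from ?_).pow_left j).eq
    rw [← hb]
    exact (Commute.map (show Commute ((1 : Multiplicative (ZMod 2)), y) (Multiplicative.ofAdd 1, 1)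
      from Prod.ext (mul_comm _ _) (by simp)) f)
  · refine ((show Commute c v from ?_).pow_left j).eq
    rw [← hv]
    exact (Commute.map (show Commute ((1 : Multiplicative (ZMod 2)), y) (z, x)
      from Prod.ext (mul_comm _ _) hy) f)

/-- The conclusion: `S` is in one of the local normalisers. -/
def Covered (N : Set ℕ) (S : Subgroup ↥(twistedG2 K P.e)) : Prop :=
  ∃ A : Subgroup ↥(twistedG2 K P.e), S ≤ Subgroup.normalizer (A : Set ↥(twistedG2 K P.e)) ∧
    ((∃ Q : Sylow 2 ↥(twistedG2 K P.e), A = Q) ∨ (∃ Q : Sylow 3 ↥(twistedG2 K P.e), A = Q) ∨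
      (IsCyclic A ∧ Nat.card A ∈ N))

/-- The hypothesis on the tori. -/
def Tori (N : Set ℕ) : Prop :=
  (∀ r : ℕ, r.Prime → 3 < r → r ∣ Nat.card ↥(twistedG2 K P.e) → ∃ n ∈ N, r ∣ n) ∧
  ∀ n ∈ N, ∃ A : Subgroup ↥(twistedG2 K P.e), IsCyclic A ∧ Nat.card A = n ∧
    ∀ B : Subgroup ↥(twistedG2 K P.e), B ≤ A → B ≠ ⊥ →
      Subgroup.normalizer (B : Set ↥(twistedG2 K P.e))
        = Subgroup.normalizer (A : Set ↥(twistedG2 K P.e))

theorem covered_sylow (N : Set ℕ) {S : Subgroup ↥(twistedG2 K P.e)}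
    (Q : Sylow 2 ↥(twistedG2 K P.e))
    (h : S ≤ Subgroup.normalizer ((Q : Subgroup ↥(twistedG2 K P.e)) : Set ↥(twistedG2 K P.e))) :
    P.Covered N S := ⟨Q, h, Or.inl ⟨Q, rfl⟩⟩

theorem covered_odd {N : Set ℕ} (hN : P.Tori N) {r : ℕ} [Fact r.Prime] (hr : r ≠ 2)
    {S R : Subgroup ↥(twistedG2 K P.e)} (hR : IsPGroup r R) (hR1 : R ≠ ⊥)
    (hS : S ≤ Subgroup.normalizer (R : Set ↥(twistedG2 K P.e))) : P.Covered N S := by
  haveI : Finite ↥(twistedG2 K P.e) := Subtype.finite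
  obtain ⟨Q, hQ⟩ := hR.exists_le_sylow
  by_cases h3 : r = 3
  · subst h3
    refine ⟨Q, fun g hg => ?_, Or.inr (Or.inl ⟨Q, rfl⟩)⟩
    obtain ⟨x, hx, hx1⟩ : ∃ x ∈ R, x ≠ 1 := by
      by_contra h
      push Not at h
      exact hR1 ((Subgroup.eq_bot_iff_forall R).2 h)
    have e : g • Q = Q := by
      by_contra hne
      have h := P.sylow_TI (g • Q) Q hne
      have h1 : g * x * g⁻¹ ∈ (((g • Q : Sylow 3 ↥(twistedG2 K P.e)) :
          Subgroup ↥(twistedG2 K P.e)) ⊓ (Q : Subgroup ↥(twistedG2 K P.e))) :=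
        ⟨by rw [Sylow.coe_subgroup_smul]; exact ⟨x, hQ hx, rfl⟩,
          hQ ((Subgroup.mem_normalizer_iff.1 (hS hg) x).1 hx)⟩
      rw [h, Subgroup.mem_bot] at h1
      exact hx1 (by rwa [mul_inv_eq_one, mul_eq_left] at h1)
    exact Sylow.smul_eq_iff_mem_normalizer.1 e
  have hr3 : 3 < r := by
    have h2 := (Fact.out : r.Prime).two_le
    rcases Nat.lt_or_ge 3 r with h | h
    · exact h
    · omega
  haveI hQc : IsCyclic ↥(Q : Subgroup ↥(twistedG2 K P.e)) := P.sylow_cyclic hr3 Q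
  have hRc : IsCyclic ↥R := isCyclic_of_injective (Subgroup.inclusion hQ)
    (Subgroup.inclusion_injective hQ)
  obtain ⟨k, hk⟩ := IsPGroup.iff_card.1 hR
  have hdvd : r ∣ Nat.card R := by
    rw [hk]
    refine dvd_pow_self r fun h0 => hR1 (Subgroup.card_eq_one.1 ?_)
    rw [hk, h0, pow_zero]
  obtain ⟨n, hn, hrn⟩ := hN.1 r Fact.out hr3
    (hdvd.trans (Subgroup.card_subgroup_dvd_card R))
  obtain ⟨A, hAc, hAn, hA⟩ := hN.2 n hn
  obtain ⟨⟨a, haA⟩, ha⟩ := exists_prime_orderOf_dvd_card' (G := ↥A) r (hAn ▸ hrn)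
  rw [← Subgroup.orderOf_coe] at ha
  obtain ⟨⟨z, hzR⟩, hz⟩ := exists_prime_orderOf_dvd_card' (G := ↥R) r hdvd
  rw [← Subgroup.orderOf_coe] at hz
  -- move `a` into the cyclic Sylow subgroup of `z`
  obtain ⟨Q', hQ'⟩ := (IsPGroup.of_card (G := ↥(Subgroup.zpowers a)) (n := 1)
    ((Nat.card_zpowers a).trans (ha.trans (pow_one r).symm))).exists_le_sylow
  obtain ⟨g, hg⟩ := MulAction.exists_smul_eq ↥(twistedG2 K P.e) Q' Q
  have hga : g * a * g⁻¹ ∈ (Q : Subgroup ↥(twistedG2 K P.e)) := by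
    rw [← hg, Sylow.coe_subgroup_smul]
    exact ⟨a, hQ' (Subgroup.mem_zpowers a), rfl⟩
  have hoz : orderOf (g * a * g⁻¹) = r :=
    (orderOf_injective (MulAut.conj g).toMonoidHom (MulAut.conj g).injective a).trans ha
  have e : Subgroup.zpowers z = Subgroup.zpowers (g * a * g⁻¹) := by
    refine Subgroup.eq_of_le_of_card_ge (Subgroup.zpowers_le.2 ?_)
      (by rw [Nat.card_zpowers, Nat.card_zpowers, hoz, hz])
    obtain ⟨i, hi⟩ := Subgroup.mem_zpowers_iff.1
      (Components.mem_zpowers_of_pow_eq_one (C := ↥(Q : Subgroup ↥(twistedG2 K P.e)))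
        (z := ⟨_, hga⟩) (y := ⟨z, hQ hzR⟩) (by rw [← Subgroup.orderOf_coe]; exact hoz)
        (Subtype.ext (show z ^ r = 1 by rw [← hz, pow_orderOf_eq_one])))
    exact ⟨i, congrArg Subtype.val hi⟩
  refine ⟨A.map (MulAut.conj g).toMonoidHom, ?_, Or.inr (Or.inr ⟨?_, ?_⟩)⟩
  · refine (hS.trans (normalizer_le_of_le_cyclic hRc hzR hz)).trans (le_of_eq ?_)
    rw [e, show Subgroup.zpowers (g * a * g⁻¹)
        = (Subgroup.zpowers a).map (MulAut.conj g).toMonoidHom from
      (MonoidHom.map_zpowers (MulAut.conj g).toMonoidHom a).symm,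
      ← Subgroup.map_equiv_normalizer_eq, hA _ (Subgroup.zpowers_le.2 haA)
        (fun h => (Fact.out : r.Prime).one_lt.ne' (by rw [← ha, ← Nat.card_zpowers, h,
          Subgroup.card_bot])), Subgroup.map_equiv_normalizer_eq]
  · exact (A.equivMapOfInjective _ (MulAut.conj g).injective).isCyclic.1 hAc
  · rw [← Nat.card_congr (A.equivMapOfInjective _ (MulAut.conj g).injective).toEquiv, hAn]
    exact hn

theorem covered_two {N : Set ℕ} (hN : P.Tori N) (hq : 4 < Nat.card K)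
    {S R : Subgroup ↥(twistedG2 K P.e)} (hR : IsPGroup 2 R) (hR4 : 4 ≤ Nat.card R)
    (hS : S ≤ Subgroup.normalizer (R : Set ↥(twistedG2 K P.e))) : P.Covered N S := by
  haveI : Finite ↥(twistedG2 K P.e) := Subtype.finite
  haveI : Fact (Nat.Prime 2) := ⟨Nat.prime_two⟩
  obtain ⟨Q, hQ⟩ := hR.exists_le_sylow
  obtain ⟨h8, hsq⟩ := P.sylow_two Q
  have hd : Nat.card R ∣ 8 := h8 ▸ Subgroup.card_dvd_of_le hQ
  rcases Nat.lt_or_ge (Nat.card R) 8 with hlt | hge
  swap
  · have : R = Q := Subgroup.eq_of_le_of_card_ge hQ (h8 ▸ hge)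
    exact P.covered_sylow N Q (this ▸ hS)
  have h4 : Nat.card R = 4 := by
    interval_cases h : Nat.card R <;> omega
  obtain ⟨u, hu, hu1⟩ : ∃ u ∈ R, u ≠ 1 := by
    by_contra h
    push Not at h
    rw [(Subgroup.eq_bot_iff_forall R).2 h, Subgroup.card_bot] at h4
    omega
  obtain ⟨v, hv, hv1, hvu⟩ : ∃ v ∈ R, v ≠ 1 ∧ v ≠ u := by
    by_contra h
    push Not at h
    have hsub : (R : Set ↥(twistedG2 K P.e)) ⊆ {1, u} := fun w hw => by
      by_cases hw1 : w = 1
      · exact Or.inl hw1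
      · exact Or.inr (h w hw hw1)
    have := (Set.ncard_le_ncard hsub (Set.toFinite _)).trans (Set.ncard_insert_le _ _)
    rw [Set.ncard_singleton, ← Nat.card_coe_set_eq] at this
    change Nat.card ↥R ≤ _ at this
    omega
  obtain ⟨g, hg⟩ := P.invol_conj hq (hsq u (hQ hu)) hu1
  set φ := MulAut.conj g with hφ
  have hgu : φ (P.eight baseEV) = u := hg
  have hcomm : ∀ a ∈ R, ∀ b ∈ R, a * b = b * a := fun a ha b hb => by
    have h1 := hsq _ (hQ (mul_mem ha hb))
    calc a * b = (a * b)⁻¹ := (inv_eq_of_mul_eq_one_right h1).symm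
      _ = b⁻¹ * a⁻¹ := mul_inv_rev a b
      _ = b * a := by
        rw [inv_eq_of_mul_eq_one_right (hsq b (hQ hb)), inv_eq_of_mul_eq_one_right (hsq a (hQ ha))]
  obtain ⟨r, hr, hr2, hcom, c, hca, hcv, hc1, hcr⟩ := P.four_core hq (v := φ.symm v)
    (φ.injective (by rw [map_mul, map_mul, MulEquiv.apply_symm_apply, hgu, hcomm v hv u hu]))
    (φ.injective (by rw [map_mul, MulEquiv.apply_symm_apply, hsq v (hQ hv), map_one]))
    (fun h => hv1 (by rw [← φ.apply_symm_apply v, h, map_one]))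
    (fun h => hvu (by rw [← φ.apply_symm_apply v, h, hgu]))
  haveI : Fact r.Prime := ⟨hr⟩
  have hRgen : ∀ w ∈ R, w = 1 ∨ w = u ∨ w = v ∨ w = u * v := by
    classical
    intro w hw
    haveI := Fintype.ofFinite ↥R
    by_contra h
    push Not at h
    have hs : ({1, u, v, u * v, w} : Finset ↥(twistedG2 K P.e)) ⊆
        (R : Set ↥(twistedG2 K P.e)).toFinset := by
      simp only [Finset.insert_subset_iff, Finset.singleton_subset_iff, Set.mem_toFinset,
        SetLike.mem_coe]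
      exact ⟨one_mem R, hu, hv, mul_mem hu hv, hw⟩
    have hle := Finset.card_le_card hs
    rw [Set.toFinset_card, ← Nat.card_eq_fintype_card] at hle
    change _ ≤ Nat.card ↥R at hle
    have huv : u * v ≠ 1 := fun e => hvu (by
      rw [← inv_eq_of_mul_eq_one_right e, inv_eq_of_mul_eq_one_right (hsq u (hQ hu))])
    rw [Finset.card_insert_of_notMem, Finset.card_insert_of_notMem,
      Finset.card_insert_of_notMem, Finset.card_insert_of_notMem, Finset.card_singleton] at hle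
    · omega
    · simpa using h.2.2.2.symm
    · simp only [Finset.mem_insert, Finset.mem_singleton, not_or]
      exact ⟨fun e => hu1 (mul_eq_right.1 e.symm), fun e => h.2.2.1 e.symm⟩
    · simp only [Finset.mem_insert, Finset.mem_singleton, not_or]
      exact ⟨hvu.symm, fun e => hv1 (mul_eq_left.1 e.symm), fun e => h.2.1 e.symm⟩
    · simp only [Finset.mem_insert, Finset.mem_singleton, not_or]
      exact ⟨hu1.symm, hv1.symm, huv.symm, fun e => h.1 e.symm⟩
  -- the elements of order dividing `r` in the centraliser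
  have hmem : ∀ w, (∀ x ∈ R, w * x = x * w) → w ^ r = 1 →
      φ.symm w * P.eight baseEV = P.eight baseEV * φ.symm w ∧
        φ.symm w * φ.symm v = φ.symm v * φ.symm w ∧ φ.symm w ^ r = 1 := fun w hw hwr => by
    refine ⟨φ.injective ?_, ?_, ?_⟩
    · rw [map_mul, map_mul, MulEquiv.apply_symm_apply, hgu, hw u hu]
    · rw [← map_mul, ← map_mul, hw v hv]
    · rw [← map_pow, hwr, map_one]
  have hmul : ∀ a b, ((∀ x ∈ R, a * x = x * a) ∧ a ^ r = 1) →
      ((∀ x ∈ R, b * x = x * b) ∧ b ^ r = 1) → (∀ x ∈ R, a * b * x = x * (a * b)) ∧ (a * b) ^ r = 1 := by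
    rintro a b ⟨ha, har⟩ ⟨hb, hbr⟩
    refine ⟨fun x hx => by rw [mul_assoc, hb x hx, ← mul_assoc, ha x hx, mul_assoc], ?_⟩
    obtain ⟨a1, a2, a3⟩ := hmem a ha har
    obtain ⟨b1, b2, b3⟩ := hmem b hb hbr
    have h := hcom _ _ a1 a2 a3 b1 b2 b3
    rw [← map_mul, ← map_mul] at h
    rw [Commute.mul_pow (φ.symm.injective h), har, hbr, one_mul]
  let R' : Subgroup ↥(twistedG2 K P.e) :=
    { carrier := {w | (∀ x ∈ R, w * x = x * w) ∧ w ^ r = 1}
      one_mem' := ⟨fun x _ => by rw [one_mul, mul_one], one_pow r⟩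
      mul_mem' := fun {a b} ha hb => hmul a b ha hb
      inv_mem' := fun {a} ha => ⟨fun x hx => (Commute.inv_left (ha.1 x hx)).eq,
        by rw [inv_pow, ha.2, inv_one]⟩ }
  refine P.covered_odd hN (R := R') hr2 ?_ ?_ ?_
  · intro w
    exact ⟨1, Subtype.ext (by rw [pow_one]; exact w.2.2)⟩
  · intro h
    have hc' : φ c ∈ R' := by
      refine ⟨fun x hx => ?_, by rw [← map_pow, hcr, map_one]⟩
      have h0 : Commute (φ c) u := by
        rw [← hgu, Commute, SemiconjBy, ← map_mul, ← map_mul, hca]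
      have h0' : Commute (φ c) v := by
        rw [← φ.apply_symm_apply v, Commute, SemiconjBy, ← map_mul, ← map_mul, hcv]
      rcases hRgen x hx with rfl | rfl | rfl | rfl
      · exact (Commute.one_right _).eq
      · exact h0.eq
      · exact h0'.eq
      · exact (h0.mul_right h0').eq
    rw [h, Subgroup.mem_bot] at hc'
    exact hc1 (φ.injective (hc'.trans (map_one φ).symm))
  · intro s hs
    have hs' := hS hs
    rw [Subgroup.mem_normalizer_iff]
    have key : ∀ (s : ↥(twistedG2 K P.e)), (∀ x ∈ R, s⁻¹ * x * s ∈ R) → ∀ w ∈ R',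
        s * w * s⁻¹ ∈ R' := by
      intro s hs w hw
      refine ⟨fun x hx => ?_, by rw [conj_pow, hw.2, mul_one, mul_inv_cancel]⟩
      have := hw.1 _ (hs x hx)
      calc s * w * s⁻¹ * x = s * (w * (s⁻¹ * x * s)) * s⁻¹ := by group
        _ = s * ((s⁻¹ * x * s) * w) * s⁻¹ := by rw [this]
        _ = _ := by group
    rw [Subgroup.mem_normalizer_iff] at hs'
    intro w
    constructor
    · exact key s (fun x hx => (hs' _).2 (by
        rwa [show s * (s⁻¹ * x * s) * s⁻¹ = x by group])) w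
    · intro hw
      have := key s⁻¹ (fun x hx => by rw [inv_inv]; exact (hs' x).1 hx) _ hw
      rwa [show s⁻¹ * (s * w * s⁻¹) * s⁻¹⁻¹ = w by group] at this

/-- Solvable subgroups lie in local normalisers. -/
theorem covered_solvable {N : Set ℕ} (hN : P.Tori N) (hq : 4 < Nat.card K)
    (S : Subgroup ↥(twistedG2 K P.e)) (hS : Group.IsSolvable S) : P.Covered N S := by
  haveI : Finite ↥(twistedG2 K P.e) := Subtype.finite
  haveI : Fact (Nat.Prime 2) := ⟨Nat.prime_two⟩
  haveI := hS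
  set F := fittingSubgroup ↥S
  haveI : Group.IsNilpotent ↥F := Cores.fittingSubgroup_isNilpotent
  -- a characteristic subgroup of `F` is normalised by `S`
  have norm : ∀ R : Subgroup ↥F, R.Characteristic →
      S ≤ Subgroup.normalizer
        ((R.map (S.subtype.comp F.subtype) : Subgroup ↥(twistedG2 K P.e)) :
          Set ↥(twistedG2 K P.e)) := by
    intro R hR
    haveI := hR
    rw [← Subgroup.map_map]
    intro s hs
    have hn : (R.map F.subtype).Normal := inferInstance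
    rw [Subgroup.mem_normalizer_iff]
    intro x
    constructor
    · rintro ⟨y, hy, rfl⟩
      exact ⟨⟨s, hs⟩ * y * ⟨s, hs⟩⁻¹, hn.conj_mem y hy _, rfl⟩
    · rintro ⟨y, hy, e⟩
      refine ⟨⟨s, hs⟩⁻¹ * y * ⟨s, hs⟩, hn.conj_mem' y hy _, ?_⟩
      simp only [Subgroup.subtype_apply, Subgroup.coe_mul, InvMemClass.coe_inv] at e ⊢
      rw [e]; group
  have inj : Function.Injective (S.subtype.comp F.subtype) :=
    S.subtype_injective.comp F.subtype_injective
  by_cases hodd : ∃ r : ℕ, r.Prime ∧ r ≠ 2 ∧ r ∣ Nat.card F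
  · obtain ⟨r, hr, hr2, hrd⟩ := hodd
    haveI : Fact r.Prime := ⟨hr⟩
    obtain ⟨R⟩ := (inferInstance : Nonempty (Sylow r ↥F))
    have hnil := ((Group.isNilpotent_of_finite_tfae (G := ↥F)).out 0 3 (by rfl) (by rfl)).1
      (inferInstance : Group.IsNilpotent ↥F)
    haveI hRn : (R : Subgroup ↥F).Normal := hnil r ⟨hr⟩ R
    refine P.covered_odd hN hr2 (R.isPGroup'.map _) ?_
      (norm _ (R.characteristic_of_normal hRn))
    rw [Ne, Subgroup.map_eq_bot_iff_of_injective _ inj]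
    exact R.ne_bot_of_dvd_card hrd
  have hF : IsPGroup 2 ↥F := by
    rw [IsPGroup.iff_card]
    exact ⟨_, Nat.eq_prime_pow_of_unique_prime_dvd Nat.card_pos.ne' fun {d} hd hdd => by
      by_contra h
      exact hodd ⟨d, hd, h, hdd⟩⟩
  have hmap : (⊤ : Subgroup ↥F).map (S.subtype.comp F.subtype) = F.map S.subtype := by
    rw [← Subgroup.map_map, ← MonoidHom.range_eq_map, Subgroup.range_subtype]
  have hFS : S ≤ Subgroup.normalizer ((F.map S.subtype : Subgroup ↥(twistedG2 K P.e)) :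
      Set ↥(twistedG2 K P.e)) := hmap ▸ norm ⊤ inferInstance
  have hcard : Nat.card ↥(F.map S.subtype) = Nat.card ↥F :=
    (Nat.card_congr (F.equivMapOfInjective _ S.subtype_injective).toEquiv).symm
  rcases Nat.lt_or_ge (Nat.card ↥F) 4 with hlt | hge
  swap
  · exact P.covered_two hN hq (hF.map _) (hcard ▸ hge) hFS
  -- the Fitting subgroup has order at most two, so it is central and equals `S`
  have h2 : Nat.card ↥F ≤ 2 := by
    obtain ⟨k, hk⟩ := IsPGroup.iff_card.1 hF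
    rw [hk] at hlt ⊢
    rcases k with _ | _ | k <;> simp [pow_succ] at hlt ⊢ <;> omega
  have hcen : Subgroup.centralizer (F : Set ↥S) = ⊤ := by
    refine eq_top_iff.2 fun s _ => Subgroup.mem_centralizer_iff.2 fun x hx => ?_
    by_cases hx1 : x = 1
    · rw [hx1, one_mul, mul_one]
    have hsx : s * x * s⁻¹ ∈ F := (inferInstance : F.Normal).conj_mem x hx s
    have : s * x * s⁻¹ = x := by
      by_contra hne
      classical
      haveI := Fintype.ofFinite ↥F
      have hs : ({(1 : ↥F), ⟨x, hx⟩, ⟨s * x * s⁻¹, hsx⟩} : Finset ↥F).card = 3 := by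
        refine Finset.card_eq_three.2 ⟨_, _, _, ?_, ?_, ?_, rfl⟩
        · exact fun e => hx1 (congrArg Subtype.val e).symm
        · intro e
          have e' : (1 : ↥S) = s * x * s⁻¹ := congrArg Subtype.val e
          exact hx1 (by rw [eq_comm, mul_inv_eq_one, mul_eq_left] at e'; exact e')
        · exact fun e => hne (congrArg Subtype.val e).symm
      have := Finset.card_le_univ ({(1 : ↥F), ⟨x, hx⟩, ⟨s * x * s⁻¹, hsx⟩} : Finset ↥F)
      rw [hs, ← Nat.card_eq_fintype_card] at this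
      omega
    exact (mul_inv_eq_iff_eq_mul.1 this).symm
  have htop : F = ⊤ := eq_top_iff.2 (hcen ▸ Cores.centralizer_fittingSubgroup_le)
  have hS2 : IsPGroup 2 ↥S := by
    have h := hF.map S.subtype
    rwa [htop, ← MonoidHom.range_eq_map, Subgroup.range_subtype] at h
  obtain ⟨Q, hQ⟩ := hS2.exists_le_sylow
  exact P.covered_sylow N Q (hQ.trans Subgroup.le_normalizer)

/-- The four torus orders account for all primes above three. -/
theorem dvd_orders {r : ℕ} (hr : r.Prime) (h3 : 3 < r) {m : ℕ} (hm : P.e = 3 ^ m)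
    (hd : r ∣ Nat.card ↥(twistedG2 K P.e)) :
    ∃ n ∈ ({(3 ^ (2 * m + 1) - 1) / 2, (3 ^ (2 * m + 1) + 1) / 4,
      3 ^ (2 * m + 1) - 3 ^ (m + 1) + 1, 3 ^ (2 * m + 1) + 3 ^ (m + 1) + 1} : Set ℕ), r ∣ n := by
  haveI : Fact r.Prime := ⟨hr⟩
  have hq : 3 ^ (2 * m + 1) = Nat.card K := by
    rw [P.card_nat, hm, ← pow_mul, ← pow_succ']; ring_nf
  have hs : 3 ^ (m + 1) = 3 * P.e := by rw [hm, pow_succ']
  rw [hq, hs, P.card_nat]
  have he := P.e_pos
  obtain ⟨a, ha⟩ := P.odd
  rw [P.card_T, P.card_nat] at hd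
  have hnd : ∀ j, ¬ r ∣ 3 ^ j := fun j h => by
    have := (Nat.prime_dvd_prime_iff_eq hr Nat.prime_three).1 (hr.dvd_of_dvd_pow h)
    omega
  have hndK : ¬ r ∣ (3 * P.e ^ 2) ^ 3 := fun h => by
    rw [hm, ← pow_mul, ← pow_succ', ← pow_mul] at h
    exact hnd _ h
  have hle : 3 * P.e ≤ 3 * P.e ^ 2 := Nat.mul_le_mul_left _ (Nat.le_self_pow two_ne_zero _)
  have hfac : 1 + (3 * P.e ^ 2) ^ 3 = (3 * P.e ^ 2 + 1) *
      ((3 * P.e ^ 2 - 3 * P.e + 1) * (3 * P.e ^ 2 + 3 * P.e + 1)) := by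
    obtain ⟨d, hd⟩ := Nat.exists_eq_add_of_le hle
    rw [show 3 * P.e ^ 2 - 3 * P.e = d by omega]
    zify at hd ⊢
    rw [show (d : ℤ) = 3 * (P.e : ℤ) ^ 2 - 3 * P.e by linarith]
    ring
  rw [hfac] at hd
  have hcop : ∀ (k x : ℕ), 0 < k → k ≤ 4 → r ∣ x → k ∣ x → r ∣ x / k := by
    intro k x hk0 hk4 hx hkx
    obtain ⟨w, rfl⟩ := hkx
    rw [Nat.mul_div_cancel_left _ hk0]
    refine (hr.dvd_mul.1 hx).resolve_left fun h => ?_
    have h' := Nat.le_of_dvd hk0 h
    have : r ≤ 4 := by omega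
    interval_cases r
    exact absurd hr (by norm_num)
  rcases hr.dvd_mul.1 hd with h | h
  · rcases hr.dvd_mul.1 h with h | h
    · exact absurd h hndK
    · refine ⟨_, Or.inl rfl, hcop 2 _ (by norm_num) (by norm_num) h ⟨6 * a ^ 2 + 6 * a + 1, ?_⟩⟩
      rw [ha]; ring_nf; omega
  · rcases hr.dvd_mul.1 h with h | h
    · refine ⟨_, Or.inr (Or.inl rfl), hcop 4 _ (by norm_num) (by norm_num) h
        ⟨3 * a ^ 2 + 3 * a + 1, ?_⟩⟩
      rw [ha]; ring
    rcases hr.dvd_mul.1 h with h | h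
    · exact ⟨_, Or.inr (Or.inr (Or.inl rfl)), h⟩
    · exact ⟨_, Or.inr (Or.inr (Or.inr rfl)), h⟩

end Par

end Cfsg.Agent.H38.Ree
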