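import Mathlib

/-!
Counting the union of the conjugates of a set with prescribed intersection pattern.
-/
set_option autoImplicit false

namespace Cfsg.Agent.H38.Ree

variable {G : Type*} [Group G]

/-- The union of the conjugates of `X`. -/
def conjUnion (X : Set G) : Set G := {z | ∃ g : G, ∃ x ∈ X, z = g * x * g⁻¹}

theorem mem_conjUnion_conj {X : Set G} {z : G} (hz : z ∈ conjUnion X) (g : G) :
    g * z * g⁻¹ ∈ conjUnion X := by
  obtain ⟨a, x, hx, rfl⟩ := hz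
  exact ⟨g * a, x, hx, by group⟩

theorem self_mem_conjUnion {X : Set G} {x : G} (hx : x ∈ X) : x ∈ conjUnion X :=
  ⟨1, x, hx, by group⟩

theorem card_conjUnion [Finite G] (N : Subgroup G) (X : Set G)
    (hN : ∀ n ∈ N, ∀ x ∈ X, n * x * n⁻¹ ∈ X)
    (hTI : ∀ g : G, ∀ x ∈ X, g * x * g⁻¹ ∈ X → g ∈ N) :
    (conjUnion X).ncard = N.index * X.ncard := by
  rw [← Nat.card_coe_set_eq, ← Nat.card_coe_set_eq, Subgroup.index_eq_card, ← Nat.card_prod]
  refine (Nat.card_eq_of_bijective (fun p : (G ⧸ N) × X =>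
    (⟨p.1.out * (p.2 : G) * p.1.out⁻¹, p.1.out, _, p.2.2, rfl⟩ : conjUnion X)) ⟨?_, ?_⟩).symm
  · rintro ⟨a, x⟩ ⟨b, y⟩ h
    have h' : a.out * (x : G) * a.out⁻¹ = b.out * (y : G) * b.out⁻¹ := congrArg Subtype.val h
    have e : (b.out⁻¹ * a.out) * (x : G) * (b.out⁻¹ * a.out)⁻¹ = y := by
      rw [show (b.out⁻¹ * a.out) * (x : G) * (b.out⁻¹ * a.out)⁻¹
        = b.out⁻¹ * (a.out * (x : G) * a.out⁻¹) * b.out by group, h']
      group
    have hm : b.out⁻¹ * a.out ∈ N := hTI _ _ x.2 (e.symm ▸ y.2)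
    have hab : a = b := by
      rw [← a.out_eq', ← b.out_eq']
      exact (QuotientGroup.eq.2 hm).symm
    subst hab
    exact Prod.ext rfl (Subtype.ext (mul_left_cancel (mul_right_cancel h')))
  · rintro ⟨_, g, x, hx, rfl⟩
    obtain ⟨n, hn⟩ := QuotientGroup.mk_out_eq_mul N g
    refine ⟨((g : G ⧸ N), ⟨(n : G)⁻¹ * x * n, by simpa using hN _ (inv_mem n.2) x hx⟩),
      Subtype.ext ?_⟩
    show (g : G ⧸ N).out * ((n : G)⁻¹ * x * n) * (g : G ⧸ N).out⁻¹ = g * x * g⁻¹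
    rw [hn]
    group

/-- Two such unions are disjoint if no element of one set is conjugate into the other. -/
theorem disjoint_conjUnion {X Y : Set G}
    (h : ∀ g : G, ∀ x ∈ X, g * x * g⁻¹ ∉ Y) : Disjoint (conjUnion X) (conjUnion Y) := by
  rw [Set.disjoint_left]
  rintro _ ⟨a, x, hx, rfl⟩ ⟨b, y, hy, e⟩
  refine h (b⁻¹ * a) x hx ?_
  rw [show b⁻¹ * a * x * (b⁻¹ * a)⁻¹ = b⁻¹ * (a * x * a⁻¹) * b by group, e,
    show b⁻¹ * (b * y * b⁻¹) * b = y by group]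
  exact hy

end Cfsg.Agent.H38.Ree
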