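import Cfsg.Agent.H38.Ree.Borel
import Cfsg.Agent.H38.Ree.Family

/-!
`²G₂(q)`: the elements whose order is divisible by three.
-/
set_option autoImplicit false
set_option maxRecDepth 100000

namespace Cfsg.Agent.H38.Ree

open Cfsg.Lie Cfsg.Agent.H37.RootSys Cfsg.Agent.H37.Twist

theorem orderOf_conj_eq {G : Type*} [Group G] (g x : G) : orderOf (g * x * g⁻¹) = orderOf x :=
  (MulAut.conj g).orderOf_eq x

namespace Par

variable {K : Type*} [Field K] [Fintype K] (P : Par K)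
include P

/-- The elements whose order satisfies `p`. -/
def ordSet (p : ℕ → Prop) : Set ↥(twistedG2 K P.e) := {g | p (orderOf g)}

theorem not_three_dvd : ¬ 3 ∣ Nat.card K - 1 := fun h => P.not_dvd_cofactor (h.mul_right _)

theorem mem_UT_of_cube {g : ↥(twistedG2 K P.e)} (hg : g ∈ P.BT) (h : g ^ 3 = 1) : g ∈ P.UT := by
  have h1 := P.pow_mem_UT hg
  obtain ⟨n, hn, e⟩ := P.card_pow_three
  obtain ⟨k, rfl⟩ : ∃ k, n = k + 1 := ⟨n - 1, by omega⟩
  have hpos : 0 < 3 ^ k := pow_pos (by norm_num) k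
  rw [e, pow_succ, show 3 ^ k * 3 - 1 = 3 * (3 ^ k - 1) + 2 by omega, pow_add, pow_mul, h, one_pow,
    one_mul] at h1
  have h2 := pow_mem h1 2
  rwa [← pow_mul, show 2 * 2 = 3 + 1 from rfl, pow_add, h, one_mul, pow_one] at h2

theorem exists_three_conj {x : ↥(twistedG2 K P.e)} (h : 3 ∣ orderOf x) :
    ∃ g, g⁻¹ * x * g ∈ P.BT := by
  haveI : Finite ↥(twistedG2 K P.e) := Subtype.finite
  set t := x ^ (orderOf x / 3)
  have ht : orderOf t = 3 := orderOf_pow_orderOf_div (orderOf_pos x).ne' h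
  obtain ⟨a, ha⟩ := P.exists_conj_mem_UT (g := t) (k := 1)
    (by rw [pow_one]; conv_lhs => rw [← ht, pow_orderOf_eq_one])
  refine ⟨a, P.mem_BT_of_conj ha (fun e => ?_) ?_⟩
  · rw [show t = a * (a⁻¹ * t * a) * a⁻¹ by group, e, mul_one, mul_inv_cancel,
      orderOf_one] at ht
    omega
  · rwa [show a⁻¹ * x * a * (a⁻¹ * t * a) * (a⁻¹ * x * a)⁻¹ = a⁻¹ * (x * t * x⁻¹) * a by group,
      ((Commute.self_pow x _).eq : x * t = t * x), mul_inv_cancel_right]

theorem three_card (p : ℕ → Prop) (hp : ∀ d, p d → 3 ∣ d) :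
    (P.ordSet p).ncard
      = (Nat.card K ^ 3 + 1) * {x | x ∈ P.BT ∧ p (orderOf x)}.ncard := by
  haveI : Finite ↥(twistedG2 K P.e) := Subtype.finite
  set X : Set ↥(twistedG2 K P.e) := {x | x ∈ P.BT ∧ p (orderOf x)} with hX
  have e : P.ordSet p = conjUnion X := by
    ext x
    constructor
    · intro hx
      obtain ⟨g, hg⟩ := P.exists_three_conj (hp _ hx)
      refine ⟨g, g⁻¹ * x * g, ⟨hg, ?_⟩, by group⟩
      have := orderOf_conj_eq g⁻¹ x
      rw [inv_inv] at this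
      rw [this]; exact hx
    · rintro ⟨g, y, ⟨-, hy⟩, rfl⟩
      show p (orderOf (g * y * g⁻¹))
      rwa [orderOf_conj_eq]
  rw [e, card_conjUnion P.BT X, P.index_BT]
  · rintro n hn x ⟨hx, hpx⟩
    exact ⟨mul_mem (mul_mem hn hx) (inv_mem hn), by rwa [orderOf_conj_eq]⟩
  · rintro g x ⟨hx, hpx⟩ ⟨hgx, -⟩
    set j := orderOf x / 3
    have ho : orderOf (x ^ j) = 3 := orderOf_pow_orderOf_div (orderOf_pos x).ne' (hp _ hpx)
    have h3 : (x ^ j) ^ 3 = 1 := by conv_lhs => rw [← ho, pow_orderOf_eq_one]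
    refine P.mem_BT_of_conj (P.mem_UT_of_cube (pow_mem hx j) h3) (fun e => ?_)
      (P.mem_UT_of_cube ?_ ?_)
    · rw [e, orderOf_one] at ho; omega
    · rw [← conj_pow]; exact pow_mem hgx j
    · rw [conj_pow, h3, mul_one, mul_inv_cancel]

/-- The parametrisation of the unipotent group. -/
def uT (v : K × K × K) : ↥(twistedG2 K P.e) :=
  P.lift (P.U1 v.1 v.2.1 v.2.2) (P.σ_U1 _ _ _)

theorem inc_uT (v : K × K × K) : P.inc (P.uT v) = P.U1 v.1 v.2.1 v.2.2 := rfl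

theorem uT_mem (v : K × K × K) : P.uT v ∈ P.UT := P.mem_UT.2 (P.U1_mem _ _ _)

theorem uT_injective : Function.Injective P.uT := fun v w h => by
  obtain ⟨h1, h2, h3⟩ := P.U1_inj (congrArg P.inc h)
  exact Prod.ext h1 (Prod.ext h2 h3)

theorem exists_uT {u : ↥(twistedG2 K P.e)} (hu : u ∈ P.UT) : ∃ v, P.uT v = u := by
  obtain ⟨a, c, d, e⟩ := (P.fixed_iff (P.mem_UT.1 hu)).1 (P.inc_fixed u)
  exact ⟨(a, c, d), P.inc_inj e.symm⟩

theorem uT_one : P.uT 0 = 1 := P.inc_inj (by rw [inc_uT, map_one]; exact P.U1_zero)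

/-- The square of an element of the inverted coset. -/
theorem inv_coset_sq (v : K × K × K) :
    P.uT v * P.ft (-1) * (P.uT v * P.ft (-1))
      = P.uT (0, v.1 * P.th v.1 - v.2.1, P.th v.1 * (v.2.1 - v.1 * P.th v.1)) := by
  obtain ⟨a, c, d⟩ := v
  refine P.inc_inj ?_
  have h6 : ((P.χ 6 (-1) : Kˣ) : K) = -1 := by
    rw [χ6, P.odd.neg_one_pow]; simp [Odd.neg_one_pow (show Odd 3 by decide)]
  have h8 : ((P.χ 8 (-1) : Kˣ) : K) = 1 := by rw [χ8, P.odd.neg_one_pow]; simp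
  have h9 : ((P.χ 9 (-1) : Kˣ) : K) = -1 := by rw [χ9, P.odd.neg_one_pow]; simp
  have hc := P.hp_conj_U1 (-1) a c d
  rw [h6, h8, h9] at hc
  have hsq : P.hp (-1) * P.hp (-1) = 1 := by rw [← map_mul, neg_one_mul, neg_neg, map_one]
  rw [map_mul, map_mul, inc_uT, inc_uT, inc_ft]
  calc P.U1 a c d * P.hp (-1) * (P.U1 a c d * P.hp (-1))
      = P.U1 a c d * (P.hp (-1) * P.U1 a c d * (P.hp (-1))⁻¹) * (P.hp (-1) * P.hp (-1)) := by
        group
    _ = _ := by
      rw [hc, hsq, mul_one, U1_mul]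
      dsimp only
      congr 1
      · ring
      · linear_combination c * P.three_eq
      · rw [neg_one_mul a, P.th_neg]
        linear_combination (a * P.th a ^ 2) * P.three_eq

theorem uT_cube (v : K × K × K) :
    P.uT v ^ 3 = P.uT (0, 0, -(P.th v.1 ^ 2 * v.1)) := P.inc_inj (by
  rw [map_pow, inc_uT, inc_uT, pow_three, ← mul_assoc]; exact P.U1_cube _ _ _)

theorem uT_cube_eq_one {v : K × K × K} : P.uT v ^ 3 = 1 ↔ v.1 = 0 := by
  rw [uT_cube, ← uT_one, P.uT_injective.eq_iff]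
  simp [Prod.ext_iff, th, P.e_pos.ne']

theorem order_uT_three {v : K × K × K} (h : v.1 = 0) (hv : v ≠ 0) : orderOf (P.uT v) = 3 := by
  haveI : Fact (Nat.Prime 3) := ⟨Nat.prime_three⟩
  exact orderOf_eq_prime_iff.2 ⟨P.uT_cube_eq_one.2 h,
    fun e => hv (P.uT_injective (e.trans P.uT_one.symm))⟩

theorem order_uT_nine {v : K × K × K} (h : v.1 ≠ 0) : orderOf (P.uT v) = 9 := by
  haveI : Fact (Nat.Prime 3) := ⟨Nat.prime_three⟩
  refine orderOf_eq_prime_pow (n := 1) (p := 3) (fun e => h (P.uT_cube_eq_one.1 ?_)) ?_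
  · rwa [pow_one] at e
  · rw [show 3 ^ (1 + 1) = 3 * 3 from rfl, pow_mul, uT_cube]
    exact P.uT_cube_eq_one.2 rfl

theorem order_inv_coset {v : K × K × K} :
    (v.2.1 = v.1 * P.th v.1 → orderOf (P.uT v * P.ft (-1)) = 2) ∧
      (v.2.1 ≠ v.1 * P.th v.1 → orderOf (P.uT v * P.ft (-1)) = 6) := by
  haveI : Fact (Nat.Prime 2) := ⟨Nat.prime_two⟩
  set x := P.uT v * P.ft (-1)
  have hx : ∀ w ∈ P.UT, x ≠ w := fun w hw e => by
    have h := (P.BT_unique (u' := w) (y := -1) (y' := 1) (P.uT_mem v) hw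
      (by rw [map_one, mul_one]; exact e)).2
    exact P.neg_one_ne h
  have hx2 : x ^ 2 = P.uT (0, v.1 * P.th v.1 - v.2.1, P.th v.1 * (v.2.1 - v.1 * P.th v.1)) := by
    rw [pow_two]; exact P.inv_coset_sq v
  constructor
  · intro h
    refine orderOf_eq_prime_iff.2 ⟨?_, hx 1 (one_mem _)⟩
    rw [hx2, h, sub_self, mul_zero, ← uT_one]
    rfl
  · intro h
    have h2 : x ^ 2 ≠ 1 := by
      rw [hx2, ← uT_one, Ne, P.uT_injective.eq_iff]
      intro e
      exact h (sub_eq_zero.1 (congrArg (fun z : K × K × K => z.2.1) e)).symm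
    have h6 : x ^ 6 = 1 := by
      rw [show 6 = 2 * 3 from rfl, pow_mul, hx2]
      exact P.uT_cube_eq_one.2 rfl
    have h3 : x ^ 3 ≠ 1 := fun e => by
      have e' : x = (x ^ 2)⁻¹ := eq_inv_of_mul_eq_one_left (by rwa [← pow_succ'])
      exact hx _ (inv_mem (hx2 ▸ P.uT_mem _)) e'
    have hd := orderOf_dvd_of_pow_eq_one h6
    have hn2 : ¬ orderOf x ∣ 2 := fun d => h2 (orderOf_dvd_iff_pow_eq_one.1 d)
    have hn3 : ¬ orderOf x ∣ 3 := fun d => h3 (orderOf_dvd_iff_pow_eq_one.1 d)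
    have := Nat.le_of_dvd (by norm_num) hd
    interval_cases orderOf x <;> simp_all (config := { decide := true })

/-- The shapes of the three-singular elements of the Borel subgroup. -/
theorem BT_shapes {x : ↥(twistedG2 K P.e)} (hx : x ∈ P.BT) (h : 3 ∣ orderOf x) :
    ∃ v : K × K × K, (x = P.uT v ∧ ((v.1 = 0 ∧ v ≠ 0 ∧ orderOf x = 3) ∨
        (v.1 ≠ 0 ∧ orderOf x = 9))) ∨
      (x = P.uT v * P.ft (-1) ∧ v.2.1 ≠ v.1 * P.th v.1 ∧ orderOf x = 6) := by
  obtain ⟨u, hu, y, rfl⟩ := P.BT_form.1 hx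
  obtain ⟨v, rfl⟩ := P.exists_uT hu
  refine ⟨v, ?_⟩
  by_cases hy : y ^ 2 = 1
  · rcases (sq_eq_one_iff.1 (show (y : K) ^ 2 = 1 by rw [← Units.val_pow_eq_pow_val, hy]; rfl))
      with e | e
    · obtain rfl : y = 1 := Units.ext e
      rw [map_one, mul_one] at h ⊢
      refine Or.inl ⟨rfl, ?_⟩
      by_cases h0 : v.1 = 0
      · refine Or.inl ⟨h0, fun e => ?_, ?_⟩
        · rw [e, P.uT_one, orderOf_one] at h; omega
        · refine P.order_uT_three h0 fun e => ?_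
          rw [e, P.uT_one, orderOf_one] at h; omega
      · exact Or.inr ⟨h0, P.order_uT_nine h0⟩
    · obtain rfl : y = -1 := Units.ext (by rw [e, Units.val_neg, Units.val_one])
      refine Or.inr ⟨rfl, ?_⟩
      have hne : v.2.1 ≠ v.1 * P.th v.1 := fun hc => by
        rw [P.order_inv_coset.1 hc] at h
        omega
      exact ⟨hne, P.order_inv_coset.2 hne⟩
  · exfalso
    obtain ⟨w, -, hw⟩ := P.conj_of_regular hy hu
    rw [← hw, orderOf_conj_eq, orderOf_injective P.ft P.ft_injective] at h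
    refine P.not_three_dvd (h.trans ?_)
    rw [← P.card_units]
    exact orderOf_dvd_natCard y

theorem three_orders {g : ↥(twistedG2 K P.e)} (h : 3 ∣ orderOf g) :
    orderOf g = 3 ∨ orderOf g = 6 ∨ orderOf g = 9 := by
  obtain ⟨a, ha⟩ := P.exists_three_conj h
  have e := orderOf_conj_eq a⁻¹ g
  rw [inv_inv] at e
  obtain ⟨v, ⟨-, ⟨-, -, h'⟩ | ⟨-, h'⟩⟩ | ⟨-, -, h'⟩⟩ := P.BT_shapes ha (e.symm ▸ h) <;> omega

theorem count_three :
    (P.ordSet (· = 3)).ncard = (Nat.card K ^ 2 - 1) * (Nat.card K ^ 3 + 1) := by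
  classical
  rw [P.three_card _ (fun d hd => by rw [hd]), mul_comm]
  congr 1
  have : {x | x ∈ P.BT ∧ orderOf x = 3}
      = (fun w : K × K => P.uT (0, w)) '' ({0}ᶜ : Set (K × K)) := by
    ext x
    constructor
    · rintro ⟨hx, ho⟩
      obtain ⟨v, ⟨rfl, ⟨h0, hv, -⟩ | ⟨-, h'⟩⟩ | ⟨-, -, h'⟩⟩ := P.BT_shapes hx (ho ▸ dvd_rfl)
      · refine ⟨v.2, fun e => hv (Prod.ext h0 e), ?_⟩
        show P.uT (0, v.2) = P.uT v
        rw [← h0]
      all_goals omega
    · rintro ⟨w, hw, rfl⟩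
      exact ⟨P.UT_le_BT (P.uT_mem _),
        P.order_uT_three rfl fun e => hw (congrArg (fun z : K × K × K => z.2) e)⟩
  rw [this, Set.ncard_image_of_injective _ (fun w w' e => (Prod.ext_iff.1 (P.uT_injective e)).2),
    Set.ncard_compl, Set.ncard_singleton, Nat.card_prod, pow_two]

theorem count_nine :
    (P.ordSet (· = 9)).ncard = Nat.card K ^ 2 * (Nat.card K - 1) * (Nat.card K ^ 3 + 1) := by
  classical
  rw [P.three_card _ (fun d hd => by rw [hd]; norm_num), mul_comm]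
  congr 1
  have : {x | x ∈ P.BT ∧ orderOf x = 9}
      = P.uT '' (({0}ᶜ : Set K) ×ˢ (Set.univ : Set (K × K))) := by
    ext x
    constructor
    · rintro ⟨hx, ho⟩
      obtain ⟨v, ⟨rfl, ⟨-, -, h'⟩ | ⟨h0, -⟩⟩ | ⟨-, -, h'⟩⟩ := P.BT_shapes hx (by rw [ho]; norm_num)
      · omega
      · exact ⟨v, ⟨h0, trivial⟩, rfl⟩
      · omega
    · rintro ⟨v, ⟨hv, -⟩, rfl⟩
      exact ⟨P.UT_le_BT (P.uT_mem _), P.order_uT_nine hv⟩
  rw [this, Set.ncard_image_of_injective _ P.uT_injective, Set.ncard_prod, Set.ncard_compl,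
    Set.ncard_singleton, Set.ncard_univ, Nat.card_prod]
  ring

theorem count_six :
    (P.ordSet (· = 6)).ncard = Nat.card K ^ 2 * (Nat.card K - 1) * (Nat.card K ^ 3 + 1) := by
  classical
  rw [P.three_card _ (fun d hd => by rw [hd]; norm_num), mul_comm]
  congr 1
  let f : K × K × K → ↥(twistedG2 K P.e) := fun w =>
    P.uT (w.2.1, w.1 + w.2.1 * P.th w.2.1, w.2.2) * P.ft (-1)
  have hf : Function.Injective f := fun w w' e => by
    have h := P.uT_injective (mul_right_cancel e)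
    obtain ⟨h1, h2, h3⟩ := Prod.ext_iff.1 h |>.imp id Prod.ext_iff.1
    have h1 : w.2.1 = w'.2.1 := h1
    have h2 : w.1 + w.2.1 * P.th w.2.1 = w'.1 + w'.2.1 * P.th w'.2.1 := h2
    rw [h1] at h2
    exact Prod.ext (add_right_cancel h2) (Prod.ext h1 h3)
  have : {x | x ∈ P.BT ∧ orderOf x = 6}
      = f '' (({0}ᶜ : Set K) ×ˢ (Set.univ : Set (K × K))) := by
    ext x
    constructor
    · rintro ⟨hx, ho⟩
      obtain ⟨v, ⟨rfl, ⟨-, -, h'⟩ | ⟨-, h'⟩⟩ | ⟨rfl, h0, -⟩⟩ :=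
        P.BT_shapes hx (by rw [ho]; norm_num)
      · omega
      · omega
      · refine ⟨(v.2.1 - v.1 * P.th v.1, v.1, v.2.2), ⟨sub_ne_zero.2 h0, trivial⟩, ?_⟩
        simp [f]
    · rintro ⟨w, ⟨hw, -⟩, rfl⟩
      refine ⟨mul_mem (P.UT_le_BT (P.uT_mem _)) (P.ft_mem_BT _), P.order_inv_coset.2 ?_⟩
      exact fun e => hw (add_eq_right.1 e)
  rw [this, Set.ncard_image_of_injective _ hf, Set.ncard_prod, Set.ncard_compl,
    Set.ncard_singleton, Set.ncard_univ, Nat.card_prod]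
  ring

theorem count_three_dvd : (P.ordSet (3 ∣ ·)).ncard
    = (P.ordSet (· = 3)).ncard + ((P.ordSet (· = 6)).ncard + (P.ordSet (· = 9)).ncard) := by
  haveI : Finite ↥(twistedG2 K P.e) := Subtype.finite
  rw [← Set.ncard_union_eq (s := P.ordSet (· = 6)), ← Set.ncard_union_eq]
  · congr 1
    ext g
    show 3 ∣ orderOf g ↔ orderOf g = 3 ∨ orderOf g = 6 ∨ orderOf g = 9
    refine ⟨fun h => P.three_orders h, ?_⟩
    rintro (h | h | h) <;> rw [h] <;> norm_num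
  · refine Set.disjoint_left.2 fun g (h : orderOf g = 3) h' => ?_
    rcases h' with (h' : orderOf g = 6) | (h' : orderOf g = 9) <;> omega
  · exact Set.disjoint_left.2 fun g (h : orderOf g = 6) (h' : orderOf g = 9) => by omega

end Par

end Cfsg.Agent.H38.Ree
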