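import Cfsg.Agent.H38.Ree.Third
import Cfsg.Agent.H38.Ree.ThreePart
import Cfsg.Agent.H38.Ree.Solvable
import Cfsg.Agent.Linear.Order

/-!
`²G₂(q)`: the classification of elements by order, and the counts.
-/
set_option autoImplicit false
set_option maxRecDepth 100000

namespace Cfsg.Agent.H38.Ree

open Cfsg.Lie Cfsg.Agent.H37.RootSys Cfsg.Agent.H37.Twist

theorem pow_mem_conj {G : Type*} [Group G] {C : Subgroup G} {g x : G} {r : ℕ}
    (hg : g * x ^ r * g⁻¹ ∈ C) (hC : ∀ w, w * (g * x ^ r * g⁻¹) = g * x ^ r * g⁻¹ * w → w ∈ C) :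
    g * x * g⁻¹ ∈ C := hC _ (by
  rw [show g * x * g⁻¹ * (g * x ^ r * g⁻¹) = g * (x * x ^ r) * g⁻¹ by group,
    show g * x ^ r * g⁻¹ * (g * x * g⁻¹) = g * (x ^ r * x) * g⁻¹ by group,
    (Commute.self_pow x r).eq])

namespace Par

variable {K : Type*} [Field K] [Fintype K] (P : Par K)
include P

theorem q_sub_one : ∃ k, Odd k ∧ Nat.card K - 1 = 2 * k :=
  let ⟨k, h1, h2, _⟩ := P.units_pow_half 1
  ⟨k, h1, h2⟩

/-- An element of order above two dividing `q - 1` lies in a split torus. -/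
theorem exists_conj_ft {g : ↥(twistedG2 K P.e)} (h2 : 2 < orderOf g)
    (hd : orderOf g ∣ Nat.card K - 1) : ∃ (a : ↥(twistedG2 K P.e)) (y : Kˣ),
      g = a * P.ft y * a⁻¹ := by
  haveI : Finite ↥(twistedG2 K P.e) := Subtype.finite
  obtain ⟨k, hk, e⟩ := P.q_sub_one
  obtain ⟨r, hr, hrd, hro⟩ : ∃ r, r.Prime ∧ r ∣ orderOf g ∧ r ≠ 2 := by
    by_contra hcon
    push Not at hcon
    obtain ⟨n, hn⟩ : ∃ n, orderOf g = 2 ^ n :=
      ⟨_, Nat.eq_prime_pow_of_unique_prime_dvd (orderOf_pos g).ne' fun {d} hd hdd => hcon d hd hdd⟩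
    rcases n with _ | _ | n
    · simp [hn] at h2
    · simp [hn] at h2
    · rw [hn, e, show n + 1 + 1 = (n + 1) + 1 from rfl, pow_succ'] at hd
      have := Nat.dvd_of_mul_dvd_mul_left two_pos hd
      rw [pow_succ'] at this
      exact absurd (dvd_trans (dvd_mul_right 2 _) this) (Nat.two_dvd_ne_zero.2 (Nat.odd_iff.1 hk))
  haveI : Fact r.Prime := ⟨hr⟩
  have hr3 : r ≠ 3 := by rintro rfl; exact P.not_three_dvd (hrd.trans hd)
  have hA : r ∣ Nat.card ↥P.A1 := by
    rw [P.card_A1, e, Nat.mul_div_cancel_left _ two_pos]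
    exact (hr.dvd_mul.1 (e ▸ hrd.trans hd)).resolve_left fun h' =>
      hro ((Nat.prime_dvd_prime_iff_eq hr Nat.prime_two).1 h')
  obtain ⟨⟨b, hbA⟩, hb⟩ := exists_prime_orderOf_dvd_card' (G := ↥P.A1) r hA
  rw [← Subgroup.orderOf_coe] at hb
  obtain ⟨j, hj⟩ := exists_pow_order hr hrd
  obtain ⟨a, ha⟩ := conj_into_zpowers
    (P.sylow_cyclic (by have := hr.two_le; omega)) hj hb
  have hm : a * g ^ j * a⁻¹ ∈ P.A1 := Subgroup.zpowers_le.2 hbA ha
  obtain ⟨z, hz⟩ := hm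
  rw [MonoidHom.comp_apply, powMonoidHom_apply] at hz
  have hzz : (z ^ 2) ^ 2 ≠ 1 := fun h => by
    have h1 : g ^ j = 1 := by
      have := P.A1_sq (P.mem_A1.2 ⟨z, rfl⟩) h
      rw [this, map_one, eq_comm, mul_inv_eq_one, mul_eq_left] at hz
      exact hz
    rw [h1, orderOf_one] at hj
    exact hr.one_lt.ne hj
  obtain ⟨y, hy⟩ := pow_mem_conj (C := P.ft.range) (g := a) (x := g) (r := j)
    ⟨_, hz⟩ (fun w hw => P.cent_torus hzz (by rw [hz]; exact hw))
  exact ⟨a⁻¹, y, by rw [hy]; group⟩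

theorem ft_X_stable (n : ↥(twistedG2 K P.e)) (hq : 4 < Nat.card K)
    (hn : n ∈ Subgroup.normalizer (P.A1 : Set ↥(twistedG2 K P.e))) (y : Kˣ) :
    ∃ y', n * P.ft y * n⁻¹ = P.ft y' := by
  rcases (P.normalizer_A1 le_rfl (P.A1_ne_bot hq) n).1 hn with ⟨z, rfl⟩ | ⟨z, rfl⟩
  · exact ⟨z * y * z⁻¹, by rw [map_mul, map_mul, map_inv]⟩
  · refine ⟨z * y⁻¹ * z⁻¹, ?_⟩
    rw [map_mul P.ft, map_mul P.ft, ← P.wT_inv, map_inv]
    group

theorem split_card (hq : 4 < Nat.card K) (p : ℕ → Prop)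
    (hp : ∀ d, p d → 2 < d ∧ d ∣ Nat.card K - 1) :
    2 * (P.ordSet p).ncard
      = Nat.card K ^ 3 * (Nat.card K ^ 3 + 1) * {y : Kˣ | p (orderOf y)}.ncard := by
  haveI : Finite ↥(twistedG2 K P.e) := Subtype.finite
  set X := P.ft '' {y : Kˣ | p (orderOf y)} with hX
  set N := Subgroup.normalizer (P.A1 : Set ↥(twistedG2 K P.e))
  have ho : ∀ y, orderOf (P.ft y) = orderOf y := orderOf_injective P.ft P.ft_injective
  have hreg : ∀ y : Kˣ, p (orderOf y) → y ^ 2 ≠ 1 := fun y hy h => by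
    have := Nat.le_of_dvd two_pos (orderOf_dvd_of_pow_eq_one h)
    have := (hp _ hy).1
    omega
  have e : P.ordSet p = conjUnion X := by
    ext x
    constructor
    · intro hx
      obtain ⟨a, y, rfl⟩ := P.exists_conj_ft (hp _ hx).1 (hp _ hx).2
      refine ⟨a, P.ft y, ⟨y, ?_, rfl⟩, rfl⟩
      change p (orderOf (a * P.ft y * a⁻¹)) at hx
      rwa [orderOf_conj_eq, ho] at hx
    · rintro ⟨g, _, ⟨y, hy, rfl⟩, rfl⟩
      show p (orderOf (g * P.ft y * g⁻¹))
      rwa [orderOf_conj_eq, ho]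
  have hc := N.card_mul_index
  rw [P.card_normalizer_A1 hq, P.card_T] at hc
  have hi : 2 * N.index = Nat.card K ^ 3 * (Nat.card K ^ 3 + 1) := by
    have : 1 < Nat.card K := Finite.one_lt_card
    refine Nat.eq_of_mul_eq_mul_left (show 0 < Nat.card K - 1 by omega) ?_
    calc (Nat.card K - 1) * (2 * N.index) = 2 * (Nat.card K - 1) * N.index := by ring
      _ = _ := by rw [hc]; ring
  rw [e, card_conjUnion N X, hX, Set.ncard_image_of_injective _ P.ft_injective, ← mul_assoc, hi]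
  · rintro n hn _ ⟨y, hy, rfl⟩
    obtain ⟨y', e'⟩ := P.ft_X_stable n hq hn y
    refine ⟨y', ?_, e'.symm⟩
    show p (orderOf y')
    rwa [← ho, ← e', orderOf_conj_eq, ho]
  · rintro g _ ⟨y, hy, rfl⟩ ⟨y', -, e'⟩
    refine (P.normalizer_A1 le_rfl (P.A1_ne_bot hq) g).2 ?_
    rcases P.torus_conj (hreg y hy) e'.symm with h | h
    · exact Or.inl h.1
    · exact Or.inr h.1

theorem C2_exp {w : ↥(twistedG2 K P.e)} (hw : w ∈ P.C2) : w ^ (2 * P.cN) = 1 := by
  obtain ⟨h4, -, -, -⟩ := P.cN_spec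
  obtain ⟨⟨z, g⟩, rfl⟩ := hw
  rw [← map_pow, ee_apply, ← map_one P.fΘ]
  congr 1
  have hgq : g ^ (4 * P.cN) = 1 := by
    rw [← h4, ← Klein.card_C1 (K := K) P.not_sq P.two_ne]; exact pow_card_eq_one'
  set k := g ^ (2 * P.cN)
  have hk : k * k = 1 := by rw [← pow_add, ← hgq]; congr 1; ring
  have hk' : (k : Matrix.SpecialLinearGroup (Fin 2) K) * k = 1 := congrArg Subtype.val hk
  have hnw : (Klein.wM : Matrix.SpecialLinearGroup (Fin 2) K) * Klein.wM = -1 := by
    refine (Klein.mk_eq_one.1 (by rw [map_mul]; exact Klein.wM_sq)).resolve_left fun h => ?_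
    have := congrFun (congrFun (congrArg Subtype.val h) 0) 0
    simp [Matrix.SpecialLinearGroup.coe_mul, Klein.coe_wM] at this
    exact P.one_ne_neg this
  refine Prod.ext ?_ ?_
  · show z ^ (2 * P.cN) = 1
    rw [pow_mul, pow_two, two_sq, one_pow]
  · show Klein.mk (k : Matrix.SpecialLinearGroup (Fin 2) K) = 1
    rw [Klein.mk_eq_one]
    rcases Klein.C1_sq P.two_ne k.2 (by rw [← map_mul, hk', map_one]) with h | h | h | h
    · exact Or.inl h
    · exact Or.inr h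
    · rw [h, hnw] at hk'
      exact absurd hk' (Klein.neg_one_ne P.two_ne)
    · rw [h, neg_mul_neg, hnw] at hk'
      exact absurd hk' (Klein.neg_one_ne P.two_ne)

theorem C2_order {w : ↥(twistedG2 K P.e)} (hw : w ∈ P.C2) : orderOf w ∣ 2 * P.cN :=
  orderOf_dvd_of_pow_eq_one (P.C2_exp hw)

theorem C2_regular {w : ↥(twistedG2 K P.e)} (hw : w ∈ P.C2) (h : 2 < orderOf w) :
    w ^ 2 ∈ P.A2 ∧ w ^ 2 ≠ 1 := by
  refine ⟨⟨pow_mem hw 2, by rw [← pow_mul]; exact P.C2_exp hw⟩, fun e => ?_⟩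
  have := Nat.le_of_dvd two_pos (orderOf_dvd_of_pow_eq_one e)
  omega

/-- An element of order above two dividing `(q + 1) / 2` lies in a torus of the second kind. -/
theorem exists_conj_C2 (hq : 4 < Nat.card K) {g : ↥(twistedG2 K P.e)} (h2 : 2 < orderOf g)
    (hd : orderOf g ∣ 2 * P.cN) : ∃ a, a * g * a⁻¹ ∈ P.C2 := by
  haveI : Finite ↥(twistedG2 K P.e) := Subtype.finite
  obtain ⟨h4, hodd, h3, -⟩ := P.cN_spec
  obtain ⟨r, hr, hrd, hrc⟩ : ∃ r, r.Prime ∧ r ∣ orderOf g ∧ r ∣ P.cN := by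
    by_contra hcon
    push Not at hcon
    have hcop : Nat.Coprime (orderOf g) P.cN := Nat.coprime_of_dvd fun k hk h1 h2 => hcon k hk h1 h2
    have := Nat.le_of_dvd two_pos (hcop.dvd_of_dvd_mul_right hd)
    omega
  haveI : Fact r.Prime := ⟨hr⟩
  have hr5 : 3 < r := by
    have := hr.two_le
    have h3' : r ≠ 3 := by rintro rfl; exact h3 hrc
    have h2' : r ≠ 2 := by
      rintro rfl
      exact absurd hrc (Nat.two_dvd_ne_zero.2 (Nat.odd_iff.1 hodd))
    omega
  obtain ⟨⟨b, hbA⟩, hb⟩ := exists_prime_orderOf_dvd_card' (G := ↥P.A2) r (P.A2_aux.2.symm ▸ hrc)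
  rw [← Subgroup.orderOf_coe] at hb
  obtain ⟨j, hj⟩ := exists_pow_order hr hrd
  obtain ⟨a, ha⟩ := conj_into_zpowers (P.sylow_cyclic hr5) hj hb
  have hm : a * g ^ j * a⁻¹ ∈ P.A2 := Subgroup.zpowers_le.2 hbA ha
  refine ⟨a, pow_mem_conj (r := j) (P.A2_le hm) fun w hw => ?_⟩
  rw [← P.centralizer_A2 hq hm (fun h => ?_)]
  · exact Subgroup.mem_centralizer_singleton_iff.2 hw
  · rw [← orderOf_eq_one_iff, orderOf_conj_eq, hj] at h
    exact hr.one_lt.ne' h

theorem conj_C2_of_regular (hq : 4 < Nat.card K) {g x : ↥(twistedG2 K P.e)} (hx : x ∈ P.C2)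
    (h : 2 < orderOf x) (hgx : g * x * g⁻¹ ∈ P.C2) :
    g ∈ Subgroup.normalizer (P.A2 : Set ↥(twistedG2 K P.e)) := by
  obtain ⟨a1, a2⟩ := P.C2_regular hx h
  obtain ⟨b1, b2⟩ := P.C2_regular hgx (by rwa [orderOf_conj_eq])
  refine P.mem_normalizer_of_VT fun u hu => ⟨?_, ?_⟩
  · rw [← P.centralizer_A2 hq b1 b2, Subgroup.mem_centralizer_singleton_iff, conj_pow,
      show g * u * g⁻¹ * (g * x ^ 2 * g⁻¹) = g * (u * x ^ 2) * g⁻¹ by group,
      show g * x ^ 2 * g⁻¹ * (g * u * g⁻¹) = g * (x ^ 2 * u) * g⁻¹ by group,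
      P.C2_comm hu.1 (pow_mem hx 2)]
  · rw [show g * u * g⁻¹ * (g * u * g⁻¹) = g * (u * u) * g⁻¹ by group, hu.2, mul_one,
      mul_inv_cancel]

theorem nonsplit_card (hq : 4 < Nat.card K) (p : ℕ → Prop)
    (hp : ∀ d, p d → 2 < d ∧ d ∣ 2 * P.cN) :
    6 * (P.ordSet p).ncard
      = Nat.card K ^ 3 * (Nat.card K - 1) * P.NN * {w | w ∈ P.C2 ∧ p (orderOf w)}.ncard := by
  haveI : Finite ↥(twistedG2 K P.e) := Subtype.finite
  set X : Set ↥(twistedG2 K P.e) := {w | w ∈ P.C2 ∧ p (orderOf w)} with hX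
  set N := Subgroup.normalizer (P.A2 : Set ↥(twistedG2 K P.e))
  have e : P.ordSet p = conjUnion X := by
    ext x
    constructor
    · intro hx
      obtain ⟨a, ha⟩ := P.exists_conj_C2 hq (hp _ hx).1 (hp _ hx).2
      exact ⟨a⁻¹, _, ⟨ha, by rw [orderOf_conj_eq]; exact hx⟩, by group⟩
    · rintro ⟨g, w, ⟨-, hw⟩, rfl⟩
      show p (orderOf (g * w * g⁻¹))
      rwa [orderOf_conj_eq]
  have hi : 6 * N.index = Nat.card K ^ 3 * (Nat.card K - 1) * P.NN := by
    have hc := N.card_mul_index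
    rw [P.card_normalizer_A2 hq, P.card_T'] at hc
    refine Nat.eq_of_mul_eq_mul_left (show 0 < Nat.card K + 1 by omega) ?_
    calc (Nat.card K + 1) * (6 * N.index) = 6 * (Nat.card K + 1) * N.index := by ring
      _ = _ := by rw [hc]; ring
  rw [e, card_conjUnion N X, ← mul_assoc, hi]
  · rintro n hn w ⟨hw, hwp⟩
    exact ⟨P.normalizer_conj_C2 hq le_rfl (P.A2_ne_bot hq) hn hw, by rwa [orderOf_conj_eq]⟩
  · rintro g w ⟨hw, hwp⟩ ⟨hgw, -⟩
    exact P.conj_C2_of_regular hq hw (hp _ hwp).1 hgw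

theorem card_cent_aT : Nat.card ↥(Subgroup.centralizer {P.aT})
    = Nat.card K * ((Nat.card K - 1) * (Nat.card K + 1)) := by
  classical
  haveI : Finite ↥(twistedG2 K P.e) := Subtype.finite
  have e : Subgroup.centralizer {P.aT} = P.fΘ.range := by
    ext w
    rw [Subgroup.mem_centralizer_singleton_iff, P.mem_cent_aT, MonoidHom.mem_range]
  rw [e, ← Nat.card_congr (MonoidHom.ofInjective P.fΘ_injective).toEquiv, Nat.card_prod]
  have h1 := Linear.card_center_mul_card_PSL (ι := Fin 2) (F := K)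
  have hcen : Nat.card (Subgroup.center (Matrix.SpecialLinearGroup (Fin 2) K)) = 2 := by
    obtain ⟨k, -, hk⟩ := P.q_sub_one
    rw [Linear.card_center_SL, Fintype.card_fin, ← Nat.card_eq_fintype_card, hk]
    exact Nat.gcd_eq_left (dvd_mul_right 2 k)
  rw [hcen, Linear.card_SL_two, ← Nat.card_eq_fintype_card,
    show Nat.card K ^ 2 - 1 = (Nat.card K + 1) * (Nat.card K - 1) by
      simpa using Nat.sq_sub_sq (Nat.card K) 1] at h1
  rw [show Nat.card (Multiplicative (ZMod 2)) = 2 by simp, h1]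
  ring

theorem count_invol (hq : 4 < Nat.card K) :
    (P.ordSet (· = 2)).ncard = Nat.card K ^ 2 * P.NN := by
  haveI : Fact (Nat.Prime 2) := ⟨Nat.prime_two⟩
  haveI : Finite ↥(twistedG2 K P.e) := Subtype.finite
  set N := Subgroup.centralizer {P.aT}
  have hoa : orderOf P.aT = 2 :=
    orderOf_eq_prime (by rw [pow_two]; exact P.aT_sq) P.aT_ne
  have e : P.ordSet (· = 2) = conjUnion {P.aT} := by
    ext x
    constructor
    · intro (hx : orderOf x = 2)
      obtain ⟨g, hg⟩ := P.invol_conj hq (u := x) (by rw [← pow_two, ← hx, pow_orderOf_eq_one])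
        (fun h => by rw [h, orderOf_one] at hx; omega)
      exact ⟨g, P.aT, rfl, hg.symm⟩
    · rintro ⟨g, _, rfl, rfl⟩
      show orderOf _ = 2
      rw [orderOf_conj_eq, hoa]
  rw [e, card_conjUnion N, Set.ncard_singleton, mul_one]
  · have hc := N.card_mul_index
    rw [P.card_cent_aT, P.card_T'] at hc
    have : 1 < Nat.card K := Finite.one_lt_card
    refine Nat.eq_of_mul_eq_mul_left ?_ (hc.trans ?_)
    · exact Nat.mul_pos (by omega) (Nat.mul_pos (by omega) (by omega))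
    · ring
  · rintro n hn x (rfl : x = P.aT)
    rw [Set.mem_singleton_iff, Subgroup.mem_centralizer_singleton_iff.1 hn, mul_inv_cancel_right]
  · rintro g x (rfl : x = P.aT) (h : _ = P.aT)
    exact Subgroup.mem_centralizer_singleton_iff.2 (mul_inv_eq_iff_eq_mul.1 h)

/-- The five kinds of element orders. -/
theorem classify (hq : 4 < Nat.card K) {g : ↥(twistedG2 K P.e)} (hg : g ≠ 1) :
    3 ∣ orderOf g ∨ (2 < orderOf g ∧ orderOf g ∣ Nat.card K - 1) ∨
      (2 < orderOf g ∧ orderOf g ∣ 2 * P.cN) ∨ orderOf g = 2 ∨ g ∈ P.E3 := by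
  haveI : Finite ↥(twistedG2 K P.e) := Subtype.finite
  obtain ⟨h4, hodd, h3c, -⟩ := P.cN_spec
  by_cases h3 : 3 ∣ orderOf g
  · exact Or.inl h3
  refine Or.inr ?_
  by_cases h2 : ∃ r, r.Prime ∧ r ∣ orderOf g ∧ r ≠ 2
  · obtain ⟨r, hr, hrd, hr2⟩ := h2
    haveI : Fact r.Prime := ⟨hr⟩
    have hr3 : r ≠ 3 := fun e => h3 (e ▸ hrd)
    have hT := hrd.trans (orderOf_dvd_natCard g)
    rw [P.card_T'] at hT
    obtain ⟨j, hj⟩ := exists_pow_order hr hrd
    have hr5 : 3 < r := by have := hr.two_le; omega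
    rcases hr.dvd_mul.1 hT with h | h
    · rcases hr.dvd_mul.1 h with h | h
      · obtain ⟨n, -, e⟩ := P.card_pow_three
        rw [e, ← pow_mul] at h
        exact absurd ((Nat.prime_dvd_prime_iff_eq hr Nat.prime_three).1 (hr.dvd_of_dvd_pow h)) hr3
      rcases hr.dvd_mul.1 h with h | h
      · obtain ⟨a, y, ey⟩ := P.exists_conj_ft (g := g ^ j) (by omega) (hj ▸ h)
        have hy : y ^ 2 ≠ 1 := fun e => by
          have := Nat.le_of_dvd two_pos (orderOf_dvd_of_pow_eq_one e)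
          rw [ey, orderOf_conj_eq, orderOf_injective P.ft P.ft_injective] at hj
          omega
        obtain ⟨z, hz⟩ := pow_mem_conj (C := P.ft.range) (g := a⁻¹) (x := g) (r := j)
          ⟨y, by rw [ey]; group⟩ (fun w hw => P.cent_torus hy (by
            rwa [show a⁻¹ * g ^ j * a⁻¹⁻¹ = P.ft y by rw [ey]; group] at hw))
        have hgz : orderOf g ∣ Nat.card K - 1 := by
          rw [← orderOf_conj_eq a⁻¹ g, ← hz, orderOf_injective P.ft P.ft_injective, ← P.card_units]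
          exact orderOf_dvd_natCard z
        refine Or.inl ⟨?_, hgz⟩
        have := Nat.le_of_dvd (orderOf_pos g) hrd
        omega
      · rw [h4] at h
        have hc : r ∣ P.cN := (hr.dvd_mul.1 h).resolve_left fun h' =>
          hr2 ((Nat.prime_dvd_prime_iff_eq hr Nat.prime_two).1
            (hr.dvd_of_dvd_pow (show r ∣ 2 ^ 2 from h')))
        obtain ⟨a, ha⟩ := P.exists_conj_C2 hq (g := g ^ j) (by omega) (hj ▸ hc.mul_left 2)
        obtain ⟨b1, b2⟩ := P.C2_regular ha (by rw [orderOf_conj_eq]; omega)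
        have hga : a * g * a⁻¹ ∈ P.C2 := by
          rw [← P.centralizer_A2 hq b1 b2, Subgroup.mem_centralizer_singleton_iff, ← conj_pow]
          exact ((Commute.refl _).pow_right _).pow_right _
        have := P.C2_order hga
        rw [orderOf_conj_eq] at this
        refine Or.inr (Or.inl ⟨?_, this⟩)
        have := Nat.le_of_dvd (orderOf_pos g) hrd
        omega
    · refine Or.inr (Or.inr (Or.inr ⟨hg, P.E3_mem hq (x := g ^ j) ⟨?_, ?_⟩ ?_⟩))
      · intro e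
        rw [e, orderOf_one] at hj
        omega
      · exact orderOf_dvd_iff_pow_eq_one.1 (hj ▸ h)
      · exact Subgroup.mem_centralizer_singleton_iff.2 (Commute.self_pow g j).eq
  · push Not at h2
    obtain ⟨n, hn⟩ : ∃ n, orderOf g = 2 ^ n :=
      ⟨_, Nat.eq_prime_pow_of_unique_prime_dvd (orderOf_pos g).ne' fun {d} hd hdd => h2 d hd hdd⟩
    refine Or.inr (Or.inr (Or.inl ?_))
    haveI : Fact (Nat.Prime 2) := ⟨Nat.prime_two⟩
    exact orderOf_eq_prime (by rw [pow_two]; exact P.sq_eq_one hn) hg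

theorem E3_eq_ordSet : P.E3 = P.ordSet fun d => d ≠ 1 ∧ d ∣ P.NN := by
  ext g
  show g ≠ 1 ∧ g ^ P.NN = 1 ↔ orderOf g ≠ 1 ∧ orderOf g ∣ P.NN
  rw [Ne, Ne, orderOf_eq_one_iff, orderOf_dvd_iff_pow_eq_one]

theorem card_VT : {w | w ∈ P.C2 ∧ ¬ 2 < orderOf w}.ncard = 4 := by
  classical
  haveI : Finite ↥(twistedG2 K P.e) := Subtype.finite
  have e : {w | w ∈ P.C2 ∧ ¬ 2 < orderOf w}
      = ({1, P.aT, P.vT, P.aT * P.vT} : Set ↥(twistedG2 K P.e)) := by
    ext w
    constructor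
    · rintro ⟨hw, ho⟩
      refine P.C2_sq hw ?_
      have := orderOf_pos w
      rw [← pow_two]
      exact orderOf_dvd_iff_pow_eq_one.1 (by interval_cases orderOf w <;> norm_num)
    · intro h
      have hw : w ∈ P.VT := by
        rcases h with rfl | rfl | rfl | rfl
        · exact one_mem _
        · exact P.aT_VT
        · exact P.vT_VT
        · exact mul_mem P.aT_VT P.vT_VT
      exact ⟨hw.1, not_lt.2 (Nat.le_of_dvd two_pos
        (orderOf_dvd_of_pow_eq_one (by rw [pow_two]; exact hw.2)))⟩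
  obtain ⟨hv1, hva, hav⟩ := P.vT_ne
  have h13 : P.aT ≠ P.aT * P.vT := fun h => hv1 (mul_eq_left.1 h.symm)
  have h23 : P.vT ≠ P.aT * P.vT := fun h => P.aT_ne (mul_eq_right.1 h.symm)
  rw [e, Set.ncard_insert_of_notMem, Set.ncard_insert_of_notMem, Set.ncard_pair h23]
  · simp [hva.symm, h13]
  · simp [Ne.symm P.aT_ne, Ne.symm hv1, Ne.symm hav]

theorem count_split_all (hq : 4 < Nat.card K) :
    2 * (P.ordSet fun d => 2 < d ∧ d ∣ Nat.card K - 1).ncard
      = Nat.card K ^ 3 * (Nat.card K ^ 3 + 1) * (Nat.card K - 3) := by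
  classical
  rw [P.split_card hq _ fun d hd => hd]
  congr 1
  have e : {y : Kˣ | 2 < orderOf y ∧ orderOf y ∣ Nat.card K - 1} = ({1, -1} : Set Kˣ)ᶜ := by
    ext y
    have hd : orderOf y ∣ Nat.card K - 1 := P.card_units ▸ orderOf_dvd_natCard y
    simp only [Set.mem_setOf_eq, hd, and_true, Set.mem_compl_iff, Set.mem_insert_iff,
      Set.mem_singleton_iff, not_or]
    constructor
    · intro h
      refine ⟨fun e => ?_, fun e => ?_⟩
      · rw [e, orderOf_one] at h; omega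
      · have := Nat.le_of_dvd two_pos
          (orderOf_dvd_of_pow_eq_one (show y ^ 2 = 1 by rw [e]; simp))
        omega
    · rintro ⟨h1, h2⟩
      by_contra h
      have := orderOf_pos y
      have h' : y ^ 2 = 1 :=
        orderOf_dvd_iff_pow_eq_one.1 (by interval_cases orderOf y <;> norm_num)
      rcases sq_eq_one_iff.1 (show (y : K) ^ 2 = 1 by rw [← Units.val_pow_eq_pow_val, h']; rfl)
        with e | e
      · exact h1 (Units.ext e)
      · exact h2 (Units.ext (by rw [e, Units.val_neg, Units.val_one]))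
  rw [e, Set.ncard_compl, Set.ncard_pair P.neg_one_ne.symm, P.card_units, Nat.sub_sub]

theorem count_nonsplit_all (hq : 4 < Nat.card K) :
    6 * (P.ordSet fun d => 2 < d ∧ d ∣ 2 * P.cN).ncard
      = Nat.card K ^ 3 * (Nat.card K - 1) * P.NN * (Nat.card K - 3) := by
  classical
  haveI : Finite ↥(twistedG2 K P.e) := Subtype.finite
  rw [P.nonsplit_card hq _ fun d hd => hd]
  congr 1
  have e : {w | w ∈ P.C2 ∧ 2 < orderOf w ∧ orderOf w ∣ 2 * P.cN}
      = (P.C2 : Set ↥(twistedG2 K P.e)) \ {w | w ∈ P.C2 ∧ ¬ 2 < orderOf w} := by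
    ext w
    simp only [Set.mem_setOf_eq, Set.mem_sdiff, SetLike.mem_coe, not_and, not_not]
    exact ⟨fun h => ⟨h.1, fun _ => h.2.1⟩, fun h => ⟨h.1, h.2 h.1, P.C2_order h.1⟩⟩
  rw [e, Set.ncard_sdiff (fun w hw => hw.1), P.card_VT, ← Nat.card_coe_set_eq]
  show Nat.card ↥P.C2 - 4 = _
  rw [P.card_C2]
  omega

/-- The count of the elements of the third kind. -/
theorem count_E3 (hq : 4 < Nat.card K) :
    6 * P.NN * P.E3.ncard
      = Nat.card ↥(twistedG2 K P.e) * (2 * P.NN - 2 * Nat.card K - 2) := by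
  classical
  haveI : Finite ↥(twistedG2 K P.e) := Subtype.finite
  set S1 := P.ordSet (3 ∣ ·) with hS1
  set S2 := P.ordSet fun d => 2 < d ∧ d ∣ Nat.card K - 1 with hS2
  set S3 := P.ordSet fun d => 2 < d ∧ d ∣ 2 * P.cN with hS3
  set S4 := P.ordSet (· = 2) with hS4
  obtain ⟨h4, hodd, h3c, -⟩ := P.cN_spec
  obtain ⟨k, hk, hk'⟩ := P.q_sub_one
  have hN : ∀ d, 1 < d → d ∣ P.NN →
      ¬ 3 ∣ d ∧ ¬ d ∣ Nat.card K - 1 ∧ ¬ d ∣ 2 * P.cN ∧ d ≠ 2 := by
    intro d hd hdN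
    obtain ⟨r, hr, hrd⟩ := Nat.exists_prime_and_dvd hd.ne'
    obtain ⟨h3, -, hm, hp⟩ := P.NN_prime hr (hrd.trans hdN)
    refine ⟨fun h => ?_, fun h => hm (hrd.trans h), fun h => hp ?_, fun h => ?_⟩
    · have := (P.NN_prime Nat.prime_three (h.trans hdN)).1; omega
    · rw [h4, show 4 * P.cN = 2 * (2 * P.cN) by ring]
      exact (hrd.trans h).mul_left 2
    · rw [h] at hrd
      have := Nat.le_of_dvd two_pos hrd
      omega
  have hsplit : ∀ d, 2 < d → d ∣ Nat.card K - 1 → ¬ d ∣ 2 * P.cN := by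
    intro d hd h1 h2
    have hd2 : d ∣ 2 * Nat.gcd k P.cN := by
      rw [← Nat.gcd_mul_left, ← hk']
      exact Nat.dvd_gcd h1 h2
    have hg : Nat.gcd k P.cN = 1 :=
      (P.coprime_cN.1.coprime_dvd_right (hk' ▸ dvd_mul_left k 2)).symm
    rw [hg] at hd2
    have := Nat.le_of_dvd (by norm_num) hd2
    omega
  have h3a : ∀ d, d ∣ Nat.card K - 1 → ¬ 3 ∣ d := fun d h h3 => P.not_three_dvd (h3.trans h)
  have h3b : ∀ d, d ∣ 2 * P.cN → ¬ 3 ∣ d := fun d h h3 => h3c
    ((Nat.prime_three.dvd_mul.1 (h3.trans h)).resolve_left (by norm_num))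
  have hu : ({1}ᶜ : Set ↥(twistedG2 K P.e)) = S1 ∪ (S2 ∪ (S3 ∪ (S4 ∪ P.E3))) := by
    ext g
    refine ⟨fun hg => ?_, fun h (e : g = 1) => ?_⟩
    · rcases P.classify hq hg with h | h | h | h | h
      · exact Or.inl h
      · exact Or.inr (Or.inl h)
      · exact Or.inr (Or.inr (Or.inl h))
      · exact Or.inr (Or.inr (Or.inr (Or.inl h)))
      · exact Or.inr (Or.inr (Or.inr (Or.inr h)))
    · subst e
      rcases h with h | h | h | h | h
      · simp [hS1, ordSet] at h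
      · simp [hS2, ordSet] at h
      · simp [hS3, ordSet] at h
      · simp [hS4, ordSet] at h
      · exact h.1 rfl
  have hcard := congrArg Set.ncard hu
  rw [P.E3_eq_ordSet] at hcard
  set S5 := P.ordSet fun d => d ≠ 1 ∧ d ∣ P.NN with hS5
  rw [Set.ncard_compl, Set.ncard_singleton] at hcard
  have hgt : ∀ g : ↥(twistedG2 K P.e), g ∈ S5 → 1 < orderOf g := fun g h => by
    have := orderOf_pos g
    have := h.1
    omega
  rw [Set.ncard_union_eq (Set.disjoint_left.2 ?d1), Set.ncard_union_eq (Set.disjoint_left.2 ?d2),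
    Set.ncard_union_eq (Set.disjoint_left.2 ?d3), Set.ncard_union_eq (Set.disjoint_left.2 ?d4)]
    at hcard
  case d1 =>
    rintro g (h1 : 3 ∣ orderOf g) (h | h | h | h)
    · exact h3a _ h.2 h1
    · exact h3b _ h.2 h1
    · rw [show orderOf g = 2 from h] at h1; norm_num at h1
    · exact (hN _ (hgt g h) h.2).1 h1
  case d2 =>
    rintro g h1 (h | h | h)
    · exact hsplit _ h1.1 h1.2 h.2
    · exact (show orderOf g ≠ 2 from fun e => by have := h1.1; omega) h
    · exact (hN _ (hgt g h) h.2).2.1 h1.2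
  case d3 =>
    rintro g h1 (h | h)
    · exact (show orderOf g ≠ 2 from fun e => by have := h1.1; omega) h
    · exact (hN _ (hgt g h) h.2).2.2.1 h1.2
  case d4 =>
    rintro g h1 h
    exact (hN _ (hgt g h) h.2).2.2.2 h1
  rw [hS1, P.count_three_dvd, P.count_three, P.count_six, P.count_nine, hS4, P.count_invol hq]
    at hcard
  have ha := P.count_split_all hq
  have hb := P.count_nonsplit_all hq
  rw [← hS2] at ha
  rw [← hS3] at hb
  rw [P.E3_eq_ordSet, ← hS5]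
  have hT := P.card_T'
  set T := Nat.card ↥(twistedG2 K P.e)
  have h27 := P.q_ge hq
  have hNN := P.NN_eq
  have hNbig : 2 * Nat.card K + 2 ≤ 2 * P.NN := by nlinarith
  have hTpos : 0 < T := Nat.card_pos
  obtain ⟨D, hD⟩ := Nat.exists_eq_add_of_le hNbig
  rw [show 2 * P.NN - 2 * Nat.card K - 2 = D by omega]
  have hq2 : 1 ≤ Nat.card K ^ 2 := Nat.one_le_pow _ _ (by omega)
  zify [show 1 ≤ Nat.card K by omega, show 3 ≤ Nat.card K by omega, hq2,
    Nat.one_le_iff_ne_zero.2 hTpos.ne'] at hcard ha hb hT hD hNN ⊢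
  have hN' : (P.NN : ℤ) = (Nat.card K : ℤ) ^ 2 - Nat.card K + 1 := by linear_combination hNN
  simp only [hN'] at hcard ha hb hT hD ⊢
  linear_combination (-6 * ((Nat.card K : ℤ) ^ 2 - Nat.card K + 1)) * hcard
    - 3 * ((Nat.card K : ℤ) ^ 2 - Nat.card K + 1) * ha
    - ((Nat.card K : ℤ) ^ 2 - Nat.card K + 1) * hb
    + (T : ℤ) * hD
    + (4 * ((Nat.card K : ℤ) ^ 2 - Nat.card K + 1) + 2 * Nat.card K + 2) * hT

end Par

end Cfsg.Agent.H38.Ree
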