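import Cfsg.Agent.H38.Ree.Torus
import Cfsg.Agent.H37.Twist.OfFold

/-!
`²G₂(q)` as the fixed points of the endomorphism, with its split Tits system of rank one.
-/
set_option autoImplicit false
set_option maxRecDepth 100000

namespace Cfsg.Agent.H38.Ree

open Cfsg.Lie Cfsg.Agent.H37.RootSys Cfsg.Agent.H37.Twist Cfsg.Agent.H37.NormalForm

variable {K : Type*} [Field K]

/-- The longest element as a word. -/
def w0Word : List ℕ := [0, 1, 0, 1, 0, 1]

variable (K) in
/-- The longest element. -/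
noncomputable abbrev w0 : (Q K).X.M.Group := (Q K).X.w0

theorem w0Word_lt : ∀ a ∈ w0Word, a < 2 := by decide

theorem w0Word_neg : ∀ r, r < 12 → 6 ≤ r → H37.Weyl.certG2.act w0Word r < 6 := by decide +kernel

theorem wOf_w0Word : H37.Weyl.wOf (Q K).X.M w0Word = w0 K := by
  refine H37.Twist.Model.eq_w0 (Q := Q K) fun r hr hp => ?_
  rw [(Q K).X.good.hom_wOf_val w0Word_lt]
  exact w0Word_neg r hr hp

theorem w0_sq : w0 K * w0 K = 1 := by
  rw [← wOf_w0Word, ← H37.Weyl.wOf_append]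
  refine (Q K).X.good.hom_injective (Equiv.ext fun r => Fin.ext ?_)
  have hlt : ∀ a ∈ w0Word ++ w0Word, a < (Q K).X.n := by
    show ∀ a ∈ w0Word ++ w0Word, a < 2
    decide
  rw [(Q K).X.good.hom_wOf_val hlt, map_one]
  exact (show ∀ r : Fin 12, H37.Weyl.certG2.act (w0Word ++ w0Word) r.val = r.val by
    decide +kernel) r

theorem w0_inv : (w0 K)⁻¹ = w0 K := inv_eq_of_mul_eq_one_right w0_sq

theorem w0_ne : w0 K ≠ 1 := by
  intro h
  have := (Q K).X.w0_neg (r := 7) (show 7 < 12 by omega) (show 6 ≤ 7 by omega)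
  rw [show (Q K).X.w0 = 1 from h, map_one] at this
  exact absurd this (by show ¬ (7 : ℕ) < 6; omega)

theorem w0_pos {r : ℕ} (hr : r < 12) (hn : r < 6) :
    6 ≤ ((Q K).X.good.hom (w0 K) ⟨r, hr⟩).val := by
  by_contra hcon
  have h := (Q K).X.w0_neg (show 12 - 1 - r < 12 by omega) (show 6 ≤ 12 - 1 - r by omega)
  have e : (Q K).X.good.hom (w0 K) ⟨12 - 1 - r, by show _ < 12; omega⟩ =
      ⟨12 - 1 - ((Q K).X.good.hom (w0 K) ⟨r, hr⟩).val, by show _ < 12; omega⟩ := by
    exact Fin.ext ((Q K).X.good.hom_neg (w0 K) ⟨r, hr⟩)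
  rw [e] at h
  exact absurd h (by show ¬ _ < 6; simp only; omega)

/-- An element of `V` is a conjugate of an element of `U`. -/
theorem neg_conj {v : ↥(chevG2.group K)} (hv : v ∈ XS (Q K).sys.x (↑(negSet chevG2) : Set ℕ)) :
    ((Q K).sys.rep (w0 K))⁻¹ * v * (Q K).sys.rep (w0 K) ∈ (Q K).sys.U := by
  obtain ⟨k, hk, e⟩ := (Q K).sys.rep_inv (w0 K)
  rw [w0_inv] at e
  have h2 : ((Q K).sys.rep (w0 K))⁻¹ * v * ((Q K).sys.rep (w0 K))⁻¹⁻¹ ∈ (Q K).sys.U := by
    refine conj_mem_XS (fun r hr t => ?_) hv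
    obtain ⟨h1, h2⟩ := mem_negSet.1 (Finset.mem_coe.1 hr)
    obtain ⟨t', e'⟩ := (Q K).sys.rep_conj (w0 K) r h1 t
    obtain ⟨t'', e''⟩ := (Q K).sys.h_conj k hk
      ((Q K).X.good.hom (w0 K) ⟨r, h1⟩).val (Fin.isLt _) t'
    have : ((Q K).sys.rep (w0 K))⁻¹ * (Q K).sys.x r t * ((Q K).sys.rep (w0 K))⁻¹⁻¹
        = (Q K).sys.x ((Q K).X.good.hom (w0 K) ⟨r, h1⟩).val t'' := by
      rw [← e'', ← e']; conv_lhs => rw [e]
      group
    rw [this]
    exact x_mem_XS (Finset.mem_coe.2 ((mem_posSet (D := chevG2)).2 ⟨Fin.isLt _, w0_pos (K := K) h1 h2⟩)) _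
  rwa [inv_inv] at h2

theorem rep_conj_U {u : ↥(chevG2.group K)} (hu : u ∈ (Q K).sys.U) :
    (Q K).sys.rep (w0 K) * u * ((Q K).sys.rep (w0 K))⁻¹ ∈
      XS (Q K).sys.x (↑(negSet chevG2) : Set ℕ) :=
  (Q K).sys.flip_conj (w0 K) (by
    rw [show (Q K).sys.Uw (w0 K) = (Q K).sys.U from (Q K).Uw_w0]; exact hu)

/-- Cells: a nontrivial element of `V` is not in `B`. -/
theorem neg_cell {v u h : ↥(chevG2.group K)}
    (hv : v ∈ XS (Q K).sys.x (↑(negSet chevG2) : Set ℕ)) (hu : u ∈ (Q K).sys.U)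
    (hh : h ∈ (Q K).sys.H) (e : v = u * h) : v = 1 := by
  set n := (Q K).sys.rep (w0 K)
  have hu2 := neg_conj hv
  have hu2' : n⁻¹ * v * n ∈ (Q K).amb.toNormalForm.Uw (w0 K) := (Q K).Uw_w0.symm ▸ hu2
  obtain ⟨-, -, -, h4⟩ := (Q K).amb.toNormalForm.unique (w := w0 K) (w' := w0 K)
    (u := u) (u' := 1) (h := h) (h' := 1) (v := 1) (v' := n⁻¹ * v * n)
    hu (one_mem _) hh (one_mem _) (one_mem _) hu2' (by
      show u * h * n * 1 = 1 * 1 * n * (n⁻¹ * v * n)
      rw [← e]; group)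
  calc v = n * (n⁻¹ * v * n) * n⁻¹ := by group
    _ = 1 := by rw [← h4]; group

theorem ψ_mem_neg {u : ↥(chevG2.group K)} (hu : u ∈ (Q K).sys.U) :
    ψ K u ∈ XS (Q K).sys.x (↑(negSet chevG2) : Set ℕ) := by
  have : (Q K).sys.U ≤ (XS (Q K).sys.x (↑(negSet chevG2) : Set ℕ)).comap (ψ K) :=
    XS_le fun r hr t => by
      obtain ⟨h1, h2⟩ := mem_posSet.1 (Finset.mem_coe.1 hr)
      show ψ K (xe r t) ∈ XS (Q K).sys.x (↑(negSet chevG2) : Set ℕ)
      rw [ψ_xe h1]
      exact x_mem_XS (Finset.mem_coe.2 (mem_negSet.2 ⟨by show 11 - r < 12; omega, by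
        show 11 - r < 6; have : 6 ≤ r := h2; omega⟩)) _
  exact this hu

open Classical in
variable (K) in
/-- The inclusion of the group of order two. -/
noncomputable def ι : Multiplicative (ZMod 2) →* (Q K).X.M.Group where
  toFun a := if a = 1 then 1 else w0 K
  map_one' := if_pos rfl
  map_mul' a b := by
    have hcl : ∀ x : Multiplicative (ZMod 2), x = 1 ∨ x = Multiplicative.ofAdd 1 := by decide
    have h2 : (Multiplicative.ofAdd (1 : ZMod 2)) ≠ 1 := by decide
    have h3 : Multiplicative.ofAdd (1 : ZMod 2) * Multiplicative.ofAdd 1 = 1 := by decide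
    rcases hcl a with rfl | rfl <;> rcases hcl b with rfl | rfl <;> simp [h2, h3, w0_sq]

theorem ι_gen : ι K (Multiplicative.ofAdd 1) = w0 K := by
  classical
  show (if Multiplicative.ofAdd (1 : ZMod 2) = 1 then (1 : (Q K).X.M.Group) else w0 K) = w0 K
  exact if_neg (by decide)

theorem mult_two (a : Multiplicative (ZMod 2)) : a = 1 ∨ a = Multiplicative.ofAdd 1 := by
  revert a; decide

namespace Par

variable [Fintype K] (P : Par K)
include P

theorem tau_iff (w : (Q K).X.M.Group) :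
    P.endo.s.tau w = w ↔ w = 1 ∨ w = w0 K := by
  constructor
  · intro h
    have h' := (P.endo.s.tau_eq_iff w).1 h
    obtain ⟨u, hu, e⟩ := H37.Fold.mem_of_centCheck (Q K).X.good H37.Fold.centG2 (g := w)
      fun r hr => h' r
    simp only [H37.Fold.wordsG2, List.mem_cons, List.not_mem_nil, or_false] at hu
    rcases hu with rfl | rfl
    · exact Or.inl (e.trans H37.Weyl.wOf_nil)
    · exact Or.inr (e.trans wOf_w0Word)
  · rintro (rfl | rfl)
    · exact map_one _
    · refine H37.Twist.Model.eq_w0 (Q := Q K) fun r hr hp => ?_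
      set r' := (P.endo.s.perm).symm ⟨r, hr⟩ with hr'
      have hback : P.endo.s.perm r' = ⟨r, hr⟩ := by simp [hr']
      have hpos : chevG2.nroots / 2 ≤ r'.val := by
        have := congrArg Fin.val hback
        simp only [Sigma.perm_val] at this
        exact (P.endo.s.root_spec r'.isLt).2.1.1 (this ▸ hp)
      rw [← hback, P.endo.s.hom_tau_apply, Sigma.perm_val]
      have h : ((Q K).X.good.hom (w0 K) ⟨r'.val, r'.isLt⟩).val < chevG2.nroots / 2 :=
        (Q K).X.w0_neg r'.isLt hpos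
      simp only [Fin.eta] at h
      by_contra hcon
      have := (P.endo.s.root_spec (Fin.isLt ((Q K).X.good.hom (w0 K) r'))).2.1.1 (by omega)
      omega

/-- The folded Weyl group. -/
noncomputable def fold : H37.Twist.Fold P.endo (Multiplicative (ZMod 2)) where
  ι := ι K
  ι_inj a b h := by
    rcases mult_two a with rfl | rfl <;> rcases mult_two b with rfl | rfl <;>
      simp only [ι_gen, map_one] at h
    · rfl
    · exact absurd h.symm w0_ne
    · exact absurd h w0_ne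
    · rfl
  ι_range w := by
    rw [P.tau_iff]
    constructor
    · rintro (rfl | rfl)
      · exact one_mem _
      · exact ⟨_, ι_gen⟩
    · rintro ⟨a, rfl⟩
      rcases mult_two a with rfl | rfl
      · exact Or.inl (map_one _)
      · exact Or.inr ι_gen
  k := 1
  gens _ := Multiplicative.ofAdd 1
  closure_gens := eq_top_iff.2 fun a _ => by
    rcases mult_two a with rfl | rfl
    · exact one_mem _
    · exact Subgroup.subset_closure ⟨0, rfl⟩
  sq_gens _ := by decide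
  gens_ne _ := by decide
  word _ := w0Word
  word_lt _ := w0Word_lt
  ι_gens _ := ι_gen.trans wOf_w0Word.symm
  orbit _ c _ hc := ((P.tau_iff c).1 hc).imp_right fun h => h.trans ι_gen.symm
  desc a ha := ⟨0, by
    obtain rfl := (mult_two a).resolve_left ha
    rw [show Multiplicative.ofAdd (1 : ZMod 2) * Multiplicative.ofAdd 1 = 1 by decide, map_one,
      (Q K).X.good.inv_one, zero_add]⟩

theorem V1_neg (a c d : K) : P.V1 a c d ∈ XS (Q K).sys.x (↑(negSet chevG2) : Set ℕ) :=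
  ψ_mem_neg (P.U1_mem a c d)

theorem U_fixed_TG {u : ↥(chevG2.group K)} (hu : u ∈ (Q K).sys.U) (hf : P.endo.σ u = u) :
    u ∈ P.TG := by
  obtain ⟨a, c, d, rfl⟩ := (P.fixed_iff hu).1 hf
  exact P.U1_TG a c d

theorem n_mem : ∃ h ∈ (Q K).sys.H, h * (Q K).sys.rep (w0 K) ∈ P.TG := by
  set v := P.V1 0 1 0
  have hv : v ≠ 1 := fun h =>
    one_ne_zero (P.U1_eq_one_iff.1 (ψ_injective (h.trans (map_one _).symm))).2.1
  obtain ⟨u, hu, h, hh, w, u', hu', e⟩ := (Q K).amb.toNormalForm.exists_eq v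
  have hf : P.endo.σ v = v := P.σ_V1 0 1 0
  obtain ⟨l, hl, el⟩ := P.endo.σ_rep w
  have e1 : P.endo.σ u * (P.endo.σ h * l) * (Q K).sys.rep (P.endo.s.tau w) * P.endo.σ u' = v := by
    conv_rhs => rw [← hf, e]
    show _ = P.endo.σ (u * h * (Q K).sys.rep w * u')
    rw [map_mul, map_mul, map_mul, el]
    group
  obtain ⟨h1, h2, -, h4⟩ := (Q K).amb.toNormalForm.unique (P.endo.σ_U hu) hu
    (mul_mem (P.endo.σ_h hh) hl) hh (P.endo.σ_Uw hu') hu' (e1.trans e)
  have hw : w = w0 K := ((P.tau_iff w).1 h1).resolve_left fun hw1 => by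
    subst hw1
    refine hv (neg_cell (P.V1_neg 0 1 0) hu hh ?_)
    have hu1 : u' = 1 := by
      have : u' ∈ (Q K).sys.Uw 1 := hu'
      rwa [(Q K).sys.Uw_one, Subgroup.mem_bot] at this
    rw [e, hu1]
    show u * h * (Q K).sys.rep 1 * 1 = _
    rw [(Q K).sys.rep_one, mul_one, mul_one]
  subst hw
  refine ⟨h, hh, ?_⟩
  have e2 : h * (Q K).sys.rep (w0 K) = u⁻¹ * v * u'⁻¹ := by
    rw [e]; show _ = u⁻¹ * (u * h * (Q K).sys.rep (w0 K) * u') * u'⁻¹; group
  rw [e2]
  exact mul_mem (mul_mem (inv_mem (P.U_fixed_TG hu h2)) (P.V1_TG 0 1 0))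
    (inv_mem (P.U_fixed_TG ((Q K).sys.Uw_le _ hu') h4))

theorem card_fixed_U :
    Nat.card ↥((Q K).sys.U ⊓ fixedPts P.endo.σ) = Nat.card K ^ 3 := by
  let g : K × K × K → ↥((Q K).sys.U ⊓ fixedPts P.endo.σ) := fun p =>
    ⟨P.U1 p.1 p.2.1 p.2.2, P.U1_mem _ _ _, P.σ_U1 _ _ _⟩
  have hg : Function.Bijective g := by
    constructor
    · intro p q h
      obtain ⟨h1, h2, h3⟩ := P.U1_inj (congrArg Subtype.val h)
      exact Prod.ext h1 (Prod.ext h2 h3)
    · rintro ⟨v, hv, hf⟩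
      obtain ⟨a, c, d, rfl⟩ := (P.fixed_iff hv).1 hf
      exact ⟨(a, c, d), rfl⟩
  rw [← Nat.card_eq_of_bijective g hg, Nat.card_prod, Nat.card_prod]
  ring

theorem inv_w0 : (Q K).X.good.inv (w0 K) = 6 := by
  rw [← Sys.card_flip, ← wOf_w0Word,
    flip_word (Q K).X.good (show ∀ a ∈ w0Word, a < (Q K).X.n from w0Word_lt)]
  exact (show (flipList H37.Weyl.certG2 chevG2 w0Word).toFinset.card = 6 by decide +kernel)

/-- `²G₂(q)` with its fixed pieces. -/
noncomputable def model : H37.Twist.Model P.fold where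
  T := twistedG2 K P.e
  le_group := P.T_le
  le_fixed := P.le_fixed
  n_mem _ := by
    obtain ⟨h, hh, hm⟩ := P.n_mem
    exact ⟨h, hh, by show _ ∈ _; rw [show P.fold.ι (P.fold.gens _) = w0 K from ι_gen]; exact hm⟩
  H_mem := P.H_mem
  e := 2
  base_mem j v hv hf := by
    rw [show P.fold.ι (P.fold.gens j) = w0 K from ι_gen] at hv
    exact P.U_fixed_TG ((Q K).sys.Uw_le _ hv) hf
  base_card j := by
    rw [show P.fold.ι (P.fold.gens j) = w0 K from ι_gen, P.inv_w0,
      show (Q K).sys.Uw (w0 K) = (Q K).sys.U from (Q K).Uw_w0, P.card_fixed_U, ← pow_mul]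

/-- Faithfulness of the fixed torus on the fixed unipotent elements. -/
theorem faith : ∀ h ∈ (Q K).sys.H, P.endo.σ h = h →
    (∀ v ∈ (Q K).sys.U, P.endo.σ v = v → h * v = v * h) → h = 1 := by
  intro h hh hf hc
  obtain ⟨y, rfl⟩ := P.exists_hp hh hf
  have e := P.hp_conj_U1 y 0 1 1
  rw [hc _ (P.U1_mem 0 1 1) (P.σ_U1 0 1 1), mul_inv_cancel_right] at e
  obtain ⟨-, -, h3⟩ := P.U1_inj e
  rw [mul_one] at h3
  have h9 : P.χ 9 y = y ^ P.e := by
    rw [χ, show chevG2.cartan 0 9 = 1 by decide +kernel,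
      show chevG2.cartan 1 9 = 0 by decide +kernel, zpow_one, zpow_zero, mul_one]
  have hy : y ^ P.e = 1 := h9 ▸ Units.ext h3.symm
  have : y = 1 := by rw [← P.units_ti_th y, hy, one_pow]
  rw [this, map_one]

end Par

end Cfsg.Agent.H38.Ree
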