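import Cfsg.Agent.H38.Ree.Klein

/-!
The rotation group inside `SL₂(K)`, `-1` a non-square.
-/
set_option autoImplicit false

namespace Cfsg.Agent.H38.Ree.Klein

open Matrix Polynomial

variable {K : Type*} [Field K]

local notation "SL" => Matrix.SpecialLinearGroup (Fin 2) K

/-- The centraliser of the rotation. -/
def C1 : Subgroup SL := Subgroup.centralizer {wM}

theorem mem_C1 {g : SL} : g ∈ (C1 : Subgroup SL) ↔ g 1 1 = g 0 0 ∧ g 1 0 = -g 0 1 := by
  rw [C1, Subgroup.mem_centralizer_singleton_iff]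
  constructor
  · intro e
    have a00 := congrFun (congrFun (congrArg Subtype.val e) 0) 0
    have a01 := congrFun (congrFun (congrArg Subtype.val e) 0) 1
    simp [coe_wM, Matrix.mul_apply, Matrix.vecMul, dotProduct, Fin.sum_univ_two] at a00 a01
    exact ⟨by first | linear_combination a01 | linear_combination -a01,
      by first | linear_combination a00 | linear_combination -a00⟩
  · rintro ⟨h1, h2⟩
    refine Subtype.ext (Matrix.ext fun i j => ?_)
    fin_cases i <;> fin_cases j <;>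
      simp [coe_wM, Matrix.mul_apply, Matrix.vecMul, dotProduct, Fin.sum_univ_two, h1, h2]

theorem C1_det {g : SL} (hg : g ∈ (C1 : Subgroup SL)) : g 0 0 ^ 2 + g 0 1 ^ 2 = 1 := by
  obtain ⟨h1, h2⟩ := mem_C1.1 hg
  have hd : g 0 0 * g 1 1 - g 0 1 * g 1 0 = 1 := by
    rw [← det_fin_two]; exact g.2
  rw [h1, h2] at hd
  linear_combination hd

theorem C1_ext {g h : SL} (hg : g ∈ (C1 : Subgroup SL)) (hh : h ∈ (C1 : Subgroup SL))
    (e0 : g 0 0 = h 0 0) (e1 : g 0 1 = h 0 1) : g = h := by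
  obtain ⟨a1, a2⟩ := mem_C1.1 hg
  obtain ⟨b1, b2⟩ := mem_C1.1 hh
  refine Subtype.ext (Matrix.ext fun i j => ?_)
  fin_cases i <;> fin_cases j
  · exact e0
  · exact e1
  · exact a2.trans ((neg_inj.2 e1).trans b2.symm)
  · exact a1.trans (e0.trans b1.symm)

theorem C1_comm {g h : SL} (hg : g ∈ (C1 : Subgroup SL)) (hh : h ∈ (C1 : Subgroup SL)) :
    g * h = h * g := by
  obtain ⟨a1, a2⟩ := mem_C1.1 hg
  obtain ⟨b1, b2⟩ := mem_C1.1 hh
  refine C1_ext (mul_mem hg hh) (mul_mem hh hg) ?_ ?_ <;>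
    simp [Matrix.mul_apply, Matrix.vecMul, dotProduct, Fin.sum_univ_two, a1, a2, b1, b2] <;> ring

theorem neg_one_mem_C1 : (-1 : SL) ∈ (C1 : Subgroup SL) := by
  rw [C1, Subgroup.mem_centralizer_singleton_iff, neg_mul, mul_neg, one_mul, mul_one]

theorem wM_mem_C1 : (wM : SL) ∈ (C1 : Subgroup SL) :=
  Subgroup.mem_centralizer_singleton_iff.2 rfl

theorem neg_one_ne (h2 : (2 : K) ≠ 0) : (-1 : SL) ≠ 1 := by
  intro e
  have e00 := congrFun (congrFun (congrArg Subtype.val e) 0) 0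
  simp at e00
  exact h2 (by linear_combination -e00)

/-- The elements whose square is scalar. -/
theorem C1_sq (h2 : (2 : K) ≠ 0) {g : SL} (hg : g ∈ (C1 : Subgroup SL))
    (h : mk g * mk g = 1) : g = 1 ∨ g = -1 ∨ g = wM ∨ g = -wM := by
  obtain ⟨a1, a2⟩ := mem_C1.1 hg
  have hd := C1_det hg
  rw [← map_mul, mk_eq_one] at h
  have h01 : g 0 0 * g 0 1 = 0 := by
    refine mul_left_cancel₀ h2 ?_
    rcases h with e | e <;>
    · have e01 := congrFun (congrFun (congrArg Subtype.val e) 0) 1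
      simp [Matrix.mul_apply, Matrix.vecMul, dotProduct, Fin.sum_univ_two, a1] at e01
      linear_combination e01
  rcases mul_eq_zero.1 h01 with h0 | h0
  · rcases sq_eq_one_iff.1 (show g 0 1 ^ 2 = 1 by linear_combination hd - g 0 0 * h0) with h1 | h1
    · refine Or.inr (Or.inr (Or.inl (C1_ext hg wM_mem_C1 ?_ ?_))) <;> simp [coe_wM, h0, h1]
    · refine Or.inr (Or.inr (Or.inr (C1_ext hg ?_ ?_ ?_)))
      · rw [← neg_one_mul]; exact mul_mem neg_one_mem_C1 wM_mem_C1
      all_goals simp [coe_wM, h0, h1]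
  · rcases sq_eq_one_iff.1 (show g 0 0 ^ 2 = 1 by linear_combination hd - g 0 1 * h0) with h1 | h1
    · refine Or.inl (C1_ext hg (one_mem _) ?_ ?_) <;> simp [h0, h1]
    · refine Or.inr (Or.inl (C1_ext hg neg_one_mem_C1 ?_ ?_)) <;> simp [h0, h1]

theorem irreducible_sq (hns : ¬ IsSquare (-1 : K)) : Irreducible (X ^ 2 - C (-1 : K)) :=
  X_pow_sub_C_irreducible_of_prime Nat.prime_two fun b hb => hns ⟨b, by rw [← hb]; ring⟩

theorem isCyclic_C1 [Fintype K] (hns : ¬ IsSquare (-1 : K)) : IsCyclic ↥(C1 : Subgroup SL) := by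
  classical
  haveI : Fact (Irreducible (X ^ 2 - C (-1 : K))) := ⟨irreducible_sq hns⟩
  set f := X ^ 2 - C (-1 : K) with hf
  set i := AdjoinRoot.root f
  have hi : i * i = -1 := by
    have h := AdjoinRoot.eval₂_root f
    conv at h => lhs; arg 3; rw [hf]
    rw [eval₂_sub, eval₂_X_pow, eval₂_C, map_neg, map_one, sub_eq_zero] at h
    rw [← pow_two]
    exact h
  let φ : ↥(C1 : Subgroup SL) →* AdjoinRoot f :=
    { toFun := fun g => AdjoinRoot.of f ((g : SL) 0 0) + AdjoinRoot.of f ((g : SL) 0 1) * i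
      map_one' := by simp
      map_mul' := by
        rintro ⟨g, hg⟩ ⟨h, hh⟩
        obtain ⟨a1, a2⟩ := mem_C1.1 hg
        obtain ⟨b1, b2⟩ := mem_C1.1 hh
        simp [Matrix.mul_apply, Matrix.vecMul, dotProduct, Fin.sum_univ_two, b1, b2]
        linear_combination -(AdjoinRoot.of f (g 0 1) * AdjoinRoot.of f (h 0 1)) * hi }
  refine isCyclic_of_injective_ringHom φ fun g h e => Subtype.ext ?_
  have e' : AdjoinRoot.of f ((g : SL) 0 0) + AdjoinRoot.of f ((g : SL) 0 1) * i
      = AdjoinRoot.of f ((h : SL) 0 0) + AdjoinRoot.of f ((h : SL) 0 1) * i := e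
  by_cases hb : (g : SL) 0 1 = (h : SL) 0 1
  · rw [hb, add_left_inj] at e'
    exact C1_ext g.2 h.2 ((AdjoinRoot.of f).injective e') hb
  · exfalso
    set c := ((h : SL) 0 0 - (g : SL) 0 0) / ((g : SL) 0 1 - (h : SL) 0 1) with hc
    have hne : AdjoinRoot.of f ((g : SL) 0 1 - (h : SL) 0 1) ≠ 0 :=
      (map_ne_zero (AdjoinRoot.of f)).2 (sub_ne_zero.2 hb)
    have hic : i = AdjoinRoot.of f c := by
      rw [hc, map_div₀, eq_div_iff hne, map_sub, map_sub]
      linear_combination e'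
    rw [hic, ← map_mul, ← map_one (AdjoinRoot.of f), ← map_neg] at hi
    exact hns ⟨c, ((AdjoinRoot.of f).injective hi).symm⟩

theorem card_C1 [Fintype K] (hns : ¬ IsSquare (-1 : K)) (h2 : (2 : K) ≠ 0) :
    Nat.card ↥(C1 : Subgroup SL) = Nat.card K + 1 := by
  classical
  have hden : ∀ t : K, (1 + t ^ 2 : K) ≠ 0 := fun t h => hns ⟨t, by linear_combination -h⟩
  have hmem : ∀ a b : K, ∀ h : a ^ 2 + b ^ 2 = 1,
      (⟨!![a, b; -b, a], by rw [det_fin_two_of]; linear_combination h⟩ : SL) ∈ (C1 : Subgroup SL) :=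
    fun a b h => mem_C1.2 ⟨rfl, rfl⟩
  have hdet : ∀ t : K, ((1 - t ^ 2) / (1 + t ^ 2)) ^ 2 + (2 * t / (1 + t ^ 2)) ^ 2 = 1 := fun t => by
    have := hden t
    field_simp
    ring
  let F : Option K → ↥(C1 : Subgroup SL) := fun o => o.elim ⟨-1, neg_one_mem_C1⟩
    fun t => ⟨_, hmem _ _ (hdet t)⟩
  rw [← Finite.card_option]
  refine (Nat.card_eq_of_bijective F ⟨?_, ?_⟩).symm
  · have hne : ∀ t : K, (F (some t) : SL) ≠ -1 := by
      intro t e
      have e00 : (1 - t ^ 2) / (1 + t ^ 2) = -1 := by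
        simpa [F] using congrFun (congrFun (congrArg Subtype.val e) 0) 0
      rw [div_eq_iff (hden t)] at e00
      exact h2 (by linear_combination e00)
    rintro (_ | t) (_ | u) h
    · rfl
    · exact absurd (congrArg Subtype.val h).symm (hne u)
    · exact absurd (congrArg Subtype.val h) (hne t)
    · have e0 : (1 - t ^ 2) / (1 + t ^ 2) = (1 - u ^ 2) / (1 + u ^ 2) :=
        congrFun (congrFun (congrArg Subtype.val (congrArg Subtype.val h)) 0) 0
      have e1 : 2 * t / (1 + t ^ 2) = 2 * u / (1 + u ^ 2) :=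
        congrFun (congrFun (congrArg Subtype.val (congrArg Subtype.val h)) 0) 1
      rw [div_eq_div_iff (hden t) (hden u)] at e0 e1
      have hsq : t ^ 2 = u ^ 2 := mul_left_cancel₀ h2 (by linear_combination -e0)
      rw [hsq] at e1
      exact congrArg some (mul_left_cancel₀ h2 (mul_right_cancel₀ (hden u) e1))
  · rintro ⟨g, hg⟩
    have hd := C1_det hg
    by_cases ha : g 0 0 = -1
    · refine ⟨none, Subtype.ext (C1_ext neg_one_mem_C1 hg ?_ ?_)⟩
      · simp [F, ha]
      · have hb : g 0 1 ^ 2 = 0 := by rw [ha] at hd; linear_combination hd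
        simp [F, (pow_eq_zero_iff two_ne_zero).1 hb]
    · have h1a : (1 + g 0 0 : K) ≠ 0 := fun h => ha (by linear_combination h)
      refine ⟨some (g 0 1 / (1 + g 0 0)), Subtype.ext (C1_ext (hmem _ _ (hdet _)) hg ?_ ?_)⟩
      · show (1 - (g 0 1 / (1 + g 0 0)) ^ 2) / (1 + (g 0 1 / (1 + g 0 0)) ^ 2) = g 0 0
        rw [div_eq_iff (hden _)]
        field_simp
        linear_combination -(1 + g 0 0) * hd
      · show 2 * (g 0 1 / (1 + g 0 0)) / (1 + (g 0 1 / (1 + g 0 0)) ^ 2) = g 0 1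
        rw [div_eq_iff (hden _)]
        field_simp
        linear_combination -(g 0 1) * hd

end Cfsg.Agent.H38.Ree.Klein
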