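import Cfsg.Agent.H38.Ree.Solvable
import Cfsg.Agent.H38.Ree.Borel
import Cfsg.Agent.H38.Ree.Rot
import Cfsg.Agent.Coprime.Generation

/-!
`²G₂(q)`: the torus of order `q + 1`.
-/
set_option autoImplicit false
set_option maxRecDepth 100000

namespace Cfsg.Agent.H38.Ree

open Cfsg.Lie Cfsg.Agent.H37.RootSys Cfsg.Agent.H37.Twist

/-- In a cyclic group a subgroup is the set of roots of unity of its order. -/
theorem mem_of_pow_card {G : Type*} [Group G] [Finite G] {R B : Subgroup G} (hR : IsCyclic ↥R)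
    (hB : B ≤ R) {w : G} (hw : w ∈ R) (hp : w ^ Nat.card ↥B = 1) : w ∈ B := by
  classical
  haveI := Fintype.ofFinite ↥R
  haveI := hR
  have hle := IsCyclic.card_pow_eq_one_le (α := ↥R) (n := Nat.card ↥B) Nat.card_pos
  have hsub : ((B.subgroupOf R : Subgroup ↥R) : Set ↥R).toFinset ⊆
      ({a : ↥R | a ^ Nat.card ↥B = 1} : Finset ↥R) := by
    intro a ha
    rw [Finset.mem_filter]
    refine ⟨Finset.mem_univ _, Subtype.ext ?_⟩
    have ha' : (a : G) ∈ B := Subgroup.mem_subgroupOf.1 (Set.mem_toFinset.1 ha)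
    have h : (a : G) ^ Nat.card ↥B = 1 :=
      congrArg Subtype.val (pow_card_eq_one' (x := (⟨(a : G), ha'⟩ : ↥B)))
    rw [SubgroupClass.coe_pow]
    exact h
  have heq := Finset.eq_of_subset_of_card_le hsub (hle.trans (le_of_eq (by
    rw [Set.toFinset_card, ← Nat.card_eq_fintype_card]
    exact (Nat.card_congr (Subgroup.subgroupOfEquivOfLe hB).toEquiv).symm)))
  have : (⟨w, hw⟩ : ↥R) ∈ ((B.subgroupOf R : Subgroup ↥R) : Set ↥R).toFinset :=
    heq ▸ Finset.mem_filter.2 ⟨Finset.mem_univ _, Subtype.ext hp⟩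
  exact Subgroup.mem_subgroupOf.1 (Set.mem_toFinset.1 this)

theorem normalizer_le_of_cyclic {G : Type*} [Group G] [Finite G] {R B : Subgroup G}
    (hR : IsCyclic ↥R) (hB : B ≤ R) :
    Subgroup.normalizer (R : Set G) ≤ Subgroup.normalizer (B : Set G) := by
  intro g hg
  rw [Subgroup.mem_normalizer_iff] at hg ⊢
  intro y
  constructor
  · intro hy
    refine mem_of_pow_card hR hB ((hg y).1 (hB hy)) ?_
    rw [conj_pow, show y ^ Nat.card ↥B = 1 from
      congrArg Subtype.val (pow_card_eq_one' (x := (⟨y, hy⟩ : ↥B))), mul_one, mul_inv_cancel]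
  · intro hy
    refine mem_of_pow_card hR hB ((hg y).2 (hB hy)) ?_
    have h : (g * y * g⁻¹) ^ Nat.card ↥B = 1 :=
      congrArg Subtype.val (pow_card_eq_one' (x := (⟨_, hy⟩ : ↥B)))
    rwa [conj_pow, mul_inv_eq_one, mul_eq_left] at h

theorem cycle_to_w : ∀ p : EV, p.2 ≠ 1 → p.2 = (Multiplicative.ofAdd 1, 1) ∨
    (cycleEV p).2 = (Multiplicative.ofAdd 1, 1) ∨
    (cycleEV (cycleEV p)).2 = (Multiplicative.ofAdd 1, 1) := by decide +kernel

theorem cycle_base : cycleEV baseEV = baseEV := by decide +kernel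

theorem cycle_w : cycleEV (1, (Multiplicative.ofAdd 1, 1)) = (1, (1, Multiplicative.ofAdd 1)) ∧
    cycleEV (1, (1, Multiplicative.ofAdd 1)) =
      (1, (Multiplicative.ofAdd 1, Multiplicative.ofAdd 1)) ∧
    cycleEV (1, (Multiplicative.ofAdd 1, Multiplicative.ofAdd 1)) =
      (1, (Multiplicative.ofAdd 1, 1)) ∧
    (1, (Multiplicative.ofAdd 1, Multiplicative.ofAdd 1)) =
      ((1, (Multiplicative.ofAdd 1, 1)) * (1, (1, Multiplicative.ofAdd 1)) : EV) := by
  decide +kernel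

theorem fst_cases : ∀ p : EV, p.2 = (Multiplicative.ofAdd 1, 1) →
    p = (1, (Multiplicative.ofAdd 1, 1)) ∨ p = baseEV * (1, (Multiplicative.ofAdd 1, 1)) := by
  decide +kernel

theorem base_snd : ∀ p : EV, p.2 = 1 → p = 1 ∨ p = baseEV := by decide +kernel

namespace Par

variable {K : Type*} [Field K] [Fintype K] (P : Par K)
include P

/-- `c = (q + 1) / 4`. -/
def cN : ℕ := (3 * P.e ^ 2 + 1) / 4

theorem cN_spec : Nat.card K + 1 = 4 * P.cN ∧ Odd P.cN ∧ ¬ 3 ∣ P.cN ∧ (4 < Nat.card K → 1 < P.cN) := by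
  obtain ⟨a, ha⟩ := P.odd
  have h : Nat.card K + 1 = 4 * (3 * a ^ 2 + 3 * a + 1) := by rw [P.card_nat, ha]; ring
  have hc : P.cN = 3 * a ^ 2 + 3 * a + 1 := by
    rw [cN, ← P.card_nat, h, Nat.mul_div_cancel_left _ (by norm_num)]
  rw [hc]
  refine ⟨h, ?_, ?_, ?_⟩
  · obtain ⟨b, hb⟩ := Nat.even_mul_succ_self a
    exact ⟨3 * b, by rw [show 3 * a ^ 2 + 3 * a + 1 = 3 * (a * (a + 1)) + 1 by ring, hb]; ring⟩
  · intro h'
    omega
  · intro hq
    rcases a with _ | a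
    · rw [P.card_nat, ha] at hq; simp at hq
    · have : 0 ≤ 3 * (a + 1) ^ 2 := Nat.zero_le _
      omega

theorem coprime_cN : Nat.Coprime P.cN (Nat.card K - 1) ∧ Nat.Coprime P.cN (Nat.card K ^ 3) := by
  obtain ⟨h4, hodd, h3, -⟩ := P.cN_spec
  constructor
  · refine Nat.coprime_of_dvd fun k hk hkc hkq => ?_
    have h1 : k ∣ Nat.card K + 1 := h4 ▸ hkc.mul_left 4
    have h2 : k ∣ 2 := by
      have := Nat.dvd_sub h1 hkq
      rwa [show Nat.card K + 1 - (Nat.card K - 1) = 2 by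
        have := Nat.card_pos (α := K); omega] at this
    rw [(Nat.prime_dvd_prime_iff_eq hk Nat.prime_two).1 h2] at hkc
    exact absurd hkc hodd.not_two_dvd_nat
  · obtain ⟨n, -, e⟩ := P.card_pow_three
    rw [e, ← pow_mul]
    exact Nat.Coprime.pow_right _ ((Nat.prime_three.coprime_iff_not_dvd.2 h3).symm)

/-- The map onto the centraliser of the involution. -/
noncomputable def fΘ :
    Multiplicative (ZMod 2) × Matrix.ProjectiveSpecialLinearGroup (Fin 2) K →*
      ↥(twistedG2 K P.e) := P.toT P.Θ P.Θ_fixed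

theorem inc_fΘ (p : Multiplicative (ZMod 2) × Matrix.ProjectiveSpecialLinearGroup (Fin 2) K) :
    P.inc (P.fΘ p) = P.Θ p := rfl

theorem fΘ_injective : Function.Injective P.fΘ := fun _ _ h =>
  P.Θ_injective (congrArg P.inc h)

/-- The involution of the torus. -/
noncomputable def aT : ↥(twistedG2 K P.e) := P.eight baseEV

/-- The second involution. -/
noncomputable def vT : ↥(twistedG2 K P.e) := P.eight (1, (Multiplicative.ofAdd 1, 1))

theorem aT_eq : P.aT = P.fΘ (Multiplicative.ofAdd 1, 1) := by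
  show P.fΘ (baseEV.1, P.V4 baseEV.2) = _
  rw [show baseEV.2 = 1 from rfl, map_one]
  rfl

theorem vT_eq : P.vT = P.fΘ (1, Klein.mk Klein.wM) := by
  show P.fΘ (1, P.V4 (Multiplicative.ofAdd 1, 1)) = _
  rw [V4_apply, twoHom_one, map_one, mul_one]

theorem mem_cent_aT {w : ↥(twistedG2 K P.e)} :
    w * P.aT = P.aT * w ↔ ∃ p, P.fΘ p = w := by
  constructor
  · intro h
    have : P.inc w ∈ P.Θ.range := by
      rw [P.Θ_range, P.mem_CA]
      refine ⟨P.inc_fixed w, ?_⟩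
      have e : P.inc P.aT = P.aG := P.ιT_base
      rw [← e, ← map_mul, ← map_mul, h]
    obtain ⟨p, hp⟩ := this
    exact ⟨p, P.inc_inj hp⟩
  · rintro ⟨p, rfl⟩
    rw [aT_eq, ← map_mul, ← map_mul]
    exact congrArg _ (Prod.ext (mul_comm _ _) (by simp))

/-- The map from `Z₂ × C₁`. -/
noncomputable def ee : Multiplicative (ZMod 2) × ↥(Klein.C1 (K := K)) →* ↥(twistedG2 K P.e) :=
  P.fΘ.comp ((MonoidHom.id _).prodMap (Klein.mk.comp (Klein.C1 (K := K)).subtype))

theorem ee_apply (z : Multiplicative (ZMod 2)) (g : ↥(Klein.C1 (K := K))) :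
    P.ee (z, g) = P.fΘ (z, Klein.mk (g : Matrix.SpecialLinearGroup (Fin 2) K)) := rfl

/-- The abelian group of order `q + 1`. -/
noncomputable def C2 : Subgroup ↥(twistedG2 K P.e) := P.ee.range

theorem C2_comm {u w : ↥(twistedG2 K P.e)} (hu : u ∈ P.C2) (hw : w ∈ P.C2) : u * w = w * u := by
  obtain ⟨⟨z, g⟩, rfl⟩ := hu
  obtain ⟨⟨z', g'⟩, rfl⟩ := hw
  rw [← map_mul, ← map_mul]
  exact congrArg _ (Prod.ext (mul_comm _ _) (Subtype.ext (Klein.C1_comm g.2 g'.2)))

theorem aT_mem : P.aT ∈ P.C2 := ⟨(Multiplicative.ofAdd 1, 1), by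
  rw [ee_apply, aT_eq, OneMemClass.coe_one, map_one Klein.mk]⟩

theorem vT_mem : P.vT ∈ P.C2 := ⟨(1, ⟨Klein.wM, Klein.wM_mem_C1⟩), by rw [ee_apply, vT_eq]⟩

theorem card_C2 : Nat.card ↥P.C2 = Nat.card K + 1 := by
  have hker : P.ee.ker = (⊥ : Subgroup (Multiplicative (ZMod 2))).prod
      (Subgroup.zpowers (⟨-1, Klein.neg_one_mem_C1⟩ : ↥(Klein.C1 (K := K)))) := by
    ext ⟨z, g⟩
    rw [MonoidHom.mem_ker, Subgroup.mem_prod, Subgroup.mem_bot, ee_apply,
      show (P.fΘ (z, Klein.mk (g : Matrix.SpecialLinearGroup (Fin 2) K)) = 1 ↔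
        z = 1 ∧ Klein.mk (g : Matrix.SpecialLinearGroup (Fin 2) K) = 1) from
      ⟨fun h => Prod.mk_eq_one.1 (P.fΘ_injective (h.trans (map_one _).symm)),
        fun h => by rw [h.1, h.2]; exact map_one _⟩, Klein.mk_eq_one]
    refine and_congr Iff.rfl ⟨?_, ?_⟩
    · rintro (h | h)
      · obtain rfl : g = 1 := Subtype.ext h
        exact one_mem _
      · obtain rfl : g = ⟨-1, Klein.neg_one_mem_C1⟩ := Subtype.ext h
        exact Subgroup.mem_zpowers _
    · rintro ⟨k, rfl⟩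
      rcases Int.even_or_odd k with hj | hj
      · exact Or.inl (by rw [SubgroupClass.coe_zpow]; exact hj.neg_one_zpow)
      · exact Or.inr (by rw [SubgroupClass.coe_zpow]; exact hj.neg_one_zpow)
  have hcard := Subgroup.card_eq_card_quotient_mul_card_subgroup P.ee.ker
  rw [Nat.card_congr (QuotientGroup.quotientKerEquivRange P.ee).toEquiv, hker, Nat.card_prod,
    Klein.card_C1 P.not_sq P.two_ne, Nat.card_congr (Subgroup.prodEquiv _ _).toEquiv,
    Nat.card_prod, Subgroup.card_bot, Nat.card_zpowers,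
    show orderOf (⟨-1, Klein.neg_one_mem_C1⟩ : ↥(Klein.C1 (K := K))) = 2 from ?_] at hcard
  · have : Nat.card (Multiplicative (ZMod 2)) = 2 := by simp
    rw [this] at hcard
    show Nat.card ↥P.ee.range = _
    omega
  · haveI : Fact (Nat.Prime 2) := ⟨Nat.prime_two⟩
    exact orderOf_eq_prime (Subtype.ext (by simp)) fun h =>
      Klein.neg_one_ne P.two_ne (congrArg Subtype.val h)

theorem C2_sq {w : ↥(twistedG2 K P.e)} (hw : w ∈ P.C2) (h : w * w = 1) :
    w = 1 ∨ w = P.aT ∨ w = P.vT ∨ w = P.aT * P.vT := by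
  obtain ⟨⟨z, g⟩, rfl⟩ := hw
  rw [ee_apply] at h ⊢
  rw [← map_mul, ← map_one P.fΘ] at h
  have hg := congrArg Prod.snd (P.fΘ_injective h)
  rw [vT_eq, aT_eq, ← map_mul, ← map_one P.fΘ]
  have hwn : Klein.mk (-Klein.wM : Matrix.SpecialLinearGroup (Fin 2) K) = Klein.mk Klein.wM :=
    Klein.mk_eq.2 (Or.inr rfl)
  rcases Klein.C1_sq P.two_ne g.2 hg with e | e | e | e <;> rw [e] <;>
    rcases mult_two z with rfl | rfl
  · exact Or.inl (by rw [map_one Klein.mk]; rfl)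
  · exact Or.inr (Or.inl (by rw [map_one Klein.mk]))
  · exact Or.inl (by rw [Klein.mk_eq_one.2 (Or.inr rfl)]; rfl)
  · exact Or.inr (Or.inl (by rw [Klein.mk_eq_one.2 (Or.inr rfl)]))
  · exact Or.inr (Or.inr (Or.inl rfl))
  · exact Or.inr (Or.inr (Or.inr (by rw [Prod.mk_mul_mk, mul_one, one_mul])))
  · exact Or.inr (Or.inr (Or.inl (by rw [hwn])))
  · exact Or.inr (Or.inr (Or.inr (by rw [hwn, Prod.mk_mul_mk, mul_one, one_mul])))

/-- The torus of order `(q + 1) / 4`. -/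
noncomputable def A2 : Subgroup ↥(twistedG2 K P.e) where
  carrier := {w | w ∈ P.C2 ∧ w ^ P.cN = 1}
  one_mem' := ⟨one_mem _, one_pow _⟩
  mul_mem' := fun {a b} ha hb => ⟨mul_mem ha.1 hb.1, by
    rw [Commute.mul_pow (P.C2_comm ha.1 hb.1), ha.2, hb.2, one_mul]⟩
  inv_mem' := fun {a} ha => ⟨inv_mem ha.1, by rw [inv_pow, ha.2, inv_one]⟩

theorem mem_A2 {w : ↥(twistedG2 K P.e)} : w ∈ P.A2 ↔ w ∈ P.C2 ∧ w ^ P.cN = 1 := Iff.rfl

theorem A2_le : P.A2 ≤ P.C2 := fun _ h => h.1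

theorem A2_aux : IsCyclic ↥P.A2 ∧ Nat.card ↥P.A2 = P.cN := by
  classical
  haveI := Klein.isCyclic_C1 (K := K) P.not_sq
  letI : CommGroup ↥(Klein.C1 (K := K)) := IsCyclic.commGroup
  obtain ⟨h4, hodd, -, -⟩ := P.cN_spec
  set e4 : ↥(Klein.C1 (K := K)) →* ↥(twistedG2 K P.e) :=
    (P.ee.comp (MonoidHom.inr _ _)).comp (powMonoidHom 4) with he4
  have e4a : ∀ g, e4 g = P.ee (1, g ^ 4) := fun g => rfl
  have hcard := Klein.card_C1 (K := K) P.not_sq P.two_ne
  have hpow : ∀ g : ↥(Klein.C1 (K := K)), (g ^ 4) ^ P.cN = 1 := fun g => by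
    rw [← pow_mul, ← h4, ← hcard, pow_card_eq_one']
  have hA : e4.range = P.A2 := by
    ext w
    constructor
    · rintro ⟨g, rfl⟩
      exact ⟨⟨_, (e4a g).symm⟩, by rw [e4a, ← map_pow, Prod.pow_mk, one_pow, hpow]; exact map_one _⟩
    · rintro ⟨⟨⟨z, g⟩, rfl⟩, hw⟩
      rw [← map_pow, ee_apply, ← map_one P.fΘ, Prod.pow_mk, SubgroupClass.coe_pow, map_pow] at hw
      obtain ⟨hz, hg⟩ := Prod.mk_eq_one.1 (P.fΘ_injective hw)
      obtain ⟨k, hk⟩ := hodd
      obtain rfl : z = 1 := by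
        rw [← hz, hk, pow_succ, pow_mul, show z ^ 2 = 1 by rw [pow_two]; exact two_sq z, one_pow,
          one_mul]
      rw [← map_pow, Klein.mk_eq_one] at hg
      obtain ⟨g', hg', egg⟩ : ∃ g' : ↥(Klein.C1 (K := K)), g' ^ P.cN = 1 ∧
          Klein.mk (g' : Matrix.SpecialLinearGroup (Fin 2) K) = Klein.mk (g : Matrix.SpecialLinearGroup (Fin 2) K) := by
        rcases hg with h | h
        · exact ⟨g, Subtype.ext (by rw [SubgroupClass.coe_pow]; exact h), rfl⟩
        · refine ⟨⟨-1, Klein.neg_one_mem_C1⟩ * g, Subtype.ext ?_, Klein.mk_eq.2 (Or.inr (by simp))⟩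
          rw [SubgroupClass.coe_pow, Subgroup.coe_mul, neg_one_mul, Odd.neg_pow ⟨k, hk⟩, h,
            neg_neg]
          rfl
      refine ⟨(g' ^ (k + 1)) ^ (k + 1), ?_⟩
      rw [e4a, ee_apply, ee_apply, ← egg]
      have h1 : ∀ y : ↥(Klein.C1 (K := K)), y ^ P.cN = 1 → (y ^ (k + 1)) ^ 2 = y := fun y hy => by
        rw [← pow_mul, show (k + 1) * 2 = P.cN + 1 by omega, pow_succ, hy, one_mul]
      have h2 : ((g' ^ (k + 1)) ^ (k + 1)) ^ 4 = g' := by
        rw [show (4 : ℕ) = 2 * 2 from rfl, pow_mul,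
          h1 (g' ^ (k + 1)) (by rw [← pow_mul, mul_comm, pow_mul, hg', one_pow]), h1 g' hg']
      rw [h2]
  constructor
  · rw [← hA]
    exact isCyclic_of_surjective _ e4.rangeRestrict_surjective
  · have hk : e4.ker = (powMonoidHom 4 : ↥(Klein.C1 (K := K)) →* _).ker := by
      ext g
      rw [MonoidHom.mem_ker, MonoidHom.mem_ker, powMonoidHom_apply, e4a, ee_apply]
      constructor
      · intro h
        have hm := (Prod.mk_eq_one.1 (P.fΘ_injective (h.trans (map_one _).symm))).2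
        rcases Klein.mk_eq_one.1 hm with e | e
        · exact Subtype.ext e
        · exfalso
          have h' := congrArg Subtype.val (hpow g)
          rw [SubgroupClass.coe_pow, e, hodd.neg_one_pow] at h'
          exact Klein.neg_one_ne P.two_ne h'
      · intro h
        rw [h, OneMemClass.coe_one, map_one]
        exact map_one _
    have hq := Subgroup.card_eq_card_quotient_mul_card_subgroup e4.ker
    rw [Nat.card_congr (QuotientGroup.quotientKerEquivRange e4).toEquiv, hk,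
      IsCyclic.card_powMonoidHom_ker, hcard, h4, Nat.gcd_mul_right_left] at hq
    rw [← hA]
    omega

/-- Elements of order dividing `c` in the centraliser of the involution: shape and centraliser. -/
theorem cent_odd {x : ↥(twistedG2 K P.e)} (hxa : x * P.aT = P.aT * x) (hx : x ^ P.cN = 1)
    (hx1 : x ≠ 1) : ∃ h : Matrix.SpecialLinearGroup (Fin 2) K, x = P.fΘ (1, Klein.mk h) ∧
      h ^ P.cN = 1 ∧ h 1 0 ≠ 0 ∧ ∀ w : ↥(twistedG2 K P.e), w * x = x * w → w * P.aT = P.aT * w →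
        ∃ z h', w = P.fΘ (z, Klein.mk h') ∧ h' * h = h * h' := by
  obtain ⟨-, hodd, -, -⟩ := P.cN_spec
  obtain ⟨⟨z, y⟩, rfl⟩ := P.mem_cent_aT.1 hxa
  rw [← map_pow, ← map_one P.fΘ, Prod.pow_mk] at hx
  obtain ⟨hz, hy⟩ := Prod.mk_eq_one.1 (P.fΘ_injective hx)
  obtain ⟨k, hk⟩ := hodd
  obtain rfl : z = 1 := by
    rw [← hz, hk, pow_succ, pow_mul, show z ^ 2 = 1 by rw [pow_two]; exact two_sq z, one_pow,
      one_mul]
  obtain ⟨g0, rfl⟩ := Klein.mk_surjective y
  rw [← map_pow, Klein.mk_eq_one] at hy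
  obtain ⟨h, hh, hc⟩ : ∃ h, Klein.mk h = Klein.mk g0 ∧ h ^ P.cN = 1 := by
    rcases hy with e | e
    · exact ⟨g0, rfl, e⟩
    · exact ⟨-g0, Klein.mk_eq.2 (Or.inr rfl), by rw [Odd.neg_pow ⟨k, hk⟩, e, neg_neg]⟩
  rw [← hh] at hx1 ⊢
  have h1 : h ≠ 1 := fun e => hx1 (by rw [e, map_one]; exact map_one _)
  refine ⟨h, rfl, hc, fun h10 => h1 ?_, fun w hwx hwa => ?_⟩
  · have hd : h 0 0 * h 1 1 - h 0 1 * h 1 0 = 1 := by
      rw [← Matrix.det_fin_two]; exact h.2
    have hp : ∀ n : ℕ, (h ^ n) 0 0 = h 0 0 ^ n ∧ (h ^ n) 1 0 = 0 := by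
      intro n
      induction n with
      | zero => simp
      | succ n ih =>
        rw [pow_succ, pow_succ, Matrix.SpecialLinearGroup.coe_mul, Matrix.mul_apply,
          Matrix.mul_apply, Fin.sum_univ_two, Fin.sum_univ_two, ih.1, ih.2, h10]
        constructor <;> ring
    have hne : h 0 0 ≠ 0 := fun e => by rw [e, h10] at hd; simp at hd
    have e1 : h 0 0 ^ P.cN = 1 := by rw [← (hp P.cN).1, hc]; simp
    have e2 : h 0 0 ^ (Nat.card K - 1) = 1 := by
      rw [Nat.card_eq_fintype_card]; exact FiniteField.pow_card_sub_one_eq_one _ hne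
    have e3 := Nat.eq_one_of_dvd_coprimes P.coprime_cN.1 (orderOf_dvd_of_pow_eq_one e1)
      (orderOf_dvd_of_pow_eq_one e2)
    rw [orderOf_eq_one_iff] at e3
    have e4 : h 1 1 = 1 := by rw [e3, h10] at hd; linear_combination hd
    have h3 : h ^ 3 = 1 := by
      refine Subtype.ext ?_
      rw [Matrix.SpecialLinearGroup.coe_pow, pow_three,
        Matrix.eta_fin_two (h : Matrix (Fin 2) (Fin 2) K), h10, e3, e4, Matrix.mul_fin_two,
        Matrix.mul_fin_two, Matrix.SpecialLinearGroup.coe_one, Matrix.one_fin_two]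
      simp
      linear_combination h 0 1 * P.three_eq
    obtain ⟨-, -, hc3, -⟩ := P.cN_spec
    exact orderOf_eq_one_iff.1 (Nat.eq_one_of_dvd_coprimes
      (Nat.prime_three.coprime_iff_not_dvd.2 hc3) (orderOf_dvd_of_pow_eq_one h3)
      (orderOf_dvd_of_pow_eq_one hc))
  · obtain ⟨⟨z, y'⟩, rfl⟩ := P.mem_cent_aT.1 hwa
    obtain ⟨h', rfl⟩ := Klein.mk_surjective y'
    refine ⟨z, h', rfl, ?_⟩
    rw [← map_mul, ← map_mul] at hwx
    have := congrArg Prod.snd (P.fΘ_injective hwx)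
    simp only [Prod.snd_mul] at this
    rw [← map_mul, ← map_mul, Klein.mk_eq] at this
    rcases this with e | e
    · exact e
    · exfalso
      have e2 : h' * h * h'⁻¹ = -h := by rw [e, neg_mul, mul_inv_cancel_right]
      have := congrArg (· ^ P.cN) e2
      simp only [conj_pow, hc, mul_one, mul_inv_cancel, Odd.neg_pow ⟨k, hk⟩] at this
      exact Klein.neg_one_ne P.two_ne this.symm

theorem cent_comm {x u w : ↥(twistedG2 K P.e)} (hxa : x * P.aT = P.aT * x) (hx : x ^ P.cN = 1)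
    (hx1 : x ≠ 1) (hu : u * x = x * u) (hua : u * P.aT = P.aT * u) (hw : w * x = x * w)
    (hwa : w * P.aT = P.aT * w) : u * w = w * u := by
  obtain ⟨h, -, -, h10, hC⟩ := P.cent_odd hxa hx hx1
  obtain ⟨z, g, rfl, hg⟩ := hC u hu hua
  obtain ⟨z', g', rfl, hg'⟩ := hC w hw hwa
  rw [← map_mul, ← map_mul, Prod.mk_mul_mk, Prod.mk_mul_mk, ← map_mul, ← map_mul,
    Klein.comm_of_comm h10 hg hg', mul_comm z z']

theorem cent_invol (hq : 4 < Nat.card K) {x u w w' : ↥(twistedG2 K P.e)} (hx : x ^ P.cN = 1)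
    (hx1 : x ≠ 1) (hu : u * u = 1) (hu1 : u ≠ 1) (hxu : x * u = u * x)
    (hw : w * x = x * w) (hwu : w * u = u * w) (hw' : w' * x = x * w') (hwu' : w' * u = u * w') :
    w * w' = w' * w := by
  obtain ⟨g, hg⟩ := P.invol_conj hq hu hu1
  set φ := MulAut.conj g⁻¹
  have hu' : φ u = P.aT := by
    show g⁻¹ * u * g⁻¹⁻¹ = _
    rw [← hg, show P.aT = P.eight baseEV from rfl]; group
  have := P.cent_comm (x := φ x) (u := φ w) (w := φ w')
    (by rw [← hu', ← map_mul, ← map_mul, hxu]) (by rw [← map_pow, hx, map_one])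
    (fun h => hx1 (φ.injective (h.trans (map_one φ).symm)))
    (by rw [← map_mul, ← map_mul, hw]) (by rw [← hu', ← map_mul, ← map_mul, hwu])
    (by rw [← map_mul, ← map_mul, hw']) (by rw [← hu', ← map_mul, ← map_mul, hwu'])
  rw [← map_mul, ← map_mul] at this
  exact φ.injective this

theorem cent_aT_eq {x : ↥(twistedG2 K P.e)} (hx : x ∈ P.A2) (hx1 : x ≠ 1)
    {w : ↥(twistedG2 K P.e)} (hw : w * x = x * w) (hwa : w * P.aT = P.aT * w) : w ∈ P.C2 := by
  obtain ⟨h, eh, -, h10, hC⟩ := P.cent_odd (P.C2_comm hx.1 P.aT_mem) hx.2 hx1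
  obtain ⟨z, h', rfl, e⟩ := hC w hw hwa
  obtain ⟨⟨z0, g⟩, eg⟩ := hx.1
  rw [eh, ee_apply] at eg
  have hm := congrArg Prod.snd (P.fΘ_injective eg)
  have hC1 : h ∈ Klein.C1 (K := K) := by
    rcases Klein.mk_eq.1 hm with e' | e'
    · rw [← e']; exact g.2
    · rw [show h = -1 * (g : Matrix.SpecialLinearGroup (Fin 2) K) by rw [e']; simp]
      exact mul_mem Klein.neg_one_mem_C1 g.2
  have hcomm : Klein.wM * h = h * Klein.wM :=
    (Subgroup.mem_centralizer_singleton_iff.1 hC1).symm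
  refine ⟨(z, ⟨h', Subgroup.mem_centralizer_singleton_iff.2
    (Klein.comm_of_comm h10 e hcomm)⟩), rfl⟩

theorem aT_sq : P.aT * P.aT = 1 := by
  rw [aT, ← map_mul, baseEV_spec.1, map_one]

theorem aT_ne : P.aT ≠ 1 := fun h => baseEV_spec.2 (P.eight_injective (h.trans (map_one _).symm))

theorem vT_sq : P.vT * P.vT = 1 := by
  rw [vT, ← map_mul, show ((1, (Multiplicative.ofAdd 1, 1)) : EV) * (1, (Multiplicative.ofAdd 1, 1))
    = 1 by decide, map_one]

theorem vT_ne : P.vT ≠ 1 ∧ P.vT ≠ P.aT ∧ P.aT * P.vT ≠ 1 := by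
  refine ⟨fun h => absurd (P.eight_injective (h.trans (map_one _).symm)) (by decide),
    fun h => absurd (P.eight_injective h) (by decide), fun h => ?_⟩
  rw [aT, vT, ← map_mul] at h
  exact absurd (P.eight_injective (h.trans (map_one _).symm)) (by decide)

/-- The four-group. -/
noncomputable def VT : Subgroup ↥(twistedG2 K P.e) where
  carrier := {w | w ∈ P.C2 ∧ w * w = 1}
  one_mem' := ⟨one_mem _, one_mul 1⟩
  mul_mem' := fun {a b} ha hb => ⟨mul_mem ha.1 hb.1, by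
    rw [← pow_two, Commute.mul_pow (P.C2_comm ha.1 hb.1), pow_two, pow_two, ha.2, hb.2, one_mul]⟩
  inv_mem' := fun {a} ha => ⟨inv_mem ha.1, by rw [← mul_inv_rev, ha.2, inv_one]⟩

theorem VT_cases {w : ↥(twistedG2 K P.e)} (hw : w ∈ P.VT) :
    w = 1 ∨ w = P.aT ∨ w = P.vT ∨ w = P.aT * P.vT := P.C2_sq hw.1 hw.2

theorem aT_VT : P.aT ∈ P.VT := ⟨P.aT_mem, P.aT_sq⟩

theorem vT_VT : P.vT ∈ P.VT := ⟨P.vT_mem, P.vT_sq⟩

/-- An element normalising the four-group centralises one of its involutions or permutes them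
cyclically. -/
theorem VT_perm {n : ↥(twistedG2 K P.e)} (hn : n ∈ Subgroup.normalizer (P.VT : Set _)) :
    (∃ u ∈ P.VT, u ≠ 1 ∧ n * u = u * n) ∨ n ^ 3 * P.aT = P.aT * n ^ 3 := by
  by_contra hcon
  push Not at hcon
  obtain ⟨hcon, h3⟩ := hcon
  set a := P.aT with hadef
  set v := P.vT with hvdef
  set φ := MulAut.conj n with hφ
  obtain ⟨hv1, hva, hav⟩ := P.vT_ne
  have hab : a * v ∈ P.VT := mul_mem P.aT_VT P.vT_VT
  have hmem : ∀ u ∈ P.VT, φ u ∈ P.VT := fun u hu => (Subgroup.mem_normalizer_iff.1 hn u).1 hu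
  have hfix : ∀ u ∈ P.VT, u ≠ 1 → φ u ≠ u := fun u hu hu1 e =>
    hcon u hu hu1 (mul_inv_eq_iff_eq_mul.1 e)
  have hne1 : ∀ u : ↥(twistedG2 K P.e), u ≠ 1 → φ u ≠ 1 := fun u hu e =>
    hu (φ.injective (e.trans (map_one φ).symm))
  have hcyc : φ (φ (φ a)) = a → False := fun e => h3 (by
    have e' : n ^ 3 * a * (n ^ 3)⁻¹ = a := by
      rw [pow_three]
      simp only [hφ, MulAut.conj_apply] at e
      conv_rhs => rw [← e]
      group
    exact mul_inv_eq_iff_eq_mul.1 e')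
  have hvav : v * (a * v) = a := by
    rw [← mul_assoc, P.C2_comm P.vT_mem P.aT_mem, mul_assoc, P.vT_sq, mul_one]
  have haav : a * (a * v) = v := by rw [← mul_assoc, P.aT_sq, one_mul]
  rcases P.VT_cases (hmem a P.aT_VT) with e | e | e | e
  · exact hne1 a P.aT_ne e
  · exact hfix a P.aT_VT P.aT_ne e
  · rcases P.VT_cases (hmem v P.vT_VT) with e' | e' | e' | e'
    · exact hne1 v hv1 e'
    · refine hfix _ hab hav ?_
      rw [map_mul, e, e', P.C2_comm P.vT_mem P.aT_mem]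
    · exact hfix v P.vT_VT hv1 e'
    · refine hcyc ?_
      rw [e, e', map_mul, e, e', hvav]
  · rcases P.VT_cases (hmem v P.vT_VT) with e' | e' | e' | e'
    · exact hne1 v hv1 e'
    · refine hcyc ?_
      rw [e, map_mul, e, e', P.C2_comm (mul_mem P.aT_mem P.vT_mem) P.aT_mem, haav, e']
    · exact hfix v P.vT_VT hv1 e'
    · exact hva (φ.injective (e'.trans e.symm))

/-- The centraliser of a nontrivial element of the torus. -/
theorem centralizer_A2 (hq : 4 < Nat.card K) {x : ↥(twistedG2 K P.e)} (hx : x ∈ P.A2)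
    (hx1 : x ≠ 1) : Subgroup.centralizer {x} = P.C2 := by
  classical
  haveI : Finite ↥(twistedG2 K P.e) := Subtype.finite
  haveI : Fact (Nat.Prime 2) := ⟨Nat.prime_two⟩
  obtain ⟨h4, hodd, h3c, -⟩ := P.cN_spec
  set W := Subgroup.centralizer {x} with hW
  have hmW : ∀ w, w ∈ W ↔ w * x = x * w := fun w => Subgroup.mem_centralizer_singleton_iff
  have hC2W : P.C2 ≤ W := fun w hw => (hmW w).2 (P.C2_comm hw hx.1)
  refine le_antisymm ?_ hC2W
  have hVW : P.VT ≤ W := fun w hw => hC2W hw.1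
  have hV2 : IsPGroup 2 ↥(P.VT.subgroupOf W) := fun w =>
    ⟨1, Subtype.ext (Subtype.ext (by rw [pow_one, pow_two]; exact w.2.2))⟩
  obtain ⟨S, hS⟩ := hV2.exists_le_sylow
  have hSV : (S : Subgroup ↥W) = P.VT.subgroupOf W := by
    refine le_antisymm (fun w hw => ?_) hS
    obtain ⟨S', hS'⟩ := (S.isPGroup'.map W.subtype).exists_le_sylow
    obtain ⟨-, hsq⟩ := P.sylow_two S'
    have hwS : (w : ↥(twistedG2 K P.e)) ∈ S' := hS' ⟨w, hw, rfl⟩
    have haS : P.aT ∈ S' := hS' ⟨⟨P.aT, hVW P.aT_VT⟩, hS P.aT_VT, rfl⟩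
    have hcomm : (w : ↥(twistedG2 K P.e)) * P.aT = P.aT * w := by
      calc (w : ↥(twistedG2 K P.e)) * P.aT = ((w : ↥(twistedG2 K P.e)) * P.aT)⁻¹ :=
            (inv_eq_of_mul_eq_one_right (hsq _ (mul_mem hwS haS))).symm
        _ = P.aT⁻¹ * (w : ↥(twistedG2 K P.e))⁻¹ := mul_inv_rev _ _
        _ = _ := by rw [inv_eq_of_mul_eq_one_right (hsq _ hwS),
            inv_eq_of_mul_eq_one_right P.aT_sq]
    exact ⟨P.cent_aT_eq hx hx1 ((hmW _).1 w.2) hcomm, hsq _ hwS⟩
  have hNC : Subgroup.normalizer ((S : Subgroup ↥W) : Set ↥W) ≤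
      Subgroup.centralizer ((S : Subgroup ↥W) : Set ↥W) := by
    rintro ⟨n, hnW⟩ hn
    rw [hSV] at hn ⊢
    have hn' : n ∈ Subgroup.normalizer (P.VT : Set ↥(twistedG2 K P.e)) := by
      rw [Subgroup.mem_normalizer_iff]
      intro u
      constructor
      · intro hu
        exact (Subgroup.mem_normalizer_iff.1 hn ⟨u, hVW hu⟩).1 hu
      · intro hu
        have hu' : u ∈ W := by
          have h := mul_mem (mul_mem (inv_mem hnW) (hVW hu)) hnW
          rwa [show n⁻¹ * (n * u * n⁻¹) * n = u by group] at h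
        exact (Subgroup.mem_normalizer_iff.1 hn ⟨u, hu'⟩).2 hu
    have key : ∀ u ∈ P.VT, u ≠ 1 → n * u = u * n → ∀ w ∈ P.VT, n * w = w * n := by
      intro u hu hu1 hnu w hw
      exact P.cent_invol hq hx.2 hx1 hu.2 hu1 (P.C2_comm hx.1 hu.1) ((hmW n).1 hnW) hnu
        ((hmW w).1 (hVW hw)) (P.C2_comm hw.1 hu.1)
    rw [Subgroup.mem_centralizer_iff]
    intro w hw
    refine Subtype.ext (Eq.symm ?_)
    rcases P.VT_perm hn' with ⟨u, hu, hu1, hnu⟩ | h3
    · exact key u hu hu1 hnu _ hw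
    by_cases hna : n * P.aT = P.aT * n
    · exact key _ P.aT_VT P.aT_ne hna _ hw
    exfalso
    -- an element of order three centralising `x`
    have hn3 : n ^ 3 ∈ P.C2 := P.cent_aT_eq hx hx1
      ((show Commute n x from (hmW n).1 hnW).pow_left 3).eq h3
    have hn3q : (n ^ (Nat.card K + 1)) ^ 3 = 1 := by
      rw [← pow_mul, mul_comm, pow_mul, ← P.card_C2]
      exact congrArg Subtype.val (pow_card_eq_one' (x := (⟨n ^ 3, hn3⟩ : ↥P.C2)))
    have hne : n ^ (Nat.card K + 1) ≠ 1 := by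
      intro e
      have hcop : Nat.Coprime 3 (Nat.card K + 1) := by
        rw [h4]
        exact Nat.Coprime.mul_right (by norm_num) (Nat.prime_three.coprime_iff_not_dvd.2 h3c)
      obtain ⟨j, hj⟩ := exists_pow_eq_self_of_coprime (x := n)
        (hcop.coprime_dvd_right (orderOf_dvd_of_pow_eq_one e))
      refine hna ?_
      rw [← hj]
      exact ((show Commute (n ^ 3) P.aT from h3).pow_left j).eq
    have h := P.three_cent (g := x) hn3q hne
      ((show Commute n x from (hmW n).1 hnW).pow_left _).symm.eq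
    exact hx1 (orderOf_eq_one_iff.1 (Nat.eq_one_of_dvd_coprimes
      (Nat.Coprime.mul_right P.coprime_cN.1 P.coprime_cN.2) (orderOf_dvd_of_pow_eq_one hx.2)
      (orderOf_dvd_of_pow_eq_one h)))
  have hcompl := MonoidHom.ker_transferSylow_isComplement' S hNC
  have hodd2 := MonoidHom.not_dvd_card_ker_transferSylow S hNC
  set M := (MonoidHom.transferSylow S hNC).ker with hM
  have hMC : M.map W.subtype ≤ P.C2 := by
    haveI : IsMulCommutative ↥P.VT :=
      ⟨⟨fun a b => Subtype.ext (P.C2_comm a.2.1 b.2.1)⟩⟩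
    have hnc : ¬ IsCyclic ↥P.VT := by
      intro hc
      obtain ⟨⟨g, hg⟩, hgen⟩ := hc.exists_generator
      have hsub : ∀ w ∈ P.VT, w = 1 ∨ w = g := by
        intro w hw
        obtain ⟨k, hk⟩ := hgen ⟨w, hw⟩
        have hk' : g ^ k = w := congrArg Subtype.val hk
        rcases Int.even_or_odd k with ⟨j, hj⟩ | ⟨j, hj⟩
        · exact Or.inl (by rw [← hk', hj, zpow_add, ← (Commute.refl g).mul_zpow, hg.2, one_zpow])
        · exact Or.inr (by
            rw [← hk', hj, zpow_add, zpow_one, two_mul, zpow_add, ← (Commute.refl g).mul_zpow,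
              hg.2, one_zpow, one_mul])
      obtain ⟨hv1, hva, -⟩ := P.vT_ne
      exact hva (((hsub _ P.vT_VT).resolve_left hv1).trans
        ((hsub _ P.aT_VT).resolve_left P.aT_ne).symm)
    refine Coprime.le_of_centralizer_noncyclic_le hnc ?_ ?_ ?_
    · intro v hv
      have hMn : M.Normal := MonoidHom.normal_ker (MonoidHom.transferSylow S hNC)
      have key : ∀ g : ↥W, ∀ y ∈ M.map W.subtype,
          (g : ↥(twistedG2 K P.e)) * y * (g : ↥(twistedG2 K P.e))⁻¹ ∈ M.map W.subtype := by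
        rintro g _ ⟨w, hw, rfl⟩
        refine ⟨g * w * g⁻¹, hMn.conj_mem w hw g, ?_⟩
        rw [map_mul, map_mul, map_inv, Subgroup.subtype_apply]
      rw [Subgroup.mem_normalizer_iff]
      intro u
      refine ⟨key ⟨v, hVW hv⟩ u, fun h => ?_⟩
      have h' := key ⟨v⁻¹, inv_mem (hVW hv)⟩ _ h
      rwa [show v⁻¹ * (v * u * v⁻¹) * v⁻¹⁻¹ = u by group] at h'
    · have h1 : Nat.card ↥P.VT ∣ 8 := by
        obtain ⟨S', hS'⟩ := (IsPGroup.exists_le_sylow (p := 2) (P := P.VT) fun w =>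
          ⟨1, Subtype.ext (by rw [pow_one, pow_two]; exact w.2.2)⟩)
        exact (P.sylow_two S').1 ▸ Subgroup.card_dvd_of_le hS'
      refine Nat.Coprime.coprime_dvd_left h1 ?_
      rw [← Nat.card_congr (M.equivMapOfInjective _ W.subtype_injective).toEquiv]
      exact Nat.Coprime.pow_left 3 ((Nat.prime_two.coprime_iff_not_dvd).2 hodd2)
    · rintro u hu hu1 w ⟨⟨w', -, rfl⟩, hwu⟩
      refine P.cent_aT_eq hx hx1 ((hmW _).1 w'.2) ?_
      exact P.cent_invol hq hx.2 hx1 hu.2 hu1 (P.C2_comm hx.1 hu.1) ((hmW _).1 w'.2)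
        (Subgroup.mem_centralizer_singleton_iff.1 hwu) ((hmW _).1 (hVW P.aT_VT))
        (P.C2_comm P.aT_mem hu.1)
  intro w hw
  obtain ⟨⟨⟨m, hm⟩, ⟨s, hs⟩⟩, e⟩ := hcompl.2 ⟨w, hw⟩
  rw [hSV] at hs
  have : (m : ↥(twistedG2 K P.e)) * (s : ↥(twistedG2 K P.e)) = w := congrArg Subtype.val e
  rw [← this]
  exact mul_mem (hMC ⟨m, hm, rfl⟩) hs.1

end Par

end Cfsg.Agent.H38.Ree
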