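import Cfsg.Agent.H38.Ree.Nonsplit

/-!
`²G₂(q)`: the normaliser of the torus of order `(q + 1) / 4`.
-/
set_option autoImplicit false
set_option maxRecDepth 100000

namespace Cfsg.Agent.H38.Ree

open Cfsg.Lie Cfsg.Agent.H37.RootSys Cfsg.Agent.H37.Twist

theorem conj_C1 {K : Type*} [Field K] {g h : Matrix.SpecialLinearGroup (Fin 2) K}
    (hg : g ∈ Klein.C1 (K := K))
    (hh : Klein.mk h * Klein.mk Klein.wM = Klein.mk Klein.wM * Klein.mk h) :
    h * g * h⁻¹ ∈ Klein.C1 (K := K) := by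
  have hg' : g * Klein.wM = Klein.wM * g := Subgroup.mem_centralizer_singleton_iff.1 hg
  rw [Klein.C1, Subgroup.mem_centralizer_singleton_iff]
  rw [← map_mul, ← map_mul, Klein.mk_eq] at hh
  rcases hh with e | e
  · have e2 : Klein.wM = h * Klein.wM * h⁻¹ := by rw [e, mul_inv_cancel_right]
    conv_lhs => rw [e2]
    conv_rhs => rw [e2]
    calc h * g * h⁻¹ * (h * Klein.wM * h⁻¹) = h * (g * Klein.wM) * h⁻¹ := by group
      _ = h * (Klein.wM * g) * h⁻¹ := by rw [hg']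
      _ = _ := by group
  · have e2 : Klein.wM = -(h * Klein.wM * h⁻¹) := by
      rw [e, neg_mul, neg_neg, mul_inv_cancel_right]
    conv_lhs => rw [e2]
    conv_rhs => rw [e2]
    rw [mul_neg, neg_mul]
    congr 1
    calc h * g * h⁻¹ * (h * Klein.wM * h⁻¹) = h * (g * Klein.wM) * h⁻¹ := by group
      _ = h * (Klein.wM * g) * h⁻¹ := by rw [hg']
      _ = _ := by group

namespace Par

variable {K : Type*} [Field K] [Fintype K] (P : Par K)
include P

/-- The centraliser of the four-group. -/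
def InD (n : ↥(twistedG2 K P.e)) : Prop := n * P.aT = P.aT * n ∧ n * P.vT = P.vT * n

theorem InD_conj_C2 {d w : ↥(twistedG2 K P.e)} (hd : P.InD d) (hw : w ∈ P.C2) :
    d * w * d⁻¹ ∈ P.C2 := by
  obtain ⟨⟨z, y⟩, rfl⟩ := P.mem_cent_aT.1 hd.1
  obtain ⟨h, rfl⟩ := Klein.mk_surjective y
  obtain ⟨⟨z', g⟩, rfl⟩ := hw
  have h2 := hd.2
  rw [vT_eq, ← map_mul, ← map_mul] at h2
  have h3 := congrArg Prod.snd (P.fΘ_injective h2)
  refine ⟨(z', ⟨h * g * h⁻¹, conj_C1 g.2 h3⟩), ?_⟩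
  rw [ee_apply, ee_apply, ← map_inv P.fΘ, ← map_mul P.fΘ, ← map_mul P.fΘ, map_mul Klein.mk,
    map_mul Klein.mk, map_inv]
  refine congrArg P.fΘ ?_
  rw [Prod.inv_mk, Prod.mk_mul_mk, Prod.mk_mul_mk, mul_comm z, mul_inv_cancel_right]

/-- Elements of odd order centralising the four-group lie in the torus. -/
theorem InD_odd {w : ↥(twistedG2 K P.e)} (hw : P.InD w) (hc : w ^ P.cN = 1) : w ∈ P.A2 := by
  refine ⟨?_, hc⟩
  by_cases hw1 : w = 1
  · rw [hw1]; exact one_mem _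
  obtain ⟨h, eh, hh, -, -⟩ := P.cent_odd hw.1 hc hw1
  obtain ⟨k, hk⟩ := P.cN_spec.2.1
  have h2 := hw.2
  rw [eh, vT_eq, ← map_mul, ← map_mul] at h2
  have h3 := congrArg Prod.snd (P.fΘ_injective h2)
  have hsq : (h * h) * Klein.wM = Klein.wM * (h * h) := by
    simp only [Prod.snd_mul] at h3
    rw [← map_mul, ← map_mul, Klein.mk_eq] at h3
    rcases h3 with e | e
    · rw [mul_assoc, e, ← mul_assoc, e, mul_assoc]
    · rw [mul_assoc, e, mul_neg, ← mul_assoc, e, neg_mul, neg_neg, mul_assoc]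
  have hpow : (h * h) ^ (k + 1) = h := by
    rw [← pow_two, ← pow_mul, show 2 * (k + 1) = P.cN + 1 by omega, pow_succ, hh, one_mul]
  have hmem : h ∈ Klein.C1 (K := K) :=
    hpow ▸ pow_mem (Subgroup.mem_centralizer_singleton_iff.2 hsq) (k + 1)
  exact ⟨(1, ⟨h, hmem⟩), by rw [ee_apply, eh]⟩

theorem VT_conj_InD {n : ↥(twistedG2 K P.e)} (hn : ∀ u ∈ P.VT, n * u * n⁻¹ ∈ P.VT)
    {d : ↥(twistedG2 K P.e)} (hd : P.InD d) : P.InD (n * d * n⁻¹) := by
  haveI : Finite ↥(twistedG2 K P.e) := Subtype.finite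
  have hall : ∀ u ∈ P.VT, d * u = u * d := by
    intro u hu
    rcases P.VT_cases hu with rfl | rfl | rfl | rfl
    · rw [mul_one, one_mul]
    · exact hd.1
    · exact hd.2
    · exact ((show Commute d P.aT from hd.1).mul_right (show Commute d P.vT from hd.2)).eq
  have hsurj : ∀ u ∈ P.VT, ∃ u' ∈ P.VT, n * u' * n⁻¹ = u := by
    intro u hu
    let f : ↥P.VT → ↥P.VT := fun x => ⟨n * x * n⁻¹, hn x x.2⟩
    have hf : Function.Injective f := fun x y h =>
      Subtype.ext (mul_left_cancel (mul_right_cancel (congrArg Subtype.val h)))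
    obtain ⟨x, hx⟩ := (Finite.injective_iff_surjective.1 hf) ⟨u, hu⟩
    exact ⟨x, x.2, congrArg Subtype.val hx⟩
  have key : ∀ u ∈ P.VT, n * d * n⁻¹ * u = u * (n * d * n⁻¹) := by
    intro u hu
    obtain ⟨u', hu', rfl⟩ := hsurj u hu
    calc n * d * n⁻¹ * (n * u' * n⁻¹) = n * (d * u') * n⁻¹ := by group
      _ = n * (u' * d) * n⁻¹ := by rw [hall u' hu']
      _ = _ := by group
  exact ⟨key _ P.aT_VT, key _ P.vT_VT⟩

theorem C2_InD {w : ↥(twistedG2 K P.e)} (hw : w ∈ P.C2) : P.InD w :=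
  ⟨P.C2_comm hw P.aT_mem, P.C2_comm hw P.vT_mem⟩

theorem mem_normalizer_of_VT {n : ↥(twistedG2 K P.e)} (hn : ∀ u ∈ P.VT, n * u * n⁻¹ ∈ P.VT) :
    n ∈ Subgroup.normalizer (P.A2 : Set ↥(twistedG2 K P.e)) := by
  haveI : Finite ↥(twistedG2 K P.e) := Subtype.finite
  refine Subgroup.mem_normalizer_iff.2 fun w => ?_
  have key : ∀ w ∈ P.A2, n * w * n⁻¹ ∈ P.A2 := fun w hw =>
    P.InD_odd (P.VT_conj_InD hn (P.C2_InD hw.1)) (by rw [conj_pow, hw.2, mul_one, mul_inv_cancel])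
  refine ⟨key w, fun hw => ?_⟩
  let f : ↥P.A2 → ↥P.A2 := fun x => ⟨n * x * n⁻¹, key x x.2⟩
  have hf : Function.Injective f := fun x y h =>
    Subtype.ext (mul_left_cancel (mul_right_cancel (congrArg Subtype.val h)))
  obtain ⟨x, hx⟩ := (Finite.injective_iff_surjective.1 hf) ⟨_, hw⟩
  have : (x : ↥(twistedG2 K P.e)) = w :=
    mul_left_cancel (mul_right_cancel (congrArg Subtype.val hx))
  exact this ▸ x.2

theorem A2_ne_bot (hq : 4 < Nat.card K) : P.A2 ≠ ⊥ := fun h => by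
  have h1 := P.A2_aux.2
  have := P.cN_spec.2.2.2 hq
  rw [h, Subgroup.card_bot] at h1
  omega

theorem normalizer_conj_C2 (hq : 4 < Nat.card K) {B : Subgroup ↥(twistedG2 K P.e)}
    (hB : B ≤ P.A2) (hB1 : B ≠ ⊥) {n : ↥(twistedG2 K P.e)}
    (hn : n ∈ Subgroup.normalizer (B : Set ↥(twistedG2 K P.e))) {w : ↥(twistedG2 K P.e)}
    (hw : w ∈ P.C2) : n * w * n⁻¹ ∈ P.C2 := by
  obtain ⟨b, hb, hb1⟩ : ∃ b ∈ B, b ≠ 1 := by
    by_contra h
    push Not at h
    exact hB1 ((Subgroup.eq_bot_iff_forall B).2 h)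
  have hb' := (Subgroup.mem_normalizer_iff.1 hn b).1 hb
  rw [← P.centralizer_A2 hq (hB hb') (fun h => hb1 (by rwa [mul_inv_eq_one, mul_eq_left] at h)),
    Subgroup.mem_centralizer_singleton_iff,
    show n * w * n⁻¹ * (n * b * n⁻¹) = n * (w * b) * n⁻¹ by group,
    P.C2_comm hw (hB hb).1]
  group

theorem normalizer_le_VT (hq : 4 < Nat.card K) {B : Subgroup ↥(twistedG2 K P.e)}
    (hB : B ≤ P.A2) (hB1 : B ≠ ⊥) {n : ↥(twistedG2 K P.e)}
    (hn : n ∈ Subgroup.normalizer (B : Set ↥(twistedG2 K P.e))) :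
    ∀ u ∈ P.VT, n * u * n⁻¹ ∈ P.VT := fun u hu =>
  ⟨P.normalizer_conj_C2 hq hB hB1 hn hu.1, by
    rw [show n * u * n⁻¹ * (n * u * n⁻¹) = n * (u * u) * n⁻¹ by group, hu.2, mul_one,
      mul_inv_cancel]⟩

theorem normalizer_eq_A2 (hq : 4 < Nat.card K) {B : Subgroup ↥(twistedG2 K P.e)}
    (hB : B ≤ P.A2) (hB1 : B ≠ ⊥) :
    Subgroup.normalizer (B : Set ↥(twistedG2 K P.e))
      = Subgroup.normalizer (P.A2 : Set ↥(twistedG2 K P.e)) := by
  haveI : Finite ↥(twistedG2 K P.e) := Subtype.finite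
  exact le_antisymm (fun n hn => P.mem_normalizer_of_VT (P.normalizer_le_VT hq hB hB1 hn))
    (normalizer_le_of_cyclic P.A2_aux.1 hB)

theorem normalizer_stab (hq : 4 < Nat.card K) {n : ↥(twistedG2 K P.e)}
    (hn : n ∈ Subgroup.normalizer (P.A2 : Set ↥(twistedG2 K P.e)))
    (ha : n * P.aT = P.aT * n) : P.InD n := by
  refine ⟨ha, ?_⟩
  obtain ⟨⟨z, y⟩, rfl⟩ := P.mem_cent_aT.1 ha
  have hv := P.normalizer_le_VT hq le_rfl (P.A2_ne_bot hq) hn _ P.vT_VT
  have e : P.fΘ (z, y) * P.vT * (P.fΘ (z, y))⁻¹ = P.fΘ (1, y * Klein.mk Klein.wM * y⁻¹) := by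
    rw [vT_eq, ← map_inv, ← map_mul, ← map_mul]
    exact congrArg _ (Prod.ext (by simp) rfl)
  rw [e] at hv
  have hy : y * Klein.mk Klein.wM * y⁻¹ = Klein.mk Klein.wM := by
    rcases P.VT_cases hv with h | h | h | h
    · have := congrArg Prod.snd (P.fΘ_injective (h.trans (map_one _).symm))
      simp only [Prod.snd_one, mul_inv_eq_one, mul_eq_left] at this
      exact absurd this (Klein.wM_ne P.two_ne)
    · rw [aT_eq] at h
      have := congrArg Prod.fst (P.fΘ_injective h)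
      exact absurd (show (1 : Multiplicative (ZMod 2)) = Multiplicative.ofAdd 1 from this) (by decide)
    · rw [vT_eq] at h
      exact congrArg Prod.snd (P.fΘ_injective h)
    · rw [aT_eq, vT_eq, ← map_mul] at h
      have := congrArg Prod.fst (P.fΘ_injective h)
      exact absurd (show (1 : Multiplicative (ZMod 2)) = Multiplicative.ofAdd 1 * 1 from this)
        (by decide)
  rw [vT_eq, ← map_mul, ← map_mul]
  refine congrArg _ (Prod.ext (mul_comm _ _) ?_)
  exact mul_inv_eq_iff_eq_mul.1 hy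

/-- The symmetric element of `PSL₂` in the twisted group. -/
noncomputable def sT : ↥(twistedG2 K P.e) := P.eight (1, (1, Multiplicative.ofAdd 1))

theorem sT_eq : P.sT = P.fΘ (1, P.sK) := by
  show P.fΘ (1, P.V4 (1, Multiplicative.ofAdd 1)) = _
  rw [V4_apply, map_one, one_mul, twoHom_one]

theorem sT_InD : P.InD P.sT := by
  constructor
  · rw [sT, aT, ← map_mul, ← map_mul, mul_comm]
  · rw [sT, vT, ← map_mul, ← map_mul, mul_comm]

theorem sT_not_mem : P.sT ∉ P.C2 := by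
  intro h
  have h2 : P.sT * P.sT = 1 := by
    rw [sT, ← map_mul, show ((1, (1, Multiplicative.ofAdd 1)) : EV) *
      (1, (1, Multiplicative.ofAdd 1)) = 1 by decide, map_one]
  rcases P.C2_sq h h2 with e | e | e | e
  · exact absurd (P.eight_injective (e.trans (map_one _).symm)) (by decide)
  · exact absurd (P.eight_injective e) (by decide)
  · exact absurd (P.eight_injective e) (by decide)
  · rw [aT, vT, ← map_mul] at e
    exact absurd (P.eight_injective e) (by decide)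

theorem InD_cases {d : ↥(twistedG2 K P.e)} (hd : P.InD d) : d ∈ P.C2 ∨ d * P.sT ∈ P.C2 := by
  obtain ⟨⟨z, y⟩, rfl⟩ := P.mem_cent_aT.1 hd.1
  obtain ⟨h, rfl⟩ := Klein.mk_surjective y
  have h2 := hd.2
  rw [vT_eq, ← map_mul, ← map_mul] at h2
  have h3 := congrArg Prod.snd (P.fΘ_injective h2)
  simp only [Prod.snd_mul] at h3
  rw [← map_mul, ← map_mul, Klein.mk_eq] at h3
  rcases h3 with e | e
  · exact Or.inl ⟨(z, ⟨h, Subgroup.mem_centralizer_singleton_iff.2 e⟩), rfl⟩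
  · refine Or.inr ?_
    set s := Klein.sM _ _ P.exists_sum.choose_spec
    have hs : s * Klein.wM = -(Klein.wM * s) := by
      refine Subtype.ext ?_
      simp only [Matrix.SpecialLinearGroup.coe_mul, Matrix.SpecialLinearGroup.coe_neg, s,
        Klein.coe_wM, Klein.coe_sM, Matrix.mul_fin_two]
      ext i j
      fin_cases i <;> fin_cases j <;> simp
    refine ⟨(z, ⟨h * s, Subgroup.mem_centralizer_singleton_iff.2 ?_⟩), ?_⟩
    · rw [mul_assoc, hs, mul_neg, ← mul_assoc, e, neg_mul, neg_neg, mul_assoc]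
    · rw [sT_eq, ee_apply, ← map_mul]
      exact congrArg _ (Prod.ext (mul_one z).symm rfl)

theorem card_InD : Nat.card {d // P.InD d} = 2 * (Nat.card K + 1) := by
  haveI : Finite ↥(twistedG2 K P.e) := Subtype.finite
  have hs : P.sT * P.sT = 1 := by
    rw [sT, ← map_mul, show ((1, (1, Multiplicative.ofAdd 1)) : EV) *
      (1, (1, Multiplicative.ofAdd 1)) = 1 by decide, map_one]
  have hmul : ∀ w ∈ P.C2, P.InD (w * P.sT) := fun w hw => by
    have h1 := P.C2_InD hw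
    exact ⟨((show Commute w P.aT from h1.1).mul_left P.sT_InD.1).eq,
      ((show Commute w P.vT from h1.2).mul_left P.sT_InD.2).eq⟩
  rw [← P.card_C2, two_mul, ← Nat.card_sum]
  refine (Nat.card_eq_of_bijective (fun s : ↥P.C2 ⊕ ↥P.C2 => (Sum.elim
    (fun w : ↥P.C2 => (⟨w, P.C2_InD w.2⟩ : {d // P.InD d}))
    (fun w : ↥P.C2 => (⟨w * P.sT, hmul w w.2⟩ : {d // P.InD d})) s :
      {d // P.InD d})) ⟨?_, ?_⟩).symm
  · have hne : ∀ w w' : ↥P.C2, (w : ↥(twistedG2 K P.e)) ≠ w' * P.sT := fun w w' h =>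
      P.sT_not_mem (by
        have := mul_mem (inv_mem w'.2) w.2
        rwa [h, inv_mul_cancel_left] at this)
    rintro (w | w) (w' | w') h
    · exact congrArg Sum.inl (Subtype.ext (congrArg Subtype.val h :))
    · exact absurd (congrArg Subtype.val h :) (hne w w')
    · exact absurd (congrArg Subtype.val h :).symm (hne w' w)
    · exact congrArg Sum.inr (Subtype.ext (mul_right_cancel (congrArg Subtype.val h :)))
  · rintro ⟨d, hd⟩
    rcases P.InD_cases hd with h | h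
    · exact ⟨Sum.inl ⟨d, h⟩, rfl⟩
    · exact ⟨Sum.inr ⟨_, h⟩, Subtype.ext (by
        show d * P.sT * P.sT = d
        rw [mul_assoc, hs, mul_one])⟩

/-- An element cycling the involutions of the four-group. -/
theorem exists_cycle (hq : 4 < Nat.card K) : ∃ (m v' : ↥(twistedG2 K P.e)),
    (v' = P.vT ∨ v' = P.aT * P.vT) ∧ m * P.aT * m⁻¹ = v' ∧ m * v' * m⁻¹ = P.aT * v' ∧
      m * (P.aT * v') * m⁻¹ = P.aT := by
  obtain ⟨n0, hn0⟩ := P.exists_autHom hq (p := (1, (Multiplicative.ofAdd 1, 1))) (by decide)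
  set f := P.autHom
  set M0 := n0⁻¹ with hM0
  have hw0 : f M0 (1, (Multiplicative.ofAdd 1, 1)) = baseEV := by
    rw [← hn0, hM0, map_inv]
    exact (f n0).symm_apply_apply _
  have hp1 : (f M0 (1, (1, Multiplicative.ofAdd 1))).2 ≠ 1 := by
    intro h
    rcases base_snd _ h with e | e
    · exact absurd ((f M0).injective (e.trans (map_one (f M0)).symm)) (by decide)
    · exact absurd ((f M0).injective (e.trans hw0.symm)) (by decide)
  set R := (⟨P.rT, P.rT_mem⟩ : ↥(Subgroup.normalizer (P.eight.range : Set ↥(twistedG2 K P.e))))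
  have hR : ∀ p, f R p = cycleEV p := P.autHom_rT
  obtain ⟨M, hMw, hMs⟩ : ∃ M, f M (1, (Multiplicative.ofAdd 1, 1)) = baseEV ∧
      (f M (1, (1, Multiplicative.ofAdd 1))).2 = (Multiplicative.ofAdd 1, 1) := by
    rcases cycle_to_w _ hp1 with h | h | h
    · exact ⟨M0, hw0, h⟩
    · exact ⟨R * M0, by rw [map_mul, MulAut.mul_apply, hw0, hR, cycle_base],
        by rw [map_mul, MulAut.mul_apply, hR]; exact h⟩
    · exact ⟨R * (R * M0), by
        rw [map_mul, map_mul, MulAut.mul_apply, MulAut.mul_apply, hw0]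
        simp only [hR, cycle_base],
        by rw [map_mul, map_mul, MulAut.mul_apply, MulAut.mul_apply, hR, hR]; exact h⟩
  obtain ⟨c1, c2, c3, c4⟩ := cycle_w
  set g := f M
  set p' := g (1, (1, Multiplicative.ofAdd 1)) with hp'
  have hg3 : g (1, (Multiplicative.ofAdd 1, Multiplicative.ofAdd 1)) = baseEV * p' := by
    rw [c4, map_mul, hMw]
  set m := M * R * M⁻¹
  have hm : ∀ p, f m (g p) = g (cycleEV p) := fun p => by
    show f (M * R * M⁻¹) (f M p) = _
    rw [← MulAut.mul_apply, ← map_mul, inv_mul_cancel_right, map_mul, MulAut.mul_apply, hR]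
  have spec : ∀ p, (m : ↥(twistedG2 K P.e)) * P.eight p * (m : ↥(twistedG2 K P.e))⁻¹
      = P.eight (f m p) := fun p => (P.autHom_spec m p).symm
  refine ⟨(m : ↥(twistedG2 K P.e)), P.eight p', ?_, ?_, ?_, ?_⟩
  · rcases fst_cases p' hMs with e | e
    · exact Or.inl (by rw [e]; rfl)
    · exact Or.inr (by rw [e, map_mul]; rfl)
  · rw [aT, spec, ← hMw, hm, c1, hp']
  · rw [spec, hp', hm, c2, hg3, aT, map_mul]
  · rw [aT, ← map_mul, spec, ← hg3, hm, c3, hMw]

theorem card_normalizer_A2 (hq : 4 < Nat.card K) :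
    Nat.card ↥(Subgroup.normalizer (P.A2 : Set ↥(twistedG2 K P.e))) = 6 * (Nat.card K + 1) := by
  haveI : Finite ↥(twistedG2 K P.e) := Subtype.finite
  obtain ⟨m, v', hv', h1, h2, h3⟩ := P.exists_cycle hq
  have hv'V : v' ∈ P.VT := by
    rcases hv' with rfl | rfl
    · exact P.vT_VT
    · exact mul_mem P.aT_VT P.vT_VT
  have hall : ∀ u ∈ P.VT, u = 1 ∨ u = P.aT ∨ u = v' ∨ u = P.aT * v' := by
    intro u hu
    rcases hv' with rfl | rfl
    · exact P.VT_cases hu
    · have e : P.aT * (P.aT * P.vT) = P.vT := by rw [← mul_assoc, P.aT_sq, one_mul]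
      rw [e]
      rcases P.VT_cases hu with h | h | h | h
      · exact Or.inl h
      · exact Or.inr (Or.inl h)
      · exact Or.inr (Or.inr (Or.inr h))
      · exact Or.inr (Or.inr (Or.inl h))
  set NA := Subgroup.normalizer (P.A2 : Set ↥(twistedG2 K P.e))
  have hmN : m ∈ NA := P.mem_normalizer_of_VT fun u hu => by
    rcases hall u hu with rfl | rfl | rfl | rfl
    · rw [mul_one, mul_inv_cancel]; exact one_mem _
    · rw [h1]; exact hv'V
    · rw [h2]; exact mul_mem P.aT_VT hv'V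
    · rw [h3]; exact P.aT_VT
  have hDN : ∀ d, P.InD d → d ∈ NA := fun d hd => P.mem_normalizer_of_VT fun u hu =>
    ⟨P.InD_conj_C2 hd hu.1, by
      rw [show d * u * d⁻¹ * (d * u * d⁻¹) = d * (u * u) * d⁻¹ by group, hu.2, mul_one,
        mul_inv_cancel]⟩
  have hv'1 : v' ≠ 1 ∧ v' ≠ P.aT ∧ P.aT * v' ≠ 1 ∧ P.aT * v' ≠ P.aT ∧ v' ≠ P.aT * v' := by
    obtain ⟨a1, a2, a3⟩ := P.vT_ne
    have hne : v' ≠ 1 ∧ v' ≠ P.aT := by
      rcases hv' with rfl | rfl
      · exact ⟨a1, a2⟩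
      · exact ⟨a3, fun e => a1 (mul_eq_left.1 e)⟩
    refine ⟨hne.1, hne.2, fun e => hne.2 ?_, fun e => hne.1 (mul_eq_left.1 e),
      fun e => P.aT_ne (mul_eq_right.1 e.symm)⟩
    rw [← inv_eq_of_mul_eq_one_right e, inv_eq_of_mul_eq_one_right P.aT_sq]
  have himg : ∀ i : Fin 3, ∀ d, P.InD d →
      m ^ (i : ℕ) * d * P.aT * (m ^ (i : ℕ) * d)⁻¹
        = if (i : ℕ) = 0 then P.aT else if (i : ℕ) = 1 then v' else P.aT * v' := by
    intro i d hd
    rw [show m ^ (i : ℕ) * d * P.aT * (m ^ (i : ℕ) * d)⁻¹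
      = m ^ (i : ℕ) * (d * P.aT * d⁻¹) * (m ^ (i : ℕ))⁻¹ by group, hd.1, mul_inv_cancel_right]
    fin_cases i
    · simp
    · simp [h1]
    · simp only [pow_two]
      rw [show m * m * P.aT * (m * m)⁻¹ = m * (m * P.aT * m⁻¹) * m⁻¹ by group, h1, h2]
      simp
  refine Eq.trans ?_ (show Nat.card (Fin 3 × {d // P.InD d}) = 6 * (Nat.card K + 1) by
    rw [Nat.card_prod, card_InD, Nat.card_eq_fintype_card, Fintype.card_fin]; ring)
  refine (Nat.card_eq_of_bijective (fun p : Fin 3 × {d // P.InD d} =>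
    (⟨m ^ (p.1 : ℕ) * p.2.1, mul_mem (pow_mem hmN _) (hDN _ p.2.2)⟩ : ↥NA)) ⟨?_, ?_⟩).symm
  · rintro ⟨i, d⟩ ⟨j, d'⟩ h
    have h' : m ^ (i : ℕ) * d.1 = m ^ (j : ℕ) * d'.1 := congrArg Subtype.val h
    have e := himg i d.1 d.2
    rw [h', himg j d'.1 d'.2] at e
    obtain rfl : i = j := by
      obtain ⟨b1, b2, b3, b4, b5⟩ := hv'1
      fin_cases i <;> fin_cases j <;> first
        | rfl
        | exact absurd e b2 | exact absurd e.symm b2
        | exact absurd e b4 | exact absurd e.symm b4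
        | exact absurd e b5 | exact absurd e.symm b5
    exact Prod.ext rfl (Subtype.ext (mul_left_cancel h'))
  · rintro ⟨n, hn⟩
    obtain ⟨i, hi⟩ : ∃ i : Fin 3, n * P.aT * n⁻¹ = m ^ (i : ℕ) * P.aT * (m ^ (i : ℕ))⁻¹ := by
      have hone : P.InD 1 := P.C2_InD (one_mem _)
      have hI := fun i : Fin 3 => himg i 1 hone
      simp only [mul_one] at hI
      rcases hall _ (P.normalizer_le_VT hq le_rfl (P.A2_ne_bot hq) hn _ P.aT_VT) with e | e | e | e
      · rw [mul_inv_eq_one, mul_eq_left] at e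
        exact absurd e P.aT_ne
      · exact ⟨0, e.trans ((hI 0).trans (if_pos rfl)).symm⟩
      · exact ⟨1, e.trans ((hI 1).trans ((if_neg (by decide)).trans (if_pos rfl))).symm⟩
      · exact ⟨2, e.trans ((hI 2).trans ((if_neg (by decide)).trans (if_neg (by decide)))).symm⟩
    have hd : P.InD ((m ^ (i : ℕ))⁻¹ * n) := by
      refine P.normalizer_stab hq (mul_mem (inv_mem (pow_mem hmN _)) hn) ?_
      calc (m ^ (i : ℕ))⁻¹ * n * P.aT = (m ^ (i : ℕ))⁻¹ * (n * P.aT * n⁻¹) * n := by group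
        _ = _ := by rw [hi]; group
    exact ⟨(i, ⟨_, hd⟩), Subtype.ext (mul_inv_cancel_left _ _)⟩

end Par

end Cfsg.Agent.H38.Ree
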