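import Cfsg.Agent.H38.Ree.Unip

/-!
The automorphism `x_r(c) ↦ x_{-r}(-c)` of `G₂(K)`; generators of the twisted group.
-/
set_option autoImplicit false
set_option maxRecDepth 100000

namespace Cfsg.Agent.H38.Ree

open Cfsg.Lie Cfsg.Agent.H37.RootSys Cfsg.Agent.H37.Twist

/-- The permutation of the basis. -/
def opp : chevG2.Idx → chevG2.Idx :=
  Sum.map id fun s => ⟨11 - s.val, by show 11 - s.val < 12; omega⟩

theorem opp_opp : ∀ x, opp (opp x) = x := by decide +kernel

/-- `opp` as an equivalence. -/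
def oppEquiv : Equiv.Perm chevG2.Idx := ⟨opp, opp, opp_opp, opp_opp⟩

theorem aMat_opp : ∀ r : Fin 12, ∀ k : Fin 4, ∀ i j : chevG2.Idx,
    Chevalley.aMat chevG2 r.val k.val (opp i) (opp j)
      = (-1) ^ k.val * Chevalley.aMat chevG2 (11 - r.val) k.val i j := by
  decide +kernel

variable {K : Type*} [Field K]

theorem x_eq_xR {r : ℕ} (hr : r < 12) (t : K) :
    chevG2.x K r t = Chevalley.xR chevG2 K r t := by
  obtain ⟨-, -, -, -, hok, hne⟩ := H37.Isog.goodG2.root_spec (r := r) hr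
  exact hok.x_eq hr hne t

theorem x_submatrix {r : ℕ} (hr : r < 12) (t : K) :
    (chevG2.x K r t).submatrix opp opp = chevG2.x K (11 - r) (-t) := by
  rw [x_eq_xR hr, x_eq_xR (by omega)]
  ext i j
  simp only [Matrix.submatrix_apply, Chevalley.xR, Matrix.of_apply]
  refine Finset.sum_congr rfl fun k hk => ?_
  rw [show (Chevalley.aMat chevG2 r k (opp i) (opp j)) = (-1) ^ k *
    Chevalley.aMat chevG2 (11 - r) k i j from aMat_opp ⟨r, hr⟩ ⟨k, Finset.mem_range.1 hk⟩ i j,
    neg_pow t]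
  push_cast
  ring

variable (K) in
/-- Conjugation by the permutation. -/
def oppHom : GL chevG2.Idx K →* GL chevG2.Idx K :=
  Units.map
    { toFun := fun A => A.submatrix opp opp
      map_one' := Matrix.submatrix_one_equiv oppEquiv
      map_mul' := fun A B => (Matrix.submatrix_mul_equiv A B opp oppEquiv opp).symm }

theorem oppHom_xU {r : ℕ} (hr : r < 12) (t : K) :
    oppHom K ((Q K).K.xU K r t) = (Q K).K.xU K (11 - r) (-t) :=
  Units.ext (by
    show ((Q K).K.xU K r t : Matrix chevG2.Idx chevG2.Idx K).submatrix opp opp = _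
    rw [(Q K).K.coe_xU, (Q K).K.coe_xU, x_submatrix hr])

theorem oppHom_group : ∀ g ∈ chevG2.group K, oppHom K g ∈ chevG2.group K := by
  intro g hg
  have hle : chevG2.group K ≤ (chevG2.group K).comap (oppHom K) := by
    refine (Subgroup.closure_le _).2 ?_
    rintro g ⟨r, t, hg⟩
    show oppHom K g ∈ chevG2.group K
    rw [show g = (Q K).K.xU K r.val t from Units.ext (by
      rw [(Q K).K.coe_xU, H37.x_eq_xMat r.isLt t]; exact hg), oppHom_xU r.isLt]
    exact (Q K).K.xU_mem_group K _ _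
  exact hle hg

variable (K) in
/-- `x_r(c) ↦ x_{-r}(-c)` on the group. -/
def ψ : ↥(chevG2.group K) →* ↥(chevG2.group K) :=
  ((oppHom K).comp (chevG2.group K).subtype).codRestrict _ fun g => oppHom_group _ g.2

theorem ψ_xe {r : ℕ} (hr : r < 12) (t : K) : ψ K (xe r t) = xe (11 - r) (-t) :=
  Subtype.ext (oppHom_xU hr t)

theorem ψ_injective : Function.Injective (ψ K) := fun a b h => Subtype.ext (Units.ext (by
  have e := congrArg (fun g : ↥(chevG2.group K) =>
    ((g : GL chevG2.Idx K) : Matrix chevG2.Idx chevG2.Idx K)) h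
  have e' : (((a : GL chevG2.Idx K) : Matrix chevG2.Idx chevG2.Idx K)).submatrix opp opp
      = (((b : GL chevG2.Idx K) : Matrix chevG2.Idx chevG2.Idx K)).submatrix opp opp := e
  ext i j
  simpa [opp_opp] using congrFun (congrFun e' (opp i)) (opp j)))

theorem closure_xe : Subgroup.closure
    {g : ↥(chevG2.group K) | ∃ r t, r < 12 ∧ g = xe r t} = ⊤ := by
  rw [eq_top_iff]
  rintro ⟨g, hg⟩ -
  unfold ChevalleyDatum.group at hg
  induction hg using Subgroup.closure_induction with
  | mem g hg =>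
      obtain ⟨r, t, hg⟩ := hg
      refine Subgroup.subset_closure ⟨r.val, t, r.isLt, Subtype.ext (Units.ext ?_)⟩
      show (g : Matrix chevG2.Idx chevG2.Idx K) = ((Q K).K.xU K r.val t : Matrix _ _ K)
      rw [(Q K).K.coe_xU, H37.x_eq_xMat r.isLt t]
      exact hg
  | one => exact one_mem _
  | mul a b ha hb iha ihb => exact mul_mem iha ihb
  | inv a ha iha => exact inv_mem iha

theorem rho_opp : ∀ r, r < 12 → tables.rh (11 - r) = 11 - tables.rh r ∧ tables.rh r < 12 ∧
    H37.Isog.dataG2.lm (11 - r) = H37.Isog.dataG2.lm r := by decide +kernel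

namespace Par

variable [Fintype K] (P : Par K)
include P

theorem σ_ψ (g : ↥(chevG2.group K)) : P.endo.σ (ψ K g) = ψ K (P.endo.σ g) := by
  refine DFunLike.congr_fun (MonoidHom.eq_of_eqOn_dense closure_xe
    (f := P.endo.σ.comp (ψ K)) (g := (ψ K).comp P.endo.σ) ?_) g
  rintro _ ⟨r, t, hr, rfl⟩
  obtain ⟨h1, h2, h3⟩ := rho_opp r hr
  simp only [MonoidHom.comp_apply, ψ_xe hr]
  rw [P.σ_x hr, P.σ_x (show 11 - r < 12 by omega), ψ_xe h2, h1]
  congr 1
  rw [f, f, h3, P.odd.neg_pow, (lm_neg r hr).2.neg_pow]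

/-- The fixed elements of the negative unipotent group. -/
noncomputable def V1 (a c d : K) : ↥(chevG2.group K) := ψ K (P.U1 a c d)

theorem σ_V1 (a c d : K) : P.endo.σ (P.V1 a c d) = P.V1 a c d := by
  rw [V1, σ_ψ, σ_U1]

/-- The twisted group inside the Chevalley group. -/
abbrev TG : Subgroup ↥(chevG2.group K) := (twistedG2 K P.e).subgroupOf (chevG2.group K)

omit P in
theorem coe_prod (w : List (ℕ × K)) :
    (((w.map fun p => xe p.1 p.2).prod : ↥(chevG2.group K)) : GL chevG2.Idx K)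
      = (Q K).K.wU K w := by
  rw [Subgroup.val_list_prod, List.map_map]; rfl

theorem word_U (t u v : K) :
    ((reeWordU P.e t u v).map fun p => xe p.1 p.2).prod = P.U1 t (P.th u) (P.th v) := by
  simp only [reeWordU, g2a, g2b, g2ab, g2aab, g2aaab, g2aaabb, List.map_cons, List.map_nil,
    List.prod_cons, List.prod_nil, mul_one, ← mul_assoc]
  rw [x7_x6 P, mul8 P, mul9, mul10, mul11, U1, P.ti_th, P.ti_th]
  have e1 : P.ti t = P.th t ^ 3 := by rw [th, ti, ← pow_mul, mul_comm]
  rw [e1]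
  simp only [th]
  congr 1 <;> ring

theorem word_V (t u v : K) :
    ((reeWordV P.e t u v).map fun p => xe p.1 p.2).prod = P.V1 t (P.th u) (P.th v) := by
  rw [V1, ← word_U, map_list_prod, reeWordV, ChevalleyDatum.negWord, List.map_map, List.map_map]
  refine congrArg List.prod (List.map_congr_left fun p hp => ?_)
  have hr : p.1 < 12 := by
    simp only [reeWordU, g2a, g2b, g2ab, g2aab, g2aaab, g2aaabb, List.mem_cons,
      List.not_mem_nil, or_false] at hp
    rcases hp with rfl | rfl | rfl | rfl | rfl | rfl <;> omega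
  show xe (chevG2.negIdx.getD p.1 0) (-p.2) = ψ K (xe p.1 p.2)
  rw [ψ_xe hr]
  congr 1
  exact (show ∀ r, r < 12 → chevG2.negIdx.getD r 0 = 11 - r by decide +kernel) p.1 hr

theorem word_mem {w : List (ℕ × K)} (hw : w ∈ g2Words K P.e) :
    (w.map fun p => xe p.1 p.2).prod ∈ P.TG :=
  Subgroup.subset_closure ⟨w, hw,
    (congrArg Units.val (coe_prod w)).trans ((Q K).K.coe_wU K w)⟩

theorem U1_TG (a c d : K) : P.U1 a c d ∈ P.TG := by
  have := P.word_mem (w := reeWordU P.e a (P.ti c) (P.ti d)) ⟨_, _, _, Or.inl rfl⟩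
  rwa [word_U, P.th_ti, P.th_ti] at this

theorem V1_TG (a c d : K) : P.V1 a c d ∈ P.TG := by
  have := P.word_mem (w := reeWordV P.e a (P.ti c) (P.ti d)) ⟨_, _, _, Or.inr rfl⟩
  rwa [word_V, P.th_ti, P.th_ti] at this

theorem T_le : twistedG2 K P.e ≤ chevG2.group K := by
  refine (Subgroup.closure_le _).2 ?_
  rintro g ⟨w, -, hg⟩
  rw [show g = (Q K).K.wU K w from Units.ext (hg.trans ((Q K).K.coe_wU K w).symm)]
  exact (Q K).K.wU_mem K fun p _ => (Q K).K.xU_mem_group K p.1 p.2

theorem T_eq : twistedG2 K P.e = (Subgroup.closure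
    {g : ↥(chevG2.group K) | ∃ a c d, g = P.U1 a c d ∨ g = P.V1 a c d}).map
      (chevG2.group K).subtype := by
  refine le_antisymm ((Subgroup.closure_le _).2 ?_) ?_
  · rintro g ⟨w, ⟨t, u, v, hw⟩, hg⟩
    refine ⟨(w.map fun p : ℕ × K => xe p.1 p.2).prod, Subgroup.subset_closure ⟨t, P.th u, P.th v, ?_⟩,
      Units.ext ((congrArg Units.val (coe_prod w)).trans (((Q K).K.coe_wU K w).trans hg.symm))⟩
    rcases hw with rfl | rfl
    · exact Or.inl (P.word_U t u v)
    · exact Or.inr (P.word_V t u v)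
  · rw [Subgroup.map_le_iff_le_comap, Subgroup.closure_le]
    rintro g ⟨a, c, d, rfl | rfl⟩
    · exact P.U1_TG a c d
    · exact P.V1_TG a c d

theorem le_fixed (g : ↥(chevG2.group K)) (hg : (g : GL chevG2.Idx K) ∈ twistedG2 K P.e) :
    P.endo.σ g = g := by
  rw [P.T_eq] at hg
  obtain ⟨g', hg', e⟩ := hg
  rw [← Subtype.ext (a1 := g') (a2 := g) e]
  show g' ∈ H37.NormalForm.fixedPts P.endo.σ
  refine (Subgroup.closure_le _).2 ?_ hg'
  rintro x ⟨a, c, d, rfl | rfl⟩
  · exact P.σ_U1 a c d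
  · exact P.σ_V1 a c d

end Par

end Cfsg.Agent.H38.Ree
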