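import Mathlib

/-!
Elements of prime order `r` in `GL₇(q)` when `q` has order six modulo `r`.
-/
set_option autoImplicit false
set_option maxRecDepth 4000

namespace Cfsg.Agent.H38.Ree.Spectral

open Polynomial Matrix

variable {F : Type*} [Field F] [Fintype F] {r : ℕ} [hr : Fact r.Prime]

/-- Shorthand: the matrix over the algebraic closure. -/
noncomputable abbrev bar (M : Matrix (Fin 7) (Fin 7) F) :
    Matrix (Fin 7) (Fin 7) (AlgebraicClosure F) :=
  M.map (algebraMap F (AlgebraicClosure F))

theorem exists_primitive_root {M : Matrix (Fin 7) (Fin 7) F} (hM : M ^ r = 1) (hM1 : M ≠ 1)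
    (hrF : (r : F) ≠ 0) :
    ∃ μ : AlgebraicClosure F, IsPrimitiveRoot μ r ∧ μ ∈ (bar M).charpoly.roots := by
  by_contra hcon
  push Not at hcon
  haveI : NeZero ((r : ℕ) : AlgebraicClosure F) :=
    ⟨by rw [← map_natCast (algebraMap F (AlgebraicClosure F)), Ne, map_eq_zero]; exact hrF⟩
  have hne : M.charpoly ≠ 0 := (Matrix.charpoly_monic M).ne_zero
  have hcop : IsCoprime M.charpoly (cyclotomic r F) := by
    refine isCoprime_of_dvd _ _ (fun h => hne h.1) fun d hd hd0 hd1 hd2 => ?_
    obtain ⟨μ, hμ⟩ := IsAlgClosed.exists_root (d.map (algebraMap F (AlgebraicClosure F)))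
      (fun h => hd (Polynomial.isUnit_iff_degree_eq_zero.2 (by rwa [degree_map] at h)))
    have h1 : IsRoot (bar M).charpoly μ := by
      rw [bar, Matrix.charpoly_map]
      exact hμ.dvd (Polynomial.map_dvd _ hd1)
    have h2 : IsRoot (cyclotomic r (AlgebraicClosure F)) μ := by
      rw [← map_cyclotomic r (algebraMap F (AlgebraicClosure F))]
      exact hμ.dvd (Polynomial.map_dvd _ hd2)
    exact hcon μ (isRoot_cyclotomic_iff.1 h2)
      ((mem_roots (Matrix.charpoly_monic _).ne_zero).2 h1)
  obtain ⟨a, b, hab⟩ := hcop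
  have h1 : aeval M b * aeval M (cyclotomic r F) = 1 := by
    have h := congrArg (aeval M) hab
    rw [map_add, map_mul, map_mul, Matrix.aeval_self_charpoly, mul_zero, zero_add, map_one] at h
    exact h
  have h2 : aeval M (cyclotomic r F) * (M - 1) = 0 := by
    have h := congrArg (aeval M) (cyclotomic_prime_mul_X_sub_one F r)
    rw [map_mul, map_sub, map_sub, aeval_X, map_one, map_pow, aeval_X, hM, sub_self] at h
    exact h
  apply hM1
  rw [← sub_eq_zero]
  calc M - 1 = aeval M b * aeval M (cyclotomic r F) * (M - 1) := by rw [h1, one_mul]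
    _ = 0 := by rw [mul_assoc, h2, mul_zero]

omit hr in
/-- The roots of a characteristic polynomial over `F` are closed under Frobenius. -/
theorem root_frob {M : Matrix (Fin 7) (Fin 7) F} {x : AlgebraicClosure F}
    (hx : x ∈ (bar M).charpoly.roots) (n : ℕ) :
    x ^ Fintype.card F ^ n ∈ (bar M).charpoly.roots := by
  induction n with
  | zero => rwa [pow_zero, pow_one]
  | succ n ih =>
    rw [pow_succ, pow_mul]
    rw [mem_roots (Matrix.charpoly_monic _).ne_zero, bar, Matrix.charpoly_map, IsRoot,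
      eval_map_algebraMap] at ih ⊢
    have h := Polynomial.aeval_algHom_apply
      (FiniteField.frobeniusAlgHom F (AlgebraicClosure F)) (x ^ Fintype.card F ^ n) M.charpoly
    rw [ih, map_zero, FiniteField.coe_frobeniusAlgHom] at h
    exact h

omit [Fintype F] in
theorem primitive_pow_eq {μ : AlgebraicClosure F} (hμ : IsPrimitiveRoot μ r) {a b : ℕ}
    (h : μ ^ a = μ ^ b) : (a : ZMod r) = (b : ZMod r) := by
  have hfin : IsOfFinOrder μ := isOfFinOrder_iff_pow_eq_one.2 ⟨r, hr.out.pos, hμ.pow_eq_one⟩
  rw [hfin.pow_eq_pow_iff_modEq, ← hμ.eq_orderOf] at h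
  exact (ZMod.natCast_eq_natCast_iff _ _ _).2 h

variable (hd : orderOf (Fintype.card F : ZMod r) = 6)
include hd

theorem rF_ne : (r : F) ≠ 0 := by
  intro h
  obtain ⟨p, hp⟩ := CharP.exists F
  have hpr : p ∣ r := (CharP.cast_eq_zero_iff F p r).1 h
  have hpp : p.Prime := (CharP.char_is_prime_or_zero F p).resolve_right (CharP.char_ne_zero_of_finite F p)
  obtain rfl : p = r := (Nat.prime_dvd_prime_iff_eq hpp hr.out).1 hpr
  have : ((Fintype.card F : ℕ) : ZMod p) = 0 := by
    rw [ZMod.natCast_eq_zero_iff]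
    exact (CharP.cast_eq_zero_iff F p _).1 (FiniteField.cast_card_eq_zero F)
  rw [this, orderOf_zero] at hd
  omega

/-- The seven eigenvalues. -/
theorem roots_eq {M : Matrix (Fin 7) (Fin 7) F} (hM : M ^ r = 1) (hM1 : M ≠ 1) :
    ∃ μ : AlgebraicClosure F, IsPrimitiveRoot μ r ∧ (bar M).charpoly.roots.Nodup ∧
      ∀ x ∈ (bar M).charpoly.roots, x = 1 ∨ ∃ i : ℕ, x = μ ^ Fintype.card F ^ i := by
  classical
  obtain ⟨μ, hμ, hmem⟩ := exists_primitive_root hM hM1 (rF_ne hd)
  refine ⟨μ, hμ, ?_⟩
  set q := Fintype.card F with hq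
  have hfr : ∀ i, μ ^ q ^ i ∈ (bar M).charpoly.roots := root_frob hmem
  have hinj : Set.InjOn (fun i : ℕ => μ ^ q ^ i) (Finset.range 6 : Set ℕ) := by
    intro i hi j hj e
    rw [Finset.coe_range, Set.mem_Iio] at hi hj
    have e' := primitive_pow_eq hμ e
    rw [Nat.cast_pow, Nat.cast_pow] at e'
    exact pow_injOn_Iio_orderOf (by rw [Set.mem_Iio, hd]; exact hi)
      (by rw [Set.mem_Iio, hd]; exact hj) e'
  set six := (Finset.range 6).image (fun i : ℕ => μ ^ q ^ i) with hsix
  have hsixc : six.card = 6 := by rw [hsix, Finset.card_image_of_injOn hinj, Finset.card_range]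
  have hle : six.val ≤ (bar M).charpoly.roots := by
    rw [Multiset.le_iff_subset six.nodup]
    intro x hx
    obtain ⟨i, -, rfl⟩ := Finset.mem_image.1 (show x ∈ six from hx)
    exact hfr i
  have hcard : Multiset.card (bar M).charpoly.roots = 7 := by
    rw [IsAlgClosed.card_roots_eq_natDegree, Matrix.charpoly_natDegree_eq_dim, Fintype.card_fin]
  obtain ⟨rest, hrest⟩ := Multiset.le_iff_exists_add.1 hle
  have hr1 : Multiset.card rest = 1 := by
    have := congrArg Multiset.card hrest
    rw [hcard, Multiset.card_add] at this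
    have h6 : Multiset.card six.val = 6 := hsixc
    omega
  obtain ⟨ν, rfl⟩ := Multiset.card_eq_one.1 hr1
  have hν : ν = 1 := by
    have hdet := Matrix.det_eq_prod_roots_charpoly (bar M)
    rw [hrest, Multiset.prod_add, Multiset.prod_singleton,
      show bar M = (algebraMap F (AlgebraicClosure F)).mapMatrix M from rfl,
      ← RingHom.map_det] at hdet
    have hdet1 : M.det = 1 := by
      have h0 : M.det ^ r = 1 := by rw [← Matrix.det_pow, hM, Matrix.det_one]
      have hne : M.det ≠ 0 := fun h => by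
        rw [h, zero_pow hr.out.ne_zero] at h0
        exact zero_ne_one h0
      have hcop : Nat.Coprime r (q - 1) := by
        refine (hr.out.coprime_iff_not_dvd).2 fun hdv => ?_
        have h1 : ((q - 1 : ℕ) : ZMod r) = 0 := (ZMod.natCast_eq_zero_iff _ _).2 hdv
        rw [Nat.cast_sub (Nat.one_le_iff_ne_zero.2 Fintype.card_ne_zero), Nat.cast_one,
          sub_eq_zero] at h1
        rw [h1, orderOf_one] at hd
        omega
      exact orderOf_eq_one_iff.1 (Nat.eq_one_of_dvd_coprimes hcop (orderOf_dvd_of_pow_eq_one h0)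
        (orderOf_dvd_of_pow_eq_one (FiniteField.pow_card_sub_one_eq_one _ hne)))
    rw [hdet1, map_one] at hdet
    have hprod : six.val.prod = 1 := by
      have e : six.val.prod = ∏ x ∈ six, x := by
        rw [Finset.prod_eq_multiset_prod, Multiset.map_id']
      rw [e, hsix, Finset.prod_image hinj, Finset.prod_pow_eq_pow_sum, hμ.pow_eq_one_iff_dvd,
        ← ZMod.natCast_eq_zero_iff, Nat.cast_sum]
      simp only [Nat.cast_pow]
      have h6 : (q : ZMod r) ^ 6 = 1 := hd ▸ pow_orderOf_eq_one (q : ZMod r)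
      have h1 : (q : ZMod r) ≠ 1 := fun h => by
        rw [h, orderOf_one] at hd
        omega
      have hg := geom_sum_mul (q : ZMod r) 6
      rw [h6, sub_self] at hg
      exact (mul_eq_zero.1 hg).resolve_right (sub_ne_zero.2 h1)
    rw [hprod, one_mul] at hdet
    exact hdet.symm
  subst hν
  refine ⟨?_, ?_⟩
  · rw [hrest, Multiset.nodup_add]
    refine ⟨six.nodup, Multiset.nodup_singleton _, ?_⟩
    rw [Multiset.disjoint_singleton]
    intro h
    obtain ⟨i, -, e⟩ := Finset.mem_image.1 (show (1 : AlgebraicClosure F) ∈ six from h)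
    have h2 : r ∣ q ^ i := (hμ.pow_eq_one_iff_dvd _).1 e
    have h3 : ((q : ℕ) : ZMod r) = 0 :=
      (ZMod.natCast_eq_zero_iff _ _).2 (hr.out.dvd_of_dvd_pow h2)
    rw [h3, orderOf_zero] at hd
    omega
  · intro x hx
    rw [hrest, Multiset.mem_add, Multiset.mem_singleton] at hx
    rcases hx with h | h
    · obtain ⟨i, -, e⟩ := Finset.mem_image.1 (show x ∈ six from h)
      exact Or.inr ⟨i, e.symm⟩
    · exact Or.inl h

/-- A conjugate power is a Galois power. -/
theorem conj_pow_six {M g : GL (Fin 7) F} (hM : M ^ r = 1) (hM1 : M ≠ 1) {k : ℕ}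
    (hk : g * M * g⁻¹ = M ^ k) : (k : ZMod r) ^ 6 = 1 := by
  classical
  set A : Matrix (Fin 7) (Fin 7) F := (M : Matrix (Fin 7) (Fin 7) F) with hA
  have hA1 : A ≠ 1 := fun h => hM1 (Units.ext h)
  have hAr : A ^ r = 1 := by rw [hA, ← Units.val_pow_eq_pow_val, hM, Units.val_one]
  obtain ⟨μ, hμ, -, hroots⟩ := roots_eq hd hAr hA1
  have hk' : (A ^ k).charpoly = A.charpoly := by
    rw [hA, ← Units.val_pow_eq_pow_val, ← hk, Units.val_mul, Units.val_mul, Matrix.coe_units_inv]
    exact Matrix.charpoly_units_conj g _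
  have hmem : μ ∈ (bar A).charpoly.roots := by
    obtain ⟨ν, hν, hν'⟩ := exists_primitive_root hAr hA1 (rF_ne hd)
    rcases hroots ν hν' with h | ⟨i, h⟩
    · exact absurd h (hν.ne_one hr.out.one_lt)
    · -- `μ` lies in the Frobenius orbit of `ν`
      have h2 := root_frob hν' (5 * i)
      rw [h, ← pow_mul, ← pow_add] at h2
      have e : μ ^ Fintype.card F ^ (i + 5 * i) = μ ^ 1 := by
        have hfin : IsOfFinOrder μ :=
          isOfFinOrder_iff_pow_eq_one.2 ⟨r, hr.out.pos, hμ.pow_eq_one⟩
        rw [hfin.pow_eq_pow_iff_modEq, ← hμ.eq_orderOf]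
        have h6 : ((Fintype.card F ^ (i + 5 * i) : ℕ) : ZMod r) = ((1 : ℕ) : ZMod r) := by
          rw [Nat.cast_pow, Nat.cast_one, show i + 5 * i = 6 * i by ring, pow_mul,
            show (Fintype.card F : ZMod r) ^ 6 = 1 from hd ▸ pow_orderOf_eq_one _, one_pow]
        exact (ZMod.natCast_eq_natCast_iff _ _ _).1 h6
      rwa [e, pow_one] at h2
  have hμk : μ ^ k ∈ (bar A).charpoly.roots := by
    rw [mem_roots (Matrix.charpoly_monic _).ne_zero, ← Matrix.mem_spectrum_iff_isRoot_charpoly]
      at hmem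
    have h := spectrum.pow_mem_pow _ k hmem
    rw [Matrix.mem_spectrum_iff_isRoot_charpoly,
      show bar A ^ k = bar (A ^ k) from
        (map_pow (algebraMap F (AlgebraicClosure F)).mapMatrix A k).symm,
      bar, Matrix.charpoly_map, hk', ← Matrix.charpoly_map] at h
    exact (mem_roots (Matrix.charpoly_monic _).ne_zero).2 h
  rcases hroots _ hμk with h | ⟨i, h⟩
  · exfalso
    have hrk : r ∣ k := (hμ.pow_eq_one_iff_dvd k).1 h
    have hMk : M ^ k = 1 := orderOf_dvd_iff_pow_eq_one.1
      ((orderOf_dvd_of_pow_eq_one hM).trans hrk)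
    rw [hMk, mul_inv_eq_one, mul_eq_left] at hk
    exact hM1 hk
  · have h := primitive_pow_eq hμ h
    rw [Nat.cast_pow] at h
    rw [h, ← pow_mul, mul_comm, pow_mul, show (Fintype.card F : ZMod r) ^ 6 = 1 from
      hd ▸ pow_orderOf_eq_one _, one_pow]

/-- The centraliser is commutative. -/
theorem commute_of_commute {M A B : GL (Fin 7) F} (hM : M ^ r = 1) (hM1 : M ≠ 1)
    (hA : A * M = M * A) (hB : B * M = M * B) : A * B = B * A := by
  classical
  set X : Matrix (Fin 7) (Fin 7) F := (M : Matrix (Fin 7) (Fin 7) F) with hX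
  obtain ⟨μ, -, hnd, -⟩ := roots_eq hd (M := X)
    (by rw [hX, ← Units.val_pow_eq_pow_val, hM, Units.val_one]) (fun h => hM1 (Units.ext h))
  set S := (bar X).charpoly.roots.toFinset with hS
  have hScard : Fintype.card ↥S = 7 := by
    rw [Fintype.card_coe, hS, Multiset.toFinset_card_of_nodup hnd,
      IsAlgClosed.card_roots_eq_natDegree, Matrix.charpoly_natDegree_eq_dim, Fintype.card_fin]
  set f : Module.End (AlgebraicClosure F) (Fin 7 → AlgebraicClosure F) :=
    Matrix.toLin' (bar X) with hf
  have hev : ∀ s : ↥S, ∃ v, Module.End.HasEigenvector f (s : AlgebraicClosure F) v := by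
    intro s
    refine Module.End.HasEigenvalue.exists_hasEigenvector ?_
    rw [Module.End.hasEigenvalue_iff_mem_spectrum, hf, Matrix.spectrum_toLin',
      Matrix.mem_spectrum_iff_isRoot_charpoly]
    exact (mem_roots (Matrix.charpoly_monic _).ne_zero).1 (Multiset.mem_toFinset.1 s.2)
  choose v hv using hev
  haveI : Nonempty ↥S := Fintype.card_pos_iff.1 (by omega)
  set b := basisOfLinearIndependentOfCardEqFinrank
    (f.eigenvectors_linearIndependent' _ Subtype.coe_injective v hv)
    (show Fintype.card ↥S = Module.finrank (AlgebraicClosure F) (Fin 7 → AlgebraicClosure F) by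
      rw [hScard, Module.finrank_fin_fun])
  have hb : ∀ s, b s = v s := fun s => by simp [b]
  -- commuting maps are diagonal in this basis
  have hdiag : ∀ C : GL (Fin 7) F, C * M = M * C → ∀ s,
      ∃ c : AlgebraicClosure F, Matrix.toLin' (bar (C : Matrix (Fin 7) (Fin 7) F)) (v s) = c • v s := by
    intro C hC s
    set g := Matrix.toLin' (bar (C : Matrix (Fin 7) (Fin 7) F)) with hg
    have hcomm : f (g (v s)) = (s : AlgebraicClosure F) • g (v s) := by
      have e : bar X * bar (C : Matrix (Fin 7) (Fin 7) F)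
          = bar (C : Matrix (Fin 7) (Fin 7) F) * bar X := by
        simp only [bar]
        rw [← Matrix.map_mul, ← Matrix.map_mul, hX, ← Units.val_mul, ← hC, Units.val_mul]
      rw [hf, hg, ← LinearMap.comp_apply, ← Matrix.toLin'_mul, e, Matrix.toLin'_mul,
        LinearMap.comp_apply, ← hf, (hv s).apply_eq_smul, map_smul]
    refine ⟨b.repr (g (v s)) s, b.repr.injective ?_⟩
    ext t
    rw [← hb s, map_smul, b.repr_self, Finsupp.smul_apply, smul_eq_mul, Finsupp.single_apply]
    by_cases hst : s = t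
    · subst hst
      rw [if_pos rfl, mul_one, hb]
    · rw [if_neg hst, mul_zero]
      have h1 : b.repr (f (g (b s))) t = (t : AlgebraicClosure F) * b.repr (g (b s)) t := by
        conv_lhs => rw [← b.sum_repr (g (b s))]
        rw [map_sum, map_sum, Finsupp.finsetSum_apply]
        rw [Finset.sum_eq_single t]
        · rw [map_smul, hb t, (hv t).apply_eq_smul, ← hb t, map_smul, map_smul, b.repr_self,
            Finsupp.smul_apply, Finsupp.smul_apply, Finsupp.single_eq_same, smul_eq_mul,
            smul_eq_mul, mul_one, mul_comm]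
        · intro u _ hut
          rw [map_smul, hb u, (hv u).apply_eq_smul, ← hb u, map_smul, map_smul, b.repr_self,
            Finsupp.smul_apply, Finsupp.smul_apply, Finsupp.single_eq_of_ne (Ne.symm hut),
            smul_zero, smul_zero]
        · exact fun h => absurd (Finset.mem_univ _) h
      rw [← hb] at hcomm
      rw [hcomm, map_smul, Finsupp.smul_apply, smul_eq_mul] at h1
      by_contra hne
      exact hst (Subtype.ext (mul_right_cancel₀ hne h1))
  refine Units.ext ((Matrix.map_injective (algebraMap F (AlgebraicClosure F)).injective) ?_)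
  beta_reduce
  refine Matrix.toLin'.injective (b.ext fun s => ?_)
  obtain ⟨a, ha⟩ := hdiag A hA s
  obtain ⟨c, hc⟩ := hdiag B hB s
  rw [Units.val_mul, Units.val_mul, Matrix.map_mul, Matrix.map_mul, Matrix.toLin'_mul,
    Matrix.toLin'_mul, LinearMap.comp_apply, LinearMap.comp_apply, hb, hc, ha, map_smul,
    map_smul, hc, ha, smul_smul, smul_smul, mul_comm]

end Cfsg.Agent.H38.Ree.Spectral
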