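import Cfsg.Agent.H38.Ree.Borel

/-!
`²G₂(q)`: centralisers and normalisers in the split torus.
-/
set_option autoImplicit false
set_option maxRecDepth 100000

namespace Cfsg.Agent.H38.Ree

open Cfsg.Lie Cfsg.Agent.H37.RootSys Cfsg.Agent.H37.Twist Cfsg.Agent.H37.NormalForm
open Cfsg.Agent.H54.Presentation Cfsg.Agent.H87

namespace Par

variable {K : Type*} [Field K] [Fintype K] (P : Par K)
include P

/-- The inverting element. -/
noncomputable def wT : ↥(twistedG2 K P.e) := P.ΦT (wEl upMat lowMat (1 : K))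

theorem wT_inv (y : Kˣ) : P.wT * P.ft y * P.wT⁻¹ = P.ft y⁻¹ := by
  refine P.inc_inj ?_
  rw [map_mul, map_mul, map_inv]
  show P.Φ (wEl upMat lowMat (1 : K)) * P.hp y * (P.Φ (wEl upMat lowMat (1 : K)))⁻¹ = P.hp y⁻¹
  have key : ∀ t : Kˣ, P.Φ (wEl upMat lowMat (1 : K)) * P.hp (t ^ (3 + 3 * P.e)) *
      (P.Φ (wEl upMat lowMat (1 : K)))⁻¹ = P.hp (t ^ (3 + 3 * P.e))⁻¹ := by
    intro t
    rw [← inv_pow, ← Φ_hEl, ← Φ_hEl, ← map_mul, ← map_inv, ← map_mul]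
    congr 1
    rw [mul_inv_eq_iff_eq_mul]
    refine Subtype.ext ?_
    rw [Matrix.SpecialLinearGroup.coe_mul, Matrix.SpecialLinearGroup.coe_mul,
      P.hEl_coe t.ne_zero, P.hEl_coe (Units.ne_zero _), Chevalley.SL2Hom.wEl_sl2 one_ne_zero]
    simp [Matrix.mul_fin_two]
  have hw : P.Φ (wEl upMat lowMat (1 : K)) * P.aG = P.aG * P.Φ (wEl upMat lowMat (1 : K)) :=
    (P.mem_CA.1 (P.Φ_mem _)).2
  obtain ⟨z, rfl | rfl⟩ := P.units_dichotomy y
  · obtain ⟨t, ht⟩ := P.exists_pow_sq z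
    rw [← ht, key]
  · obtain ⟨t, ht⟩ := P.exists_pow_sq z
    have := key t
    rw [ht] at this
    rw [← neg_one_mul, map_mul, mul_inv, inv_neg, inv_one, map_mul, ← this]
    show P.Φ _ * (P.aG * P.hp (z ^ 2)) * (P.Φ _)⁻¹ = P.aG * _
    rw [← mul_assoc, hw, mul_assoc, mul_assoc, mul_assoc]

theorem sq_ne_of_order {y y' : Kˣ} {g : ↥(twistedG2 K P.e)} (hy : y ^ 2 ≠ 1)
    (e : g * P.ft y * g⁻¹ = P.ft y') : y' ^ 2 ≠ 1 := fun h => hy (P.ft_injective (by
  have e2 : g * P.ft (y ^ 2) * g⁻¹ = 1 := by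
    rw [map_pow, ← conj_pow, e, ← map_pow, h, map_one]
  rwa [mul_inv_eq_one, mul_eq_left, ← map_one P.ft] at e2))

/-- Conjugation between regular torus elements. -/
theorem torus_cells {g : ↥(twistedG2 K P.e)} {y y' : Kˣ} (hy : y ^ 2 ≠ 1)
    (e : g * P.ft y * g⁻¹ = P.ft y') :
    ((∃ z, g = P.ft z) ∧ y' = y) ∨ ∃ h ∈ (Q K).sys.H, P.inc g = h * (Q K).sys.rep (w0 K) := by
  have hy' := P.sq_ne_of_order hy e
  rcases P.cells (P.inc_fixed g) with ⟨u, h, hu, huf, hh, hhf, eg⟩ |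
    ⟨u, h, v, hu, huf, hh, hv, hvf, eg⟩
  · left
    obtain ⟨z, rfl⟩ := P.exists_hp hh hhf
    obtain rfl : g = P.lift u huf * P.ft z :=
      P.inc_inj (by rw [map_mul, inc_lift, inc_ft]; exact eg)
    set w := P.lift u huf
    have hw : w ∈ P.UT := P.mem_UT.2 hu
    have e' : w * (P.ft y * w⁻¹ * (P.ft y)⁻¹) = P.ft y' * (P.ft y)⁻¹ := by
      rw [← e, show w * P.ft z * P.ft y * (w * P.ft z)⁻¹
        = w * (P.ft z * P.ft y * (P.ft z)⁻¹) * w⁻¹ by group,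
        show P.ft z * P.ft y * (P.ft z)⁻¹ = P.ft y by
          rw [← map_mul P.ft, ← map_inv P.ft, ← map_mul P.ft, mul_inv_cancel_comm]]
      group
    have h0 := P.BT_unique (u' := 1) (y := 1) (y' := y' * y⁻¹)
      (mul_mem hw (P.ft_conj_UT y (inv_mem hw))) (one_mem _)
      (by rw [e', map_one, mul_one, one_mul, map_mul, map_inv])
    obtain rfl : y' = y := (mul_inv_eq_one.1 h0.2.symm)
    have hw1 : w = 1 := P.fpf_UT hy hw (by
      have h1 := h0.1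
      calc P.ft y' * w = (w * (P.ft y' * w⁻¹ * (P.ft y')⁻¹))⁻¹ * (w * P.ft y') := by group
        _ = _ := by rw [h1]; group)
    exact ⟨⟨z, by rw [hw1, one_mul]⟩, rfl⟩
  · right
    set r := (Q K).sys.rep (w0 K)
    have hrc : r * P.hp y * r⁻¹ ∈ (Q K).sys.H := (Q K).sys.rep_conj_H _ (P.hp_mem y)
    have e1 : P.inc g * P.hp y = P.hp y' * P.inc g := by
      rw [← inc_ft, ← inc_ft, ← map_mul, ← map_mul, ← e]
      congr 1
      group
    rw [eg] at e1
    have e2 : u * (h * (r * P.hp y * r⁻¹)) * r * ((P.hp y)⁻¹ * v * P.hp y)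
        = (P.hp y' * u * (P.hp y')⁻¹) * (P.hp y' * h) * r * v := by
      calc u * (h * (r * P.hp y * r⁻¹)) * r * ((P.hp y)⁻¹ * v * P.hp y)
          = u * h * r * v * P.hp y := by group
        _ = P.hp y' * (u * h * r * v) := e1
        _ = _ := by group
    have hcv : (P.hp y)⁻¹ * v * P.hp y ∈ (Q K).sys.U := by
      have := h_conj_mem (inv_mem (P.hp_mem y)) hv
      rwa [inv_inv] at this
    have hcu : P.hp y' * u * (P.hp y')⁻¹ ∈ (Q K).sys.U := h_conj_mem (P.hp_mem y') hu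
    obtain ⟨-, h2, -, h4⟩ := (Q K).amb.toNormalForm.unique hu hcu (mul_mem hh hrc)
      (mul_mem (P.hp_mem y') hh) ((Q K).Uw_w0.symm ▸ hcv) ((Q K).Uw_w0.symm ▸ hv) e2
    have hu1 : P.lift u huf = 1 := P.fpf_UT hy' (P.mem_UT.2 hu) (P.inc_inj (by
      rw [map_mul, map_mul, inc_ft, inc_lift]
      exact (mul_inv_eq_iff_eq_mul.1 h2.symm)))
    have hv1 : P.lift v hvf = 1 := P.fpf_UT hy (P.mem_UT.2 hv) (P.inc_inj (by
      rw [map_mul, map_mul, inc_ft, inc_lift]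
      rw [mul_assoc, inv_mul_eq_iff_eq_mul] at h4
      exact h4.symm))
    refine ⟨h, hh, ?_⟩
    rw [eg, show u = 1 from (P.inc_lift u huf).symm.trans (by rw [hu1, map_one]),
      show v = 1 from (P.inc_lift v hvf).symm.trans (by rw [hv1, map_one]), one_mul, mul_one]

/-- The elements conjugating one regular torus element into the torus. -/
theorem torus_conj {g : ↥(twistedG2 K P.e)} {y y' : Kˣ} (hy : y ^ 2 ≠ 1)
    (e : g * P.ft y * g⁻¹ = P.ft y') :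
    ((∃ z, g = P.ft z) ∧ y' = y) ∨ ((∃ z, g = P.ft z * P.wT) ∧ y' = y⁻¹) := by
  rcases P.torus_cells hy e with h | ⟨h, hh, eh⟩
  · exact Or.inl h
  refine Or.inr ?_
  obtain ⟨-, hy2⟩ | ⟨h1, hh1, eh1⟩ := P.torus_cells hy (P.wT_inv y)
  · exfalso
    refine hy ?_
    rw [pow_two]
    conv_lhs => arg 2; rw [← hy2]
    exact mul_inv_cancel y
  obtain ⟨z, hz⟩ := P.exists_hp (h := P.inc (g * P.wT⁻¹))
    (by rw [map_mul, map_inv, eh, eh1, show h * (Q K).sys.rep (w0 K) *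
      (h1 * (Q K).sys.rep (w0 K))⁻¹ = h * h1⁻¹ by group]; exact mul_mem hh (inv_mem hh1))
    (P.inc_fixed _)
  have eg : g = P.ft z * P.wT := by
    rw [P.inc_inj ((P.inc_ft z).trans hz), inv_mul_cancel_right]
  refine ⟨⟨z, eg⟩, P.ft_injective ?_⟩
  rw [← e, eg, show P.ft z * P.wT * P.ft y * (P.ft z * P.wT)⁻¹
    = P.ft z * (P.wT * P.ft y * P.wT⁻¹) * (P.ft z)⁻¹ by group, wT_inv, ← map_inv P.ft,
    ← map_mul P.ft, ← map_mul P.ft, mul_inv_cancel_comm]

theorem cent_torus {g : ↥(twistedG2 K P.e)} {y : Kˣ} (hy : y ^ 2 ≠ 1)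
    (hc : g * P.ft y = P.ft y * g) : g ∈ P.ft.range := by
  rcases P.torus_conj hy (g := g) (y' := y) (by rw [hc, mul_inv_cancel_right]) with
    ⟨⟨z, rfl⟩, -⟩ | ⟨-, h⟩
  · exact ⟨z, rfl⟩
  · exact absurd (by rw [pow_two]; exact mul_eq_one_iff_eq_inv.2 h) hy

theorem wT_not_torus (hq : 4 < Nat.card K) : P.wT ∉ P.ft.range := by
  rintro ⟨z, hz⟩
  obtain ⟨y, hy⟩ := IsCyclic.exists_generator (α := Kˣ)
  have ho : orderOf y = Nat.card K - 1 :=
    (orderOf_eq_card_of_forall_mem_zpowers hy).trans P.card_units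
  have h := P.wT_inv y
  rw [← hz, ← map_inv, ← map_mul, ← map_mul, mul_inv_cancel_comm] at h
  have h2 : y ^ 2 = 1 := by rw [pow_two]; exact mul_eq_one_iff_eq_inv.2 (P.ft_injective h)
  have := Nat.le_of_dvd (by norm_num) (orderOf_dvd_of_pow_eq_one h2)
  omega

/-- `(q - 1) / 2`-torus. -/
noncomputable def A1 : Subgroup ↥(twistedG2 K P.e) := (P.ft.comp (powMonoidHom 2)).range

theorem card_A1 : Nat.card ↥P.A1 = (Nat.card K - 1) / 2 := by
  obtain ⟨k, -, hk, -⟩ := P.units_pow_half 1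
  rw [A1, MonoidHom.range_comp,
    ← Nat.card_congr ((powMonoidHom (α := Kˣ) 2).range.equivMapOfInjective _
      P.ft_injective).toEquiv, IsCyclic.card_powMonoidHom_range, P.card_units, hk,
    show Nat.gcd (2 * k) 2 = 2 by rw [mul_comm]; exact Nat.gcd_mul_left_left k 2]

theorem isCyclic_A1 : IsCyclic ↥P.A1 :=
  isCyclic_of_surjective _ (P.ft.comp (powMonoidHom 2)).rangeRestrict_surjective

theorem mem_A1 {z : Kˣ} : P.ft z ∈ P.A1 ↔ ∃ x, x ^ 2 = z :=
  ⟨fun ⟨x, hx⟩ => ⟨x, P.ft_injective (by rwa [MonoidHom.comp_apply, powMonoidHom_apply] at hx)⟩,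
    fun ⟨x, hx⟩ => ⟨x, by rw [MonoidHom.comp_apply, powMonoidHom_apply, hx]⟩⟩

theorem A1_sq {y : Kˣ} (hy : P.ft y ∈ P.A1) (h : y ^ 2 = 1) : y = 1 := by
  obtain ⟨x, rfl⟩ := P.mem_A1.1 hy
  obtain ⟨k, hkodd, hk, -⟩ := P.units_pow_half 1
  have h1 : (x ^ 2) ^ k = 1 := by rw [← pow_mul, ← hk, ← P.card_units, pow_card_eq_one']
  have := orderOf_dvd_of_pow_eq_one h
  have hd := Nat.dvd_gcd this (orderOf_dvd_of_pow_eq_one h1)
  rwa [(Nat.coprime_two_left.2 hkodd).gcd_eq_one, Nat.dvd_one, orderOf_eq_one_iff] at hd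

theorem normalizer_A1 {B : Subgroup ↥(twistedG2 K P.e)} (hB : B ≤ P.A1) (hB1 : B ≠ ⊥)
    (g : ↥(twistedG2 K P.e)) :
    g ∈ Subgroup.normalizer (B : Set ↥(twistedG2 K P.e)) ↔
      (∃ z, g = P.ft z) ∨ ∃ z, g = P.ft z * P.wT := by
  have hform : ∀ b ∈ B, ∃ y, b = P.ft y := fun b hb => by
    obtain ⟨x, hx⟩ := hB hb
    exact ⟨x ^ 2, by rw [← hx, MonoidHom.comp_apply, powMonoidHom_apply]⟩
  constructor
  · intro hg
    obtain ⟨b, hb, hb1⟩ : ∃ b ∈ B, b ≠ 1 := by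
      by_contra h
      push Not at h
      exact hB1 ((Subgroup.eq_bot_iff_forall B).2 h)
    obtain ⟨y, rfl⟩ := hform b hb
    have hy : y ^ 2 ≠ 1 := fun h => hb1 (by rw [P.A1_sq (hB hb) h, map_one])
    obtain ⟨y', hy'⟩ := hform _ ((Subgroup.mem_normalizer_iff.1 hg _).1 hb)
    rcases P.torus_conj hy hy' with h | h
    · exact Or.inl h.1
    · exact Or.inr h.1
  · intro h
    have hgen : ∀ z : Kˣ, P.ft z ∈ Subgroup.normalizer (B : Set ↥(twistedG2 K P.e)) := by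
      intro z
      refine Subgroup.centralizer_le_normalizer _ ?_
      intro b hb
      obtain ⟨y, rfl⟩ := hform b hb
      rw [← map_mul, ← map_mul, mul_comm]
    have hw : P.wT ∈ Subgroup.normalizer (B : Set ↥(twistedG2 K P.e)) := by
      rw [Subgroup.mem_normalizer_iff]
      intro b
      constructor
      · intro hb
        obtain ⟨y, rfl⟩ := hform b hb
        rw [wT_inv, map_inv]
        exact inv_mem hb
      · intro hb
        obtain ⟨y, hy⟩ := hform _ hb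
        have : b = P.ft y⁻¹ := by
          have e := P.wT_inv y⁻¹
          rw [inv_inv, ← hy] at e
          exact (mul_left_cancel (mul_right_cancel e)).symm
        rw [this, map_inv]
        exact inv_mem (hy ▸ hb)
    rcases h with ⟨z, rfl⟩ | ⟨z, rfl⟩
    · exact hgen z
    · exact mul_mem (hgen z) hw

theorem normalizer_eq_A1 {B : Subgroup ↥(twistedG2 K P.e)} (hB : B ≤ P.A1) (hB1 : B ≠ ⊥) :
    Subgroup.normalizer (B : Set ↥(twistedG2 K P.e))
      = Subgroup.normalizer (P.A1 : Set ↥(twistedG2 K P.e)) := by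
  ext g
  rw [P.normalizer_A1 hB hB1, P.normalizer_A1 le_rfl
    (fun h => hB1 (le_bot_iff.1 (hB.trans h.le)))]

theorem A1_ne_bot (hq : 4 < Nat.card K) : P.A1 ≠ ⊥ := fun h => by
  have := P.card_A1
  rw [h, Subgroup.card_bot] at this
  omega

theorem card_normalizer_A1 (hq : 4 < Nat.card K) :
    Nat.card ↥(Subgroup.normalizer (P.A1 : Set ↥(twistedG2 K P.e))) = 2 * (Nat.card K - 1) := by
  haveI : Finite ↥(twistedG2 K P.e) := Subtype.finite
  have hiff := P.normalizer_A1 le_rfl (P.A1_ne_bot hq)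
  rw [← P.card_units, two_mul, ← Nat.card_sum]
  refine (Nat.card_eq_of_bijective (fun s : Kˣ ⊕ Kˣ => (Sum.elim
    (fun z => ⟨P.ft z, (hiff _).2 (Or.inl ⟨z, rfl⟩)⟩)
    (fun z => ⟨P.ft z * P.wT, (hiff _).2 (Or.inr ⟨z, rfl⟩)⟩) s :
      ↥(Subgroup.normalizer (P.A1 : Set ↥(twistedG2 K P.e))))) ⟨?_, ?_⟩).symm
  · have hne : ∀ z z' : Kˣ, P.ft z ≠ P.ft z' * P.wT := fun z z' h =>
      P.wT_not_torus hq ⟨z'⁻¹ * z, by rw [map_mul, map_inv, h, inv_mul_cancel_left]⟩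
    rintro (z | z) (z' | z') h
    · exact congrArg Sum.inl (P.ft_injective (congrArg Subtype.val h))
    · exact absurd (congrArg Subtype.val h) (hne z z')
    · exact absurd (congrArg Subtype.val h).symm (hne z' z)
    · exact congrArg Sum.inr (P.ft_injective (mul_right_cancel (congrArg Subtype.val h)))
  · rintro ⟨g, hg⟩
    rcases (hiff g).1 hg with ⟨z, rfl⟩ | ⟨z, rfl⟩
    · exact ⟨Sum.inl z, rfl⟩
    · exact ⟨Sum.inr z, rfl⟩

end Par

end Cfsg.Agent.H38.Ree
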