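import Cfsg.Agent.H38.Ree.Cent

/-!
The centraliser of an involution in `²G₂(q)` and the Sylow two-subgroups.
-/
set_option autoImplicit false
set_option maxRecDepth 100000

namespace Cfsg.Agent.H38.Ree

open scoped Pointwise
open Cfsg.Lie Cfsg.Agent.H37.RootSys Cfsg.Agent.H37.Twist Cfsg.Agent.H37.NormalForm

theorem two_sq : ∀ z : Multiplicative (ZMod 2), z * z = 1 := by decide

namespace Par

variable {K : Type*} [Field K] [Fintype K] (P : Par K)
include P

/-- The inclusion of the twisted group. -/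
def ιT : ↥(twistedG2 K P.e) →* ↥(chevG2.group K) := Subgroup.inclusion P.T_le

theorem ιT_inj : Function.Injective P.ιT := Subgroup.inclusion_injective P.T_le

theorem ιT_fixed (g : ↥(twistedG2 K P.e)) : P.endo.σ (P.ιT g) = P.ιT g := P.mem_T.1 g.2

/-- Lift of a homomorphism with fixed values. -/
def toT {G : Type*} [Group G] (f : G →* ↥(chevG2.group K))
    (hf : ∀ x, P.endo.σ (f x) = f x) : G →* ↥(twistedG2 K P.e) :=
  ((chevG2.group K).subtype.comp f).codRestrict _ fun x => P.mem_T.2 (hf x)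

theorem ιT_toT {G : Type*} [Group G] (f : G →* ↥(chevG2.group K))
    (hf : ∀ x, P.endo.σ (f x) = f x) (x : G) : P.ιT (P.toT f hf x) = f x := rfl

theorem eq_aG {a : ↥(twistedG2 K P.e)}
    (haH : (a : GL chevG2.Idx K) ∈ chevG2.diagonalSubgroup K) (ha1 : a ≠ 1) (ha2 : a * a = 1) :
    P.ιT a = P.aG :=
  (P.invol_unique (h := P.ιT a) haH (P.ιT_fixed a) (by rw [← map_mul, ha2, map_one])).resolve_left
    fun h => ha1 (P.ιT_inj (h.trans (map_one _).symm))

theorem Θ_fixed (p : Multiplicative (ZMod 2) × Matrix.ProjectiveSpecialLinearGroup (Fin 2) K) :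
    P.endo.σ (P.Θ p) = P.Θ p :=
  (P.mem_CA.1 (P.Θ_range ▸ ⟨p, rfl⟩)).1

theorem centralizer_iso {a : ↥(twistedG2 K P.e)}
    (haH : (a : GL chevG2.Idx K) ∈ chevG2.diagonalSubgroup K) (ha1 : a ≠ 1) (ha2 : a * a = 1) :
    Nonempty (↥(Subgroup.centralizer {a}) ≃*
      Multiplicative (ZMod 2) × Matrix.ProjectiveSpecialLinearGroup (Fin 2) K) := by
  have ha := P.eq_aG haH ha1 ha2
  have hmem : ∀ p, P.toT P.Θ P.Θ_fixed p ∈ Subgroup.centralizer {a} := fun p => by
    rw [Subgroup.mem_centralizer_singleton_iff]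
    refine P.ιT_inj ?_
    rw [map_mul, map_mul, ιT_toT, ha]
    exact (P.mem_CA.1 (P.Θ_range ▸ ⟨p, rfl⟩)).2
  refine ⟨(MulEquiv.ofBijective ((P.toT P.Θ P.Θ_fixed).codRestrict _ hmem) ⟨?_, ?_⟩).symm⟩
  · intro p q h
    have h1 := congrArg (fun x : ↥(Subgroup.centralizer {a}) => P.ιT x.1) h
    exact P.Θ_injective h1
  · rintro ⟨g, hg⟩
    rw [Subgroup.mem_centralizer_singleton_iff] at hg
    have hg' : P.ιT g ∈ P.Θ.range := by
      rw [P.Θ_range, P.mem_CA, ← ha, ← map_mul, ← map_mul, hg]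
      exact ⟨P.ιT_fixed g, rfl⟩
    obtain ⟨p, hp⟩ := hg'
    exact ⟨p, Subtype.ext (P.ιT_inj hp)⟩

theorem not_sq : ¬ IsSquare (-1 : K) := by
  rw [FiniteField.isSquare_neg_one_iff]
  obtain ⟨a, ha⟩ := P.odd
  intro h
  rw [P.card, ha] at h
  refine h ?_
  ring_nf
  omega

theorem exists_sum : ∃ p : K × K, p.1 ^ 2 + p.2 ^ 2 = -1 := by
  haveI := P.char
  haveI : Fact (Nat.Prime 3) := ⟨Nat.prime_three⟩
  obtain ⟨a, b, h⟩ := CharP.sq_add_sq K 3 (-1)
  exact ⟨((a : K), (b : K)), by simpa using h⟩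

theorem two_ne : (2 : K) ≠ 0 := by rw [P.two_eq]; exact neg_ne_zero.2 one_ne_zero

/-- The chosen four-group generator. -/
noncomputable def sK : Matrix.ProjectiveSpecialLinearGroup (Fin 2) K :=
  Klein.mk (Klein.sM _ _ P.exists_sum.choose_spec)

theorem sK_sq : P.sK * P.sK = 1 := Klein.sM_sq _

/-- The four-group in `PSL₂`. -/
noncomputable def V4 : Multiplicative (ZMod 2) × Multiplicative (ZMod 2) →*
    Matrix.ProjectiveSpecialLinearGroup (Fin 2) K :=
  MonoidHom.noncommCoprod (twoHom (Klein.mk Klein.wM) Klein.wM_sq) (twoHom P.sK P.sK_sq)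
    fun x y => by
      rcases mult_two x with rfl | rfl <;> rcases mult_two y with rfl | rfl <;>
        simp only [map_one, twoHom_one, Commute.one_left, Commute.one_right]
      exact Klein.wM_sM_comm _

theorem V4_apply (x y : Multiplicative (ZMod 2)) :
    P.V4 (x, y) = twoHom (Klein.mk Klein.wM) Klein.wM_sq x * twoHom P.sK P.sK_sq y := rfl

theorem V4_injective : Function.Injective P.V4 := by
  rw [injective_iff_map_eq_one]
  rintro ⟨x, y⟩ h
  rw [V4_apply] at h
  rcases mult_two x with rfl | rfl <;> rcases mult_two y with rfl | rfl <;>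
    simp only [map_one, twoHom_one, mul_one, one_mul] at h
  · rfl
  · exact absurd h (Klein.sM_ne _ P.not_sq P.two_ne)
  · exact absurd h (Klein.wM_ne P.two_ne)
  · exact absurd h (Klein.wsM_ne _ P.not_sq)

/-- The elementary group of order eight. -/
noncomputable def eight :
    Multiplicative (ZMod 2) × (Multiplicative (ZMod 2) × Multiplicative (ZMod 2)) →*
      ↥(twistedG2 K P.e) :=
  (P.toT P.Θ P.Θ_fixed).comp ((MonoidHom.id _).prodMap P.V4)

theorem eight_apply (p : Multiplicative (ZMod 2) × (Multiplicative (ZMod 2) ×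
    Multiplicative (ZMod 2))) : P.ιT (P.eight p) = P.Θ (p.1, P.V4 p.2) := rfl

theorem eight_injective : Function.Injective P.eight := fun p q h => by
  have h1 := P.Θ_injective ((P.eight_apply p).symm.trans
    ((congrArg P.ιT h).trans (P.eight_apply q)))
  simp only [Prod.mk.injEq] at h1
  exact Prod.ext h1.1 (P.V4_injective h1.2)

theorem card_eight : Nat.card ↥P.eight.range = 8 := by
  rw [← Nat.card_congr (MonoidHom.ofInjective P.eight_injective).toEquiv, Nat.card_eq_fintype_card]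
  rfl

theorem card_two_part : ∃ r, Odd r ∧ Nat.card ↥(twistedG2 K P.e) = 8 * r := by
  obtain ⟨a, ha⟩ := P.odd
  set b := a ^ 2 + a with hb
  have hbe : Even b := by rw [hb, show a ^ 2 + a = a * (a + 1) by ring]; exact Nat.even_mul_succ_self a
  have hc : Nat.card K = 12 * b + 3 := by rw [P.card_nat, ha, hb]; ring
  obtain ⟨c, hc'⟩ := hbe
  refine ⟨(12 * b + 3) ^ 3 * (6 * b + 1) * ((3 * b + 1) * (144 * b ^ 2 + 60 * b + 7)), ?_, ?_⟩
  · refine (((Odd.pow ⟨6 * b + 1, by ring⟩)).mul ⟨3 * b, by ring⟩).mul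
      (Odd.mul ⟨3 * c, by omega⟩ ⟨72 * b ^ 2 + 30 * b + 3, by ring⟩)
  · rw [P.card_T, hc, show 12 * b + 3 - 1 = 2 * (6 * b + 1) by omega]
    ring

/-- The Sylow two-subgroup. -/
theorem exists_sylow_two : ∃ S : Sylow 2 ↥(twistedG2 K P.e),
    (S : Subgroup _) = P.eight.range := by
  haveI : Fact (Nat.Prime 2) := ⟨Nat.prime_two⟩
  obtain ⟨r, hr, e⟩ := P.card_two_part
  refine ⟨Sylow.ofCard P.eight.range ?_, rfl⟩
  rw [P.card_eight, e, Nat.factorization_mul (by norm_num) hr.pos.ne', Finsupp.coe_add, Pi.add_apply,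
    Nat.factorization_eq_zero_of_not_dvd (Nat.two_dvd_ne_zero.2 (Nat.odd_iff.1 hr)), add_zero,
    show (8 : ℕ) = 2 ^ 3 by norm_num, Nat.Prime.factorization_pow Nat.prime_two,
    Finsupp.single_eq_same]

theorem sylow_two (S : Sylow 2 ↥(twistedG2 K P.e)) : Nat.card S = 8 ∧ ∀ x ∈ S, x * x = 1 := by
  haveI : Fact (Nat.Prime 2) := ⟨Nat.prime_two⟩
  haveI : Finite ↥(twistedG2 K P.e) := Subtype.finite
  obtain ⟨S0, hS0⟩ := P.exists_sylow_two
  obtain ⟨g, rfl⟩ := MulAction.exists_smul_eq ↥(twistedG2 K P.e) S0 S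
  have hmap : ((g • S0 : Sylow 2 _) : Subgroup _)
      = P.eight.range.map (MulAut.conj g).toMonoidHom := by
    rw [Sylow.coe_subgroup_smul, hS0]; rfl
  refine ⟨?_, fun x hx => ?_⟩
  · show Nat.card ↥((g • S0 : Sylow 2 ↥(twistedG2 K P.e)) : Subgroup ↥(twistedG2 K P.e)) = 8
    rw [hmap, ← Nat.card_congr (Subgroup.equivMapOfInjective _ _
      (MulAut.conj g).injective).toEquiv, P.card_eight]
  · have hx' : x ∈ P.eight.range.map (MulAut.conj g).toMonoidHom := hmap ▸ hx
    obtain ⟨_, ⟨p, rfl⟩, rfl⟩ := hx'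
    rw [← map_mul, ← map_mul]
    rw [show p * p = 1 from Prod.ext (two_sq _) (Prod.ext (two_sq _) (two_sq _)), map_one, map_one]

/-- The elementary group of order eight is its own centraliser. -/
theorem eight_centralizer :
    Subgroup.centralizer (P.eight.range : Set ↥(twistedG2 K P.e)) = P.eight.range := by
  refine le_antisymm (fun g hg => ?_) ?_
  · have hcomm : ∀ p : Multiplicative (ZMod 2) × (Multiplicative (ZMod 2) ×
        Multiplicative (ZMod 2)), P.ιT g * P.Θ (p.1, P.V4 p.2) = P.Θ (p.1, P.V4 p.2) * P.ιT g := fun p => by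
      rw [← eight_apply, ← map_mul, ← map_mul]
      exact congrArg P.ιT (Subgroup.mem_centralizer_iff.1 hg _ ⟨p, rfl⟩).symm
    have hga : P.ιT g ∈ P.CA := by
      refine P.mem_CA.2 ⟨P.ιT_fixed g, ?_⟩
      have h := hcomm (Multiplicative.ofAdd 1, 1)
      rwa [Θ_apply, twoHom_one, map_one, map_one, mul_one] at h
    rw [← P.Θ_range] at hga
    obtain ⟨⟨z, x⟩, e⟩ := hga
    have hx : ∀ q, x * P.V4 q = P.V4 q * x := fun q => by
      have h := hcomm (1, q)
      rw [← e, ← map_mul, ← map_mul] at h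
      exact (Prod.ext_iff.1 (P.Θ_injective h)).2
    have hw : x * Klein.mk Klein.wM = Klein.mk Klein.wM * x := by
      have h := hx (Multiplicative.ofAdd 1, 1)
      rwa [V4_apply, twoHom_one, map_one, mul_one] at h
    have hs : x * P.sK = P.sK * x := by
      have h := hx (1, Multiplicative.ofAdd 1)
      rwa [V4_apply, map_one, one_mul, twoHom_one] at h
    obtain ⟨q, rfl⟩ : ∃ q, P.V4 q = x := by
      rcases Klein.centralizer P.exists_sum.choose_spec P.not_sq P.two_ne hw hs with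
        rfl | rfl | rfl | rfl
      · exact ⟨1, map_one _⟩
      · exact ⟨(Multiplicative.ofAdd 1, 1), by rw [V4_apply, twoHom_one, map_one, mul_one]⟩
      · exact ⟨(1, Multiplicative.ofAdd 1), by rw [V4_apply, map_one, one_mul, twoHom_one]; rfl⟩
      · exact ⟨(Multiplicative.ofAdd 1, Multiplicative.ofAdd 1), by
          rw [V4_apply, twoHom_one, twoHom_one]; rfl⟩
    exact ⟨(z, q), P.ιT_inj e⟩
  · intro g hg
    rw [Subgroup.mem_centralizer_iff]
    intro h hh
    obtain ⟨p, rfl⟩ := hg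
    obtain ⟨q, rfl⟩ := hh
    rw [← map_mul, ← map_mul, mul_comm]

theorem sylow_two_centralizer (S : Sylow 2 ↥(twistedG2 K P.e)) :
    Subgroup.centralizer ((S : Subgroup ↥(twistedG2 K P.e)) : Set ↥(twistedG2 K P.e)) = S := by
  haveI : Fact (Nat.Prime 2) := ⟨Nat.prime_two⟩
  haveI : Finite ↥(twistedG2 K P.e) := Subtype.finite
  obtain ⟨S0, hS0⟩ := P.exists_sylow_two
  obtain ⟨g, rfl⟩ := MulAction.exists_smul_eq ↥(twistedG2 K P.e) S0 S
  rw [Sylow.coe_subgroup_smul, hS0]
  ext x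
  rw [Subgroup.mem_centralizer_iff, Subgroup.mem_pointwise_smul_iff_inv_smul_mem]
  show (∀ h ∈ ((MulAut.conj g • P.eight.range : Subgroup _) : Set _), h * x = x * h) ↔
    (MulAut.conj g)⁻¹ • x ∈ P.eight.range
  conv_rhs => rw [← P.eight_centralizer, Subgroup.mem_centralizer_iff]
  simp only [SetLike.mem_coe, Subgroup.mem_pointwise_smul_iff_inv_smul_mem, MulAut.smul_def]
  constructor
  · intro h y hy
    have := h ((MulAut.conj g) y) (by rw [MulAut.inv_apply_self]; exact hy)
    have e := congrArg (fun z => (MulAut.conj g)⁻¹ z) this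
    rw [map_mul, map_mul, MulAut.inv_apply_self] at e
    exact e
  · intro h y hy
    have := h _ hy
    rw [← map_mul, ← map_mul] at this
    exact (MulAut.conj g)⁻¹.injective this

end Par

end Cfsg.Agent.H38.Ree
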