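import Cfsg.Agent.H38.Ree.NonsplitNorm
import Cfsg.Agent.H38.Ree.Split
import Cfsg.Agent.H38.Ree.Spectral
import Cfsg.Agent.H38.Ree.Family

/-!
`²G₂(q)`: elements whose order divides `q² - q + 1`.
-/
set_option autoImplicit false
set_option maxRecDepth 100000

namespace Cfsg.Agent.H38.Ree

open Cfsg.Lie Cfsg.Agent.H37.RootSys Cfsg.Agent.H37.Twist

/-- Conjugating elements of prime order when the Sylow subgroups are cyclic. -/
theorem conj_into_zpowers {G : Type*} [Group G] [Finite G] {r : ℕ} [Fact r.Prime]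
    (hS : ∀ S : Sylow r G, IsCyclic ↥(S : Subgroup G)) {y a : G} (hy : orderOf y = r)
    (ha : orderOf a = r) : ∃ g, g * y * g⁻¹ ∈ Subgroup.zpowers a := by
  obtain ⟨S, hSy⟩ := (IsPGroup.of_card (p := r) (G := ↥(Subgroup.zpowers y)) (n := 1)
    ((Nat.card_zpowers y).trans (hy.trans (pow_one r).symm))).exists_le_sylow
  obtain ⟨S', hSa⟩ := (IsPGroup.of_card (p := r) (G := ↥(Subgroup.zpowers a)) (n := 1)
    ((Nat.card_zpowers a).trans (ha.trans (pow_one r).symm))).exists_le_sylow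
  obtain ⟨g, rfl⟩ := MulAction.exists_smul_eq G S S'
  haveI := hS (g • S)
  have hmem : g * y * g⁻¹ ∈ ((g • S : Sylow r G) : Subgroup G) := by
    rw [Sylow.coe_subgroup_smul]; exact ⟨y, hSy (Subgroup.mem_zpowers y), rfl⟩
  refine ⟨g, ?_⟩
  obtain ⟨i, hi⟩ := Subgroup.mem_zpowers_iff.1
    (Components.mem_zpowers_of_pow_eq_one (C := ↥((g • S : Sylow r G) : Subgroup G))
      (z := ⟨a, hSa (Subgroup.mem_zpowers a)⟩) (y := ⟨_, hmem⟩)
      (by rw [← Subgroup.orderOf_coe]; exact ha)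
      (Subtype.ext (show (g * y * g⁻¹) ^ r = 1 by
        rw [conj_pow, ← hy, pow_orderOf_eq_one, mul_one, mul_inv_cancel])))
  exact ⟨i, congrArg Subtype.val hi⟩

theorem exists_pow_order {G : Type*} [Group G] [Finite G] {y : G} {r : ℕ} (hr : r.Prime)
    (h : r ∣ orderOf y) : ∃ j : ℕ, orderOf (y ^ j) = r :=
  ⟨orderOf y / r, orderOf_pow_orderOf_div (orderOf_pos y).ne' h⟩

/-- Arithmetic: one class is impossible. -/
theorem one_class_absurd {q N w : ℕ} (hq : 27 ≤ q) (hN : N + q = q ^ 2 + 1) (hw6 : w ≤ 6)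
    (h : 6 * (N - 1) = w * (2 * N - 2 * q - 2)) : False := by
  have h2 : 2 * q + 2 ≤ N := by nlinarith
  obtain ⟨M, rfl⟩ := Nat.exists_eq_add_of_le h2
  rw [show 2 * (2 * q + 2 + M) - 2 * q - 2 = 2 * q + 2 + 2 * M by omega,
    show 2 * q + 2 + M - 1 = 2 * q + 1 + M by omega] at h
  have hM : 8 * q ≤ M := by nlinarith
  rcases Nat.lt_or_ge w 4 with hw | hw
  · interval_cases w <;> omega
  · nlinarith

/-- Arithmetic: two classes. -/
theorem two_class_key {c c' : ℕ} (hc : 7 ≤ c) (hc' : 7 ≤ c') (h : 703 ≤ c * c') :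
    6 * c' + 5 * c ≤ c * c' := by
  rcases Nat.lt_or_ge c 12 with h1 | h1
  · have h2 : 60 ≤ c' := by nlinarith
    nlinarith
  · rcases Nat.lt_or_ge c' 10 with h2 | h2
    · have h3 : 70 ≤ c := by nlinarith
      nlinarith
    · nlinarith

namespace Par

variable {K : Type*} [Field K] [Fintype K] (P : Par K)
include P

/-- `q² - q + 1`. -/
noncomputable def NN : ℕ := Nat.card K * (Nat.card K - 1) + 1 + 0 * P.e

theorem NN_eq : P.NN + Nat.card K = Nat.card K ^ 2 + 1 := by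
  obtain ⟨k, hk⟩ : ∃ k, Nat.card K = k + 1 :=
    ⟨Nat.card K - 1, by have := Nat.card_pos (α := K); omega⟩
  rw [NN, hk, Nat.add_sub_cancel]; ring

theorem q_ge (hq : 4 < Nat.card K) : 27 ≤ Nat.card K := by
  obtain ⟨a, ha⟩ := P.odd
  rcases a with _ | a
  · rw [P.card_nat, ha] at hq; simp at hq
  · rw [P.card_nat, ha]; nlinarith

theorem card_T' : Nat.card ↥(twistedG2 K P.e)
    = Nat.card K ^ 3 * ((Nat.card K - 1) * (Nat.card K + 1)) * P.NN := by
  obtain ⟨k, hk⟩ : ∃ k, Nat.card K = k + 1 :=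
    ⟨Nat.card K - 1, by have := Nat.card_pos (α := K); omega⟩
  rw [P.card_T, NN, hk, Nat.add_sub_cancel]; ring

theorem NN_prime {r : ℕ} (hr : r.Prime) (h : r ∣ P.NN) :
    3 < r ∧ ¬ r ∣ Nat.card K ∧ ¬ r ∣ Nat.card K - 1 ∧ ¬ r ∣ Nat.card K + 1 := by
  haveI : Fact r.Prime := ⟨hr⟩
  obtain ⟨a, ha⟩ := P.odd
  have h1 : 1 ≤ Nat.card K := Nat.card_pos
  have hz : ((P.NN : ℕ) : ZMod r) = 0 := (ZMod.natCast_eq_zero_iff _ _).2 h
  rw [NN, zero_mul, add_zero] at hz
  push_cast [Nat.cast_sub h1] at hz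
  have hne3 : r ≠ 3 := by
    rintro rfl
    obtain ⟨t, ht⟩ : 3 ∣ Nat.card K * (Nat.card K - 1) :=
      Dvd.dvd.mul_right ⟨P.e ^ 2, P.card_nat⟩ _
    rw [NN, zero_mul, add_zero, ht] at h
    omega
  have hne2 : r ≠ 2 := by
    rintro rfl
    obtain ⟨t, ht⟩ := Nat.even_mul_pred_self (Nat.card K)
    rw [NN, zero_mul, add_zero, ht] at h
    omega
  refine ⟨by have := hr.two_le; omega, fun hd => ?_, fun hd => ?_, fun hd => ?_⟩
  · have hd' := (ZMod.natCast_eq_zero_iff _ _).2 hd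
    rw [hd', zero_mul, zero_add] at hz
    exact one_ne_zero hz
  · have hd' := (ZMod.natCast_eq_zero_iff _ _).2 hd
    rw [Nat.cast_sub h1, Nat.cast_one] at hd'
    exact one_ne_zero (α := ZMod r) (by linear_combination hz - (Nat.card K : ZMod r) * hd')
  · have hd' := (ZMod.natCast_eq_zero_iff _ _).2 hd
    push_cast at hd'
    have h3 : ((3 : ℕ) : ZMod r) = 0 := by
      push_cast
      linear_combination hz - ((Nat.card K : ZMod r) - 2) * hd'
    exact hne3 ((Nat.prime_dvd_prime_iff_eq hr Nat.prime_three).1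
      ((ZMod.natCast_eq_zero_iff _ _).1 h3))

theorem coprime_NN : Nat.Coprime P.NN
    (2 * (Nat.card K ^ 3 * ((Nat.card K - 1) * (Nat.card K + 1)))) := by
  refine Nat.coprime_of_dvd fun k hk h1 h2 => ?_
  obtain ⟨a, b, c, d⟩ := P.NN_prime hk h1
  rcases hk.dvd_mul.1 h2 with h | h
  · have := Nat.le_of_dvd (by norm_num) h; omega
  rcases hk.dvd_mul.1 h with h | h
  · exact b (hk.dvd_of_dvd_pow h)
  rcases hk.dvd_mul.1 h with h | h
  · exact c h
  · exact d h

theorem orderOf_NN {r : ℕ} [hr : Fact r.Prime] (h : r ∣ P.NN) :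
    orderOf (Fintype.card K : ZMod r) = 6 := by
  obtain ⟨h3', -, -, -⟩ := P.NN_prime hr.out h
  have h1 : 1 ≤ Nat.card K := Nat.card_pos
  refine orderOf_eq_six (fun e => ?_) (fun e => ?_) ?_
  · have := Nat.le_of_dvd (by norm_num) ((ZMod.natCast_eq_zero_iff 2 r).1 (by exact_mod_cast e))
    omega
  · have := Nat.le_of_dvd (by norm_num) ((ZMod.natCast_eq_zero_iff 3 r).1 (by exact_mod_cast e))
    omega
  · have hz : ((P.NN : ℕ) : ZMod r) = 0 := (ZMod.natCast_eq_zero_iff _ _).2 h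
    rw [NN, zero_mul, add_zero] at hz
    push_cast [Nat.cast_sub h1] at hz
    rw [← Nat.card_eq_fintype_card]
    linear_combination hz

/-- The elements of the third kind. -/
def E3 : Set ↥(twistedG2 K P.e) := {x | x ≠ 1 ∧ x ^ P.NN = 1}

theorem E3_eq_one {x : ↥(twistedG2 K P.e)} (hx : x ^ P.NN = 1) {n : ℕ}
    (hn : n ∣ 2 * (Nat.card K ^ 3 * ((Nat.card K - 1) * (Nat.card K + 1)))) (h : x ^ n = 1) :
    x = 1 :=
  orderOf_eq_one_iff.1 (Nat.eq_one_of_dvd_coprimes P.coprime_NN (orderOf_dvd_of_pow_eq_one hx)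
    ((orderOf_dvd_of_pow_eq_one h).trans hn))

theorem E3_no_invol (hq : 4 < Nat.card K) {x u : ↥(twistedG2 K P.e)} (hx : x ∈ P.E3)
    (hu : u * u = 1) (hu1 : u ≠ 1) : u * x ≠ x * u := by
  intro hc
  obtain ⟨g, hg⟩ := P.invol_conj hq hu hu1
  set φ := MulAut.conj g⁻¹
  have hu' : φ u = P.aT := by
    show g⁻¹ * u * g⁻¹⁻¹ = _
    rw [← hg, show P.aT = P.eight baseEV from rfl]; group
  obtain ⟨p, hp⟩ := P.mem_cent_aT.1 (show φ x * P.aT = P.aT * φ x by
    rw [← hu', ← map_mul, ← map_mul, hc])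
  refine hx.1 (φ.injective ?_)
  rw [map_one]
  refine P.E3_eq_one (n := 2 * Nat.card (Matrix.ProjectiveSpecialLinearGroup (Fin 2) K))
    (by rw [← map_pow, hx.2, map_one]) ?_ ?_
  · refine Nat.mul_dvd_mul_left 2 ?_
    have h1 : Nat.card (Matrix.ProjectiveSpecialLinearGroup (Fin 2) K) ∣
        Nat.card (Matrix.SpecialLinearGroup (Fin 2) K) :=
      Subgroup.card_quotient_dvd_card _
    rw [Linear.card_SL_two, ← Nat.card_eq_fintype_card,
      show Nat.card K ^ 2 - 1 = (Nat.card K + 1) * (Nat.card K - 1) by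
        simpa using Nat.sq_sub_sq (Nat.card K) 1,
      mul_comm (Nat.card K + 1)] at h1
    exact h1.trans (Nat.mul_dvd_mul (dvd_pow_self _ (by norm_num)) dvd_rfl)
  · rw [← hp, ← map_pow, show p ^ (2 * Nat.card (Matrix.ProjectiveSpecialLinearGroup (Fin 2) K)) = 1
      from ?_, map_one]
    refine Prod.ext ?_ ?_
    · rw [Prod.pow_fst, pow_mul, pow_two, two_sq, one_pow]; rfl
    · rw [Prod.pow_snd, mul_comm, pow_mul, pow_card_eq_one', one_pow]; rfl

theorem E3_card_dvd (hq : 4 < Nat.card K) {x : ↥(twistedG2 K P.e)} (hx : x ∈ P.E3) :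
    Nat.card ↥(Subgroup.centralizer {x}) ∣ P.NN := by
  haveI : Finite ↥(twistedG2 K P.e) := Subtype.finite
  have hT : Nat.card ↥(Subgroup.centralizer {x}) ∣ Nat.card ↥(twistedG2 K P.e) :=
    Subgroup.card_subgroup_dvd_card _
  rw [P.card_T'] at hT
  refine Nat.Coprime.dvd_of_dvd_mul_left ?_ hT
  refine Nat.coprime_of_dvd fun r hr h1 h2 => ?_
  haveI : Fact r.Prime := ⟨hr⟩
  obtain ⟨⟨y, hyC⟩, hy⟩ := exists_prime_orderOf_dvd_card' (G := ↥(Subgroup.centralizer {x})) r h1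
  rw [← Subgroup.orderOf_coe] at hy
  have hyx : y * x = x * y := Subgroup.mem_centralizer_singleton_iff.1 hyC
  have hy1 : y ≠ 1 := fun h => by
    change orderOf y = r at hy
    rw [h, orderOf_one] at hy
    exact hr.one_lt.ne hy
  have hr2 : r ≠ 2 := by
    rintro rfl
    exact P.E3_no_invol hq hx (by rw [← pow_two, ← hy, pow_orderOf_eq_one]) hy1 hyx
  have hr3 : r ≠ 3 := by
    rintro rfl
    refine hx.1 (P.E3_eq_one hx.2 ?_ (P.three_cent (g := x) (t := y)
      (by rw [← hy, pow_orderOf_eq_one]) hy1 hyx.symm))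
    rw [mul_comm]
    exact Dvd.dvd.mul_left (Nat.mul_dvd_mul_left _ (dvd_mul_right _ _)) _
  have hr5 : 3 < r := by have := hr.two_le; omega
  obtain ⟨n, hn, eK⟩ := P.card_pow_three
  rcases hr.dvd_mul.1 h2 with h | h
  · rw [eK, ← pow_mul] at h
    exact hr3 ((Nat.prime_dvd_prime_iff_eq hr Nat.prime_three).1 (hr.dvd_of_dvd_pow h))
  rcases hr.dvd_mul.1 h with h | h
  · have hA : r ∣ Nat.card ↥P.A1 := by
      rw [P.card_A1]
      obtain ⟨k, -, hk, -⟩ := P.units_pow_half 1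
      rw [hk] at h ⊢
      rw [Nat.mul_div_cancel_left _ two_pos]
      exact (hr.dvd_mul.1 h).resolve_left fun h' => hr2 ((Nat.prime_dvd_prime_iff_eq hr Nat.prime_two).1 h')
    obtain ⟨⟨a, haA⟩, ha⟩ := exists_prime_orderOf_dvd_card' (G := ↥P.A1) r hA
    rw [← Subgroup.orderOf_coe] at ha
    obtain ⟨g, hg⟩ := conj_into_zpowers (P.sylow_cyclic hr5) hy ha
    obtain ⟨z, hz⟩ := Subgroup.zpowers_le.2 haA hg
    rw [MonoidHom.comp_apply, powMonoidHom_apply] at hz
    have hy' : g * y * g⁻¹ ≠ 1 := fun e => hy1 (by rwa [mul_inv_eq_one, mul_eq_left] at e)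
    have hzz : (z ^ 2) ^ 2 ≠ 1 := fun e => hy' (by
      rw [← hz, P.A1_sq (P.mem_A1.2 ⟨z, rfl⟩) e, map_one])
    have hgx : g * x * g⁻¹ ∈ P.ft.range := by
      refine P.cent_torus hzz ?_
      rw [hz]
      calc g * x * g⁻¹ * (g * y * g⁻¹) = g * (x * y) * g⁻¹ := by group
        _ = g * (y * x) * g⁻¹ := by rw [hyx]
        _ = _ := by group
    obtain ⟨w, hw⟩ := hgx
    refine hx.1 (P.E3_eq_one hx.2 (n := Nat.card K - 1) ?_ ((MulAut.conj g).injective ?_))
    · exact Dvd.dvd.mul_left (Dvd.dvd.mul_left (dvd_mul_right _ _) _) _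
    · rw [map_pow, map_one, MulAut.conj_apply, ← hw, ← map_pow, ← P.card_units, pow_card_eq_one',
        map_one]
  · obtain ⟨h4, -, -, -⟩ := P.cN_spec
    have hA : r ∣ Nat.card ↥P.A2 := by
      rw [P.A2_aux.2]
      rw [h4] at h
      refine (hr.dvd_mul.1 h).resolve_left fun h' => hr2 ?_
      exact (Nat.prime_dvd_prime_iff_eq hr Nat.prime_two).1 (hr.dvd_of_dvd_pow (show r ∣ 2 ^ 2 from h'))
    obtain ⟨⟨a, haA⟩, ha⟩ := exists_prime_orderOf_dvd_card' (G := ↥P.A2) r hA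
    rw [← Subgroup.orderOf_coe] at ha
    obtain ⟨g, hg⟩ := conj_into_zpowers (P.sylow_cyclic hr5) hy ha
    have hy' : g * y * g⁻¹ ∈ P.A2 := Subgroup.zpowers_le.2 haA hg
    have hgx : g * x * g⁻¹ ∈ P.C2 := by
      rw [← P.centralizer_A2 hq hy' (fun e => hy1 (by rwa [mul_inv_eq_one, mul_eq_left] at e)),
        Subgroup.mem_centralizer_singleton_iff]
      calc g * x * g⁻¹ * (g * y * g⁻¹) = g * (x * y) * g⁻¹ := by group
        _ = g * (y * x) * g⁻¹ := by rw [hyx]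
        _ = _ := by group
    refine hx.1 (P.E3_eq_one hx.2 (n := Nat.card K + 1) ?_ ((MulAut.conj g).injective ?_))
    · exact Dvd.dvd.mul_left (Dvd.dvd.mul_left (dvd_mul_left _ _) _) _
    · rw [map_pow, map_one, MulAut.conj_apply, ← P.card_C2]
      exact congrArg Subtype.val (pow_card_eq_one' (x := (⟨_, hgx⟩ : ↥P.C2)))

theorem E3_comm (hq : 4 < Nat.card K) {x a b : ↥(twistedG2 K P.e)} (hx : x ∈ P.E3)
    (ha : a * x = x * a) (hb : b * x = x * b) : a * b = b * a := by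
  haveI : Finite ↥(twistedG2 K P.e) := Subtype.finite
  have hne : orderOf x ≠ 1 := fun h => hx.1 (orderOf_eq_one_iff.1 h)
  obtain ⟨r, hr, hrd⟩ := Nat.exists_prime_and_dvd hne
  haveI : Fact r.Prime := ⟨hr⟩
  obtain ⟨j, hj⟩ := exists_pow_order hr hrd
  have hd := P.orderOf_NN (hrd.trans (orderOf_dvd_of_pow_eq_one hx.2))
  refine P.gl7_injective ?_
  rw [map_mul, map_mul]
  refine Spectral.commute_of_commute hd (M := P.gl7 (x ^ j)) ?_ ?_ ?_ ?_
  · rw [← map_pow, ← hj, pow_orderOf_eq_one, map_one]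
  · intro h
    rw [← map_one P.gl7] at h
    rw [P.gl7_injective h, orderOf_one] at hj
    exact hr.one_lt.ne hj
  · rw [← map_mul, ← map_mul, ((show Commute a x from ha).pow_right j).eq]
  · rw [← map_mul, ← map_mul, ((show Commute b x from hb).pow_right j).eq]

theorem E3_mem (hq : 4 < Nat.card K) {x y : ↥(twistedG2 K P.e)} (hx : x ∈ P.E3)
    (hy : y ∈ Subgroup.centralizer {x}) : y ^ P.NN = 1 := by
  haveI : Finite ↥(twistedG2 K P.e) := Subtype.finite
  have h := congrArg Subtype.val (pow_card_eq_one' (x := (⟨y, hy⟩ : ↥(Subgroup.centralizer {x}))))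
  obtain ⟨t, ht⟩ := P.E3_card_dvd hq hx
  rw [ht, pow_mul]
  rw [SubgroupClass.coe_pow] at h
  rw [show y ^ Nat.card ↥(Subgroup.centralizer {x}) = 1 from h, one_pow]

theorem E3_eq (hq : 4 < Nat.card K) {x y : ↥(twistedG2 K P.e)} (hx : x ∈ P.E3)
    (hy : y ∈ Subgroup.centralizer {x}) (hy1 : y ≠ 1) :
    y ∈ P.E3 ∧ Subgroup.centralizer {y} = Subgroup.centralizer {x} := by
  have hyE : y ∈ P.E3 := ⟨hy1, P.E3_mem hq hx hy⟩
  have hyx := Subgroup.mem_centralizer_singleton_iff.1 hy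
  refine ⟨hyE, le_antisymm (fun w hw => ?_) (fun w hw => ?_)⟩
  · exact Subgroup.mem_centralizer_singleton_iff.2
      (P.E3_comm hq hyE (Subgroup.mem_centralizer_singleton_iff.1 hw) hyx.symm)
  · exact Subgroup.mem_centralizer_singleton_iff.2
      (P.E3_comm hq hx (Subgroup.mem_centralizer_singleton_iff.1 hw) hyx)

theorem self_mem (x : ↥(twistedG2 K P.e)) : x ∈ Subgroup.centralizer {x} :=
  Subgroup.mem_centralizer_singleton_iff.2 rfl

theorem E3_cyclic (hq : 4 < Nat.card K) {x : ↥(twistedG2 K P.e)} (hx : x ∈ P.E3) :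
    IsCyclic ↥(Subgroup.centralizer {x}) := by
  haveI : Finite ↥(twistedG2 K P.e) := Subtype.finite
  letI : CommGroup ↥(Subgroup.centralizer {x}) :=
    { (inferInstance : Group ↥(Subgroup.centralizer {x})) with
      mul_comm := fun a b => Subtype.ext (P.E3_comm hq hx
        (Subgroup.mem_centralizer_singleton_iff.1 a.2) (Subgroup.mem_centralizer_singleton_iff.1 b.2)) }
  haveI : IsZGroup ↥(Subgroup.centralizer {x}) := by
    refine ⟨fun r hr S => ?_⟩
    haveI : Fact r.Prime := ⟨hr⟩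
    by_cases hd : r ∣ Nat.card ↥(Subgroup.centralizer {x})
    · obtain ⟨S', hS'⟩ := (S.isPGroup'.map (Subgroup.centralizer {x}).subtype).exists_le_sylow
      haveI := P.sylow_cyclic (P.NN_prime hr (hd.trans (P.E3_card_dvd hq hx))).1 S'
      have : IsCyclic ↥((S : Subgroup ↥(Subgroup.centralizer {x})).map
          (Subgroup.centralizer {x}).subtype) :=
        isCyclic_of_injective (Subgroup.inclusion hS') (Subgroup.inclusion_injective hS')
      exact ((S : Subgroup ↥(Subgroup.centralizer {x})).equivMapOfInjective _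
        (Subgroup.subtype_injective _)).isCyclic.2 this
    · have h1 : Nat.card ↥(S : Subgroup ↥(Subgroup.centralizer {x})) = 1 := by
        rw [S.card_eq_multiplicity, Nat.factorization_eq_zero_of_not_dvd hd, pow_zero]
      haveI : Subsingleton ↥(S : Subgroup ↥(Subgroup.centralizer {x})) :=
        (Nat.card_eq_one_iff_unique.1 h1).1
      exact isCyclic_of_subsingleton
  infer_instance

theorem E3_normalizer (hq : 4 < Nat.card K) {x : ↥(twistedG2 K P.e)} (hx : x ∈ P.E3)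
    {B : Subgroup ↥(twistedG2 K P.e)} (hB : B ≤ Subgroup.centralizer {x}) (hB1 : B ≠ ⊥) :
    Subgroup.normalizer (B : Set ↥(twistedG2 K P.e))
      = Subgroup.normalizer ((Subgroup.centralizer {x} : Subgroup ↥(twistedG2 K P.e)) :
          Set ↥(twistedG2 K P.e)) := by
  haveI : Finite ↥(twistedG2 K P.e) := Subtype.finite
  refine le_antisymm (fun n hn => ?_) (normalizer_le_of_cyclic (P.E3_cyclic hq hx) hB)
  obtain ⟨b, hb, hb1⟩ : ∃ b ∈ B, b ≠ 1 := by
    by_contra h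
    push Not at h
    exact hB1 ((Subgroup.eq_bot_iff_forall B).2 h)
  have hnb := (Subgroup.mem_normalizer_iff.1 hn b).1 hb
  obtain ⟨-, e1⟩ := P.E3_eq hq hx (hB hb) hb1
  obtain ⟨-, e2⟩ := P.E3_eq hq hx (hB hnb) (fun h => hb1 (by
    rwa [mul_inv_eq_one, mul_eq_left] at h))
  have hnn : ∀ w, w * b = b * w ↔
      n * w * n⁻¹ * (n * b * n⁻¹) = n * b * n⁻¹ * (n * w * n⁻¹) := fun w => by
    rw [show n * w * n⁻¹ * (n * b * n⁻¹) = n * (w * b) * n⁻¹ by group,
      show n * b * n⁻¹ * (n * w * n⁻¹) = n * (b * w) * n⁻¹ by group, mul_left_inj, mul_right_inj]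
  rw [Subgroup.mem_normalizer_iff]
  intro w
  conv_lhs => rw [← e1, Subgroup.mem_centralizer_singleton_iff, hnn]
  conv_rhs => rw [← e2, Subgroup.mem_centralizer_singleton_iff]

/-- The index of the centraliser in its normaliser is at most six. -/
theorem E3_index (hq : 4 < Nat.card K) {x : ↥(twistedG2 K P.e)} (hx : x ∈ P.E3) :
    ∃ w, 1 ≤ w ∧ w ≤ 6 ∧ Nat.card ↥(Subgroup.normalizer
      ((Subgroup.centralizer {x} : Subgroup ↥(twistedG2 K P.e)) : Set ↥(twistedG2 K P.e)))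
        = w * Nat.card ↥(Subgroup.centralizer {x}) := by
  classical
  haveI : Finite ↥(twistedG2 K P.e) := Subtype.finite
  set C := Subgroup.centralizer {x}
  set N := Subgroup.normalizer (C : Set ↥(twistedG2 K P.e))
  haveI hcyc := P.E3_cyclic hq hx
  have hne : orderOf x ≠ 1 := fun h => hx.1 (orderOf_eq_one_iff.1 h)
  obtain ⟨r, hr, hrd⟩ := Nat.exists_prime_and_dvd hne
  haveI : Fact r.Prime := ⟨hr⟩
  have hd := P.orderOf_NN (hrd.trans (orderOf_dvd_of_pow_eq_one hx.2))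
  obtain ⟨j, hj⟩ := exists_pow_order hr hrd
  set y := x ^ j with hy
  have hyC : y ∈ C := pow_mem (P.self_mem x) j
  have hy1 : y ≠ 1 := fun h => by
    rw [h, orderOf_one] at hj
    exact hr.one_lt.ne hj
  have key : ∀ n : ↥N, ∃ k : ℕ, (n : ↥(twistedG2 K P.e)) * y * (n : ↥(twistedG2 K P.e))⁻¹ = y ^ k
      ∧ ((k : ZMod r) ^ 6 = 1) := by
    intro n
    have hmem := (Subgroup.mem_normalizer_iff.1 n.2 y).1 hyC
    obtain ⟨k, hk⟩ := mem_powers_iff_mem_zpowers.2 (Components.mem_zpowers_of_pow_eq_one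
      (C := ↥C) (p := r) (z := ⟨y, hyC⟩) (y := ⟨_, hmem⟩) (by rw [← Subgroup.orderOf_coe]; exact hj)
      (Subtype.ext (show ((n : ↥(twistedG2 K P.e)) * y * (n : ↥(twistedG2 K P.e))⁻¹) ^ r = 1 by
        rw [conj_pow, ← hj, pow_orderOf_eq_one, mul_one, mul_inv_cancel])))
    have hk' : y ^ k = (n : ↥(twistedG2 K P.e)) * y * (n : ↥(twistedG2 K P.e))⁻¹ :=
      congrArg Subtype.val hk
    refine ⟨k, hk'.symm, Spectral.conj_pow_six hd (M := P.gl7 y) (g := P.gl7 n) ?_ ?_ ?_⟩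
    · rw [← map_pow, ← hj, pow_orderOf_eq_one, map_one]
    · exact fun h => hy1 (P.gl7_injective (h.trans (map_one _).symm))
    · rw [← map_pow, hk', map_mul, map_mul, map_inv]
  choose k hk1 hk6 using key
  obtain ⟨-, eC⟩ := P.E3_eq hq hx hyC hy1
  let f : ↥N ⧸ C.subgroupOf N → {z : ZMod r // z ^ 6 = 1} := fun a => ⟨(k a.out : ZMod r), hk6 _⟩
  have hf : Function.Injective f := by
    intro a b h
    have h' : ((k a.out : ℕ) : ZMod r) = ((k b.out : ℕ) : ZMod r) := congrArg Subtype.val h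
    have e : y ^ k a.out = y ^ k b.out := by
      rw [pow_eq_pow_iff_modEq, hj, ← ZMod.natCast_eq_natCast_iff]; exact h'
    rw [← hk1, ← hk1] at e
    rw [← a.out_eq', ← b.out_eq', QuotientGroup.eq, Subgroup.mem_subgroupOf]
    refine le_of_eq eC ?_
    rw [Subgroup.mem_centralizer_singleton_iff]
    push_cast
    set A := ((Quotient.out a : ↥N) : ↥(twistedG2 K P.e))
    set B := ((Quotient.out b : ↥N) : ↥(twistedG2 K P.e))
    calc A⁻¹ * B * y = A⁻¹ * (B * y * B⁻¹) * B := by group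
      _ = A⁻¹ * (A * y * A⁻¹) * B := by rw [e]
      _ = _ := by group
  have hcard : Nat.card (↥N ⧸ C.subgroupOf N) ≤ 6 := by
    refine (Nat.card_le_card_of_injective f hf).trans ?_
    rw [Nat.card_eq_fintype_card, Fintype.card_subtype]
    refine le_trans (Finset.card_le_card fun z hz => ?_)
      ((Multiset.toFinset_card_le _).trans (Polynomial.card_nthRoots 6 (1 : ZMod r)))
    rw [Multiset.mem_toFinset, Polynomial.mem_nthRoots (by norm_num)]
    exact (Finset.mem_filter.1 hz).2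
  have hCN : C ≤ N := Subgroup.le_normalizer
  refine ⟨Nat.card (↥N ⧸ C.subgroupOf N), Nat.card_pos, hcard, ?_⟩
  rw [Subgroup.card_eq_card_quotient_mul_card_subgroup (C.subgroupOf N),
    Nat.card_congr (Subgroup.subgroupOfEquivOfLe hCN).toEquiv]

/-- The elements conjugate to nontrivial elements of `C(x)`. -/
def fam (x : ↥(twistedG2 K P.e)) : Set ↥(twistedG2 K P.e) :=
  conjUnion {z | z ∈ Subgroup.centralizer {x} ∧ z ≠ 1}

theorem fam_sub (hq : 4 < Nat.card K) {x : ↥(twistedG2 K P.e)} (hx : x ∈ P.E3) :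
    P.fam x ⊆ P.E3 := by
  rintro _ ⟨g, z, ⟨hz, hz1⟩, rfl⟩
  exact ⟨fun h => hz1 (by rwa [mul_inv_eq_one, mul_eq_left] at h),
    by rw [conj_pow, P.E3_mem hq hx hz, mul_one, mul_inv_cancel]⟩

theorem fam_card (hq : 4 < Nat.card K) {x : ↥(twistedG2 K P.e)} (hx : x ∈ P.E3) :
    ∃ w, 1 ≤ w ∧ w ≤ 6 ∧
      Nat.card ↥(Subgroup.normalizer ((Subgroup.centralizer {x} : Subgroup ↥(twistedG2 K P.e)) :
        Set ↥(twistedG2 K P.e))) = w * Nat.card ↥(Subgroup.centralizer {x}) ∧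
      (P.fam x).ncard * (w * Nat.card ↥(Subgroup.centralizer {x}))
        = Nat.card ↥(twistedG2 K P.e) * (Nat.card ↥(Subgroup.centralizer {x}) - 1) := by
  haveI : Finite ↥(twistedG2 K P.e) := Subtype.finite
  obtain ⟨w, h1, h6, hN⟩ := P.E3_index hq hx
  refine ⟨w, h1, h6, hN, ?_⟩
  set C := Subgroup.centralizer {x}
  set N := Subgroup.normalizer (C : Set ↥(twistedG2 K P.e))
  have hst : ∀ n ∈ N, ∀ z ∈ ({z | z ∈ C ∧ z ≠ 1} : Set ↥(twistedG2 K P.e)),
      n * z * n⁻¹ ∈ ({z | z ∈ C ∧ z ≠ 1} : Set ↥(twistedG2 K P.e)) := fun n hn z hz =>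
    ⟨(Subgroup.mem_normalizer_iff.1 hn z).1 hz.1,
      fun h => hz.2 (by rwa [mul_inv_eq_one, mul_eq_left] at h)⟩
  rw [fam, card_conjUnion N _ hst ?_, ← hN]
  · have hX : ({z | z ∈ C ∧ z ≠ 1} : Set ↥(twistedG2 K P.e)).ncard = Nat.card ↥C - 1 := by
      rw [show ({z | z ∈ C ∧ z ≠ 1} : Set ↥(twistedG2 K P.e)) = (C : Set _) \ {1} from rfl,
        Set.ncard_sdiff_singleton_of_mem (one_mem C), ← Nat.card_coe_set_eq]
      rfl
    rw [hX, mul_right_comm, mul_comm N.index, N.card_mul_index]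
  · rintro g z ⟨hz, hz1⟩ ⟨hgz, hgz1⟩
    obtain ⟨-, e1⟩ := P.E3_eq hq hx hz hz1
    obtain ⟨-, e2⟩ := P.E3_eq hq hx hgz hgz1
    rw [Subgroup.mem_normalizer_iff]
    intro u
    conv_lhs => rw [show u ∈ C ↔ u ∈ Subgroup.centralizer {z} by rw [e1],
      Subgroup.mem_centralizer_singleton_iff]
    conv_rhs => rw [show g * u * g⁻¹ ∈ C ↔ g * u * g⁻¹ ∈ Subgroup.centralizer {g * z * g⁻¹} by rw [e2],
      Subgroup.mem_centralizer_singleton_iff,
      show g * u * g⁻¹ * (g * z * g⁻¹) = g * (u * z) * g⁻¹ by group,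
      show g * z * g⁻¹ * (g * u * g⁻¹) = g * (z * u) * g⁻¹ by group, mul_left_inj, mul_right_inj]

theorem fam_disjoint (hq : 4 < Nat.card K) {x x' : ↥(twistedG2 K P.e)} (hx : x ∈ P.E3)
    (hx' : x' ∈ P.E3)
    (hne : Nat.card ↥(Subgroup.centralizer {x}) ≠ Nat.card ↥(Subgroup.centralizer {x'})) :
    Disjoint (P.fam x) (P.fam x') := by
  refine disjoint_conjUnion fun g z hz hgz => hne ?_
  obtain ⟨-, e1⟩ := P.E3_eq hq hx hz.1 hz.2
  obtain ⟨-, e2⟩ := P.E3_eq hq hx' hgz.1 hgz.2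
  rw [← e1, ← e2]
  refine Nat.card_congr ((Equiv.ofBijective _ (MulAut.conj g).bijective).subtypeEquiv fun u => ?_)
  show u ∈ Subgroup.centralizer {z} ↔ g * u * g⁻¹ ∈ Subgroup.centralizer {g * z * g⁻¹}
  rw [Subgroup.mem_centralizer_singleton_iff, Subgroup.mem_centralizer_singleton_iff,
      show g * u * g⁻¹ * (g * z * g⁻¹) = g * (u * z) * g⁻¹ by group,
      show g * z * g⁻¹ * (g * u * g⁻¹) = g * (z * u) * g⁻¹ by group, mul_left_inj, mul_right_inj]

theorem exists_E3_prime {r : ℕ} (hr : r.Prime) (h : r ∣ P.NN) :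
    ∃ x ∈ P.E3, orderOf x = r := by
  haveI : Fact r.Prime := ⟨hr⟩
  haveI : Finite ↥(twistedG2 K P.e) := Subtype.finite
  obtain ⟨x, hx⟩ := exists_prime_orderOf_dvd_card' (G := ↥(twistedG2 K P.e)) r
    (by rw [P.card_T']; exact Dvd.dvd.mul_left h _)
  exact ⟨x, ⟨fun e => by rw [e, orderOf_one] at hx; exact hr.one_lt.ne hx,
    orderOf_dvd_iff_pow_eq_one.1 (hx ▸ h)⟩, hx⟩

theorem mem_fam_of_dvd (hq : 4 < Nat.card K) {x y : ↥(twistedG2 K P.e)} (hx : x ∈ P.E3)
    (hy : y ∈ P.E3) {r : ℕ} (hr : r.Prime) (hry : r ∣ orderOf y)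
    (hrC : r ∣ Nat.card ↥(Subgroup.centralizer {x})) : y ∈ P.fam x := by
  haveI : Fact r.Prime := ⟨hr⟩
  haveI : Finite ↥(twistedG2 K P.e) := Subtype.finite
  obtain ⟨⟨a, haC⟩, ha⟩ := exists_prime_orderOf_dvd_card' (G := ↥(Subgroup.centralizer {x})) r hrC
  rw [← Subgroup.orderOf_coe] at ha
  obtain ⟨j, hj⟩ := exists_pow_order hr hry
  obtain ⟨g, hg⟩ := conj_into_zpowers
    (P.sylow_cyclic (P.NN_prime hr (hrC.trans (P.E3_card_dvd hq hx))).1) hj ha
  have hz : g * y ^ j * g⁻¹ ∈ Subgroup.centralizer {x} := Subgroup.zpowers_le.2 haC hg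
  have hz1 : g * y ^ j * g⁻¹ ≠ 1 := fun h => by
    rw [mul_inv_eq_one, mul_eq_left] at h
    rw [h, orderOf_one] at hj
    exact hr.one_lt.ne hj
  obtain ⟨-, e⟩ := P.E3_eq hq hx hz hz1
  refine ⟨g⁻¹, g * y * g⁻¹, ⟨?_, fun h => hy.1 (by rwa [mul_inv_eq_one, mul_eq_left] at h)⟩,
    by group⟩
  rw [← e, Subgroup.mem_centralizer_singleton_iff,
    show g * y * g⁻¹ * (g * y ^ j * g⁻¹) = g * (y * y ^ j) * g⁻¹ by group, ← pow_succ' y j,
    pow_succ y j]
  group

/-- The Sylow subgroups are contained in the centralisers. -/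
theorem E3_pow_dvd (hq : 4 < Nat.card K) {x : ↥(twistedG2 K P.e)} (hx : x ∈ P.E3) {r k : ℕ}
    (hr : r.Prime) (hrC : r ∣ Nat.card ↥(Subgroup.centralizer {x})) (hk : r ^ k ∣ P.NN) :
    r ^ k ∣ Nat.card ↥(Subgroup.centralizer {x}) := by
  haveI : Fact r.Prime := ⟨hr⟩
  haveI : Finite ↥(twistedG2 K P.e) := Subtype.finite
  obtain ⟨⟨a, haC⟩, ha⟩ := exists_prime_orderOf_dvd_card' (G := ↥(Subgroup.centralizer {x})) r hrC
  rw [← Subgroup.orderOf_coe] at ha
  obtain ⟨S, hS⟩ := (IsPGroup.of_card (p := r) (G := ↥(Subgroup.zpowers a)) (n := 1)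
    ((Nat.card_zpowers a).trans (ha.trans (pow_one r).symm))).exists_le_sylow
  haveI := P.sylow_cyclic (P.NN_prime hr (hrC.trans (P.E3_card_dvd hq hx))).1 S
  letI : CommGroup ↥(S : Subgroup ↥(twistedG2 K P.e)) := IsCyclic.commGroup
  have ha1 : a ≠ 1 := fun h => by
    change orderOf a = r at ha
    rw [h, orderOf_one] at ha; exact hr.one_lt.ne ha
  obtain ⟨-, e⟩ := P.E3_eq hq hx haC ha1
  have hle : (S : Subgroup ↥(twistedG2 K P.e)) ≤ Subgroup.centralizer {x} := by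
    intro s hs
    rw [← e, Subgroup.mem_centralizer_singleton_iff]
    exact congrArg Subtype.val (mul_comm (⟨s, hs⟩ : ↥(S : Subgroup ↥(twistedG2 K P.e)))
      ⟨a, hS (Subgroup.mem_zpowers a)⟩)
  refine dvd_trans ?_ (Subgroup.card_dvd_of_le hle)
  refine S.pow_dvd_card_of_pow_dvd_card ?_
  rw [P.card_T']
  exact Dvd.dvd.mul_left hk _

/-- The two families. -/
theorem two_families (hq : 4 < Nat.card K)
    (hcount : 6 * P.NN * P.E3.ncard
      = Nat.card ↥(twistedG2 K P.e) * (2 * P.NN - 2 * Nat.card K - 2)) :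
    ∃ x x', x ∈ P.E3 ∧ x' ∈ P.E3 ∧
      Nat.card ↥(Subgroup.centralizer {x}) * Nat.card ↥(Subgroup.centralizer {x'}) = P.NN ∧
      Nat.card ↥(Subgroup.centralizer {x}) + Nat.card ↥(Subgroup.centralizer {x'})
        = 2 * Nat.card K + 2 ∧
      P.E3 = P.fam x ∪ P.fam x' ∧
      Nat.card ↥(Subgroup.normalizer ((Subgroup.centralizer {x} : Subgroup ↥(twistedG2 K P.e)) :
        Set ↥(twistedG2 K P.e))) = 6 * Nat.card ↥(Subgroup.centralizer {x}) ∧
      Nat.card ↥(Subgroup.normalizer ((Subgroup.centralizer {x'} : Subgroup ↥(twistedG2 K P.e)) :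
        Set ↥(twistedG2 K P.e))) = 6 * Nat.card ↥(Subgroup.centralizer {x'}) := by
  classical
  haveI : Finite ↥(twistedG2 K P.e) := Subtype.finite
  set T := Nat.card ↥(twistedG2 K P.e) with hT
  have hTpos : 0 < T := Nat.card_pos
  have h27 := P.q_ge hq
  have hNN := P.NN_eq
  have hN703 : 703 ≤ P.NN := by nlinarith
  have hlt : 3 * P.E3.ncard < T := by
    have : T * (2 * P.NN - 2 * Nat.card K - 2) < T * (2 * P.NN) :=
      Nat.mul_lt_mul_of_pos_left (by omega) hTpos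
    rw [← hcount] at this
    nlinarith
  have hprime : ∀ {x}, x ∈ P.E3 → ∃ r, r.Prime ∧ r ∣ orderOf x ∧
      r ∣ Nat.card ↥(Subgroup.centralizer {x}) ∧ 7 ≤ Nat.card ↥(Subgroup.centralizer {x}) := by
    intro x hx
    obtain ⟨r, hr, hrd⟩ := Nat.exists_prime_and_dvd
      (show orderOf x ≠ 1 from fun h => hx.1 (orderOf_eq_one_iff.1 h))
    haveI : Fact r.Prime := ⟨hr⟩
    have hdC : r ∣ Nat.card ↥(Subgroup.centralizer {x}) :=
      hrd.trans (Subgroup.orderOf_dvd_natCard _ (P.self_mem x))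
    refine ⟨r, hr, hrd, hdC, ?_⟩
    have hrN := hdC.trans (P.E3_card_dvd hq hx)
    have h6 := P.orderOf_NN hrN
    have hle := Nat.le_of_dvd (by have := hr.two_le; omega)
      (h6 ▸ ZMod.orderOf_dvd_card_sub_one (p := r) (a := (Fintype.card K : ZMod r)) (fun h => by
        rw [h, orderOf_zero] at h6; omega))
    have hrC := Nat.le_of_dvd Nat.card_pos hdC
    omega
  have hlow : ∀ {x}, x ∈ P.E3 → T ≤ 7 * (P.fam x).ncard := by
    intro x hx
    obtain ⟨w, h1, h6, -, hf⟩ := P.fam_card hq hx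
    obtain ⟨-, -, -, -, h7⟩ := hprime hx
    set c := Nat.card ↥(Subgroup.centralizer {x})
    set f := (P.fam x).ncard
    obtain ⟨d, hd⟩ : ∃ d, c = d + 1 := ⟨c - 1, by omega⟩
    rw [hd, Nat.add_sub_cancel, ← hT] at hf
    have h1' : f * (w * (d + 1)) ≤ f * (6 * (d + 1)) := by gcongr
    rw [hf] at h1'
    have h2' : 6 * (d + 1) ≤ 7 * d := by omega
    have : T * d ≤ 7 * f * d := by nlinarith
    exact Nat.le_of_mul_le_mul_right this (by omega)
  obtain ⟨r, hr, hrN⟩ := Nat.exists_prime_and_dvd (show P.NN ≠ 1 by omega)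
  obtain ⟨x, hx, hxr⟩ := P.exists_E3_prime hr hrN
  set c := Nat.card ↥(Subgroup.centralizer {x}) with hc
  by_cases hcN : c = P.NN
  · exfalso
    have hE : P.E3 = P.fam x := by
      refine Set.Subset.antisymm (fun y hy => ?_) (P.fam_sub hq hx)
      obtain ⟨s, hs, hsy, -, -⟩ := hprime hy
      refine P.mem_fam_of_dvd hq hx hy hs hsy ?_
      rw [← hc, hcN]
      exact hsy.trans (orderOf_dvd_of_pow_eq_one hy.2)
    obtain ⟨w, h1, h6, -, hf⟩ := P.fam_card hq hx
    rw [← hE, ← hc, hcN, ← hT] at hf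
    refine one_class_absurd h27 hNN h6 (Nat.eq_of_mul_eq_mul_left hTpos ?_)
    calc T * (6 * (P.NN - 1)) = 6 * (P.E3.ncard * (w * P.NN)) := by rw [hf]; ring
      _ = w * (6 * P.NN * P.E3.ncard) := by ring
      _ = _ := by rw [hcount]; ring
  have hout : ∀ {s : ℕ} {z}, s.Prime → z ∈ P.E3 → orderOf z = s → ∀ {u}, u ∈ P.E3 →
      ¬ s ∣ Nat.card ↥(Subgroup.centralizer {u}) →
      Nat.card ↥(Subgroup.centralizer {u}) ≠ Nat.card ↥(Subgroup.centralizer {z}) := by
    intro s z _ _ hzs u _ hnd e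
    exact hnd (e ▸ hzs ▸ Subgroup.orderOf_dvd_natCard _ (P.self_mem z))
  have hdiv : ∀ {n : ℕ}, n ∣ P.NN → ¬ P.NN ∣ n → (∀ s k, s.Prime → s ∣ n → s ^ k ∣ P.NN → s ^ k ∣ n) →
      ∃ s, s.Prime ∧ s ∣ P.NN ∧ ¬ s ∣ n := by
    intro n _ hne hfull
    by_contra h
    push Not at h
    refine hne ((Nat.dvd_iff_prime_pow_dvd_dvd _ _).2 fun s k hs hsk => ?_)
    rcases Nat.eq_zero_or_pos k with hk | hk
    · simp [hk]
    · exact hfull s k hs (h s hs ((dvd_pow_self s hk.ne').trans hsk)) hsk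
  obtain ⟨s, hs, hsN, hsc⟩ := hdiv (P.E3_card_dvd hq hx)
    (fun h => hcN (Nat.dvd_antisymm (P.E3_card_dvd hq hx) h))
    (fun s k hs h1 h2 => P.E3_pow_dvd hq hx hs h1 h2)
  obtain ⟨x', hx', hxs⟩ := P.exists_E3_prime hs hsN
  set c' := Nat.card ↥(Subgroup.centralizer {x'}) with hc'
  have hne : c ≠ c' := hout hs hx' hxs hx hsc
  have hd2 := P.fam_disjoint hq hx hx' hne
  have hcop : Nat.Coprime c c' := by
    refine Nat.coprime_of_dvd fun t ht h1 h2 => hne ?_
    obtain ⟨z, hz, hzt⟩ := P.exists_E3_prime ht (h1.trans (P.E3_card_dvd hq hx))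
    have m1 := P.mem_fam_of_dvd hq hx hz ht hzt.symm.dvd h1
    have m2 := P.mem_fam_of_dvd hq hx' hz ht hzt.symm.dvd h2
    exact absurd m2 (Set.disjoint_left.1 hd2 m1)
  have hprod : c * c' ∣ P.NN :=
    hcop.mul_dvd_of_dvd_of_dvd (P.E3_card_dvd hq hx) (P.E3_card_dvd hq hx')
  have hcc : c * c' = P.NN := by
    by_contra hne2
    obtain ⟨t, ht, htN, htn⟩ := hdiv hprod (fun h => hne2 (Nat.dvd_antisymm hprod h))
      (fun t k ht h1 h2 => by
        rcases ht.dvd_mul.1 h1 with h | h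
        · exact (P.E3_pow_dvd hq hx ht h h2).mul_right _
        · exact (P.E3_pow_dvd hq hx' ht h h2).mul_left _)
    obtain ⟨x'', hx'', hxt⟩ := P.exists_E3_prime ht htN
    have d13 := P.fam_disjoint hq hx hx'' (hout ht hx'' hxt hx fun h => htn (h.mul_right _))
    have d23 := P.fam_disjoint hq hx' hx'' (hout ht hx'' hxt hx' fun h => htn (h.mul_left _))
    have hle : (P.fam x).ncard + (P.fam x').ncard + (P.fam x'').ncard ≤ P.E3.ncard := by
      rw [← Set.ncard_union_eq hd2, ← Set.ncard_union_eq (Set.disjoint_union_left.2 ⟨d13, d23⟩)]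
      exact Set.ncard_le_ncard (Set.union_subset
        (Set.union_subset (P.fam_sub hq hx) (P.fam_sub hq hx')) (P.fam_sub hq hx''))
    have := hlow hx
    have := hlow hx'
    have := hlow hx''
    omega
  have hE : P.E3 = P.fam x ∪ P.fam x' := by
    refine Set.Subset.antisymm (fun y hy => ?_)
      (Set.union_subset (P.fam_sub hq hx) (P.fam_sub hq hx'))
    obtain ⟨t, ht, hty, -, -⟩ := hprime hy
    have htN : t ∣ c * c' := by rw [hcc]; exact hty.trans (orderOf_dvd_of_pow_eq_one hy.2)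
    rcases ht.dvd_mul.1 htN with h | h
    · exact Or.inl (P.mem_fam_of_dvd hq hx hy ht hty h)
    · exact Or.inr (P.mem_fam_of_dvd hq hx' hy ht hty h)
  obtain ⟨w, hw1, hw6, hN, hf⟩ := P.fam_card hq hx
  obtain ⟨w', hw1', hw6', hN', hf'⟩ := P.fam_card hq hx'
  obtain ⟨-, -, -, -, h7⟩ := hprime hx
  obtain ⟨-, -, -, -, h7'⟩ := hprime hx'
  rw [hE, Set.ncard_union_eq hd2, ← hcc] at hcount
  rw [← hc, ← hT] at hf
  rw [← hc', ← hT] at hf'
  rw [← hc] at hN h7
  rw [← hc'] at hN' h7'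
  set f := (P.fam x).ncard
  set f' := (P.fam x').ncard
  have hqN : 2 * Nat.card K + 2 < 2 * (c * c') := by rw [hcc]; nlinarith
  have h703 : 703 ≤ c * c' := by rw [hcc]; exact hN703
  obtain ⟨D, hD⟩ := Nat.exists_eq_add_of_le hqN.le
  rw [show 2 * (c * c') - 2 * Nat.card K - 2 = D by omega] at hcount
  have hw : w = 6 ∧ w' = 6 := by
    by_contra hcon
    have k1 : 6 * c' + 5 * c ≤ c * c' := two_class_key h7 h7' h703
    have k2 : 6 * c + 5 * c' ≤ c * c' := by
      have := two_class_key h7' h7 (by rw [mul_comm]; exact h703)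
      rwa [mul_comm c'] at this
    zify [show 1 ≤ c by omega, show 1 ≤ c' by omega] at hf hf'
    have hcount' : (6 : ℤ) * (c * c') * (f + f') = T * (2 * (c * c') - 2 * Nat.card K - 2) := by
      zify at hcount hD
      linear_combination hcount - (T : ℤ) * hD
    zify at k1 k2 h7 h7' hTpos hw6 hw6' h27
    have hf0 : (0 : ℤ) ≤ f := by positivity
    have hf0' : (0 : ℤ) ≤ f' := by positivity
    rcases Nat.lt_or_ge w 6 with hlw | hge
    · zify at hlw
      have a1 : (T : ℤ) * (c - 1) ≤ f * (5 * c) := by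
        rw [← hf]; exact mul_le_mul_of_nonneg_left (by nlinarith) hf0
      have a2 : (T : ℤ) * (c' - 1) ≤ f' * (6 * c') := by
        rw [← hf']; exact mul_le_mul_of_nonneg_left (by nlinarith) hf0'
      nlinarith [mul_le_mul_of_nonneg_left k1 hTpos.le,
        mul_le_mul_of_nonneg_left a1 (show (0 : ℤ) ≤ 6 * c' by positivity),
        mul_le_mul_of_nonneg_left a2 (show (0 : ℤ) ≤ 5 * c by positivity)]
    · have hlw : w' < 6 := by
        rcases Nat.lt_or_ge w' 6 with h | h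
        · exact h
        · exact absurd ⟨by omega, by omega⟩ hcon
      zify at hlw
      have a1 : (T : ℤ) * (c - 1) ≤ f * (6 * c) := by
        rw [← hf]; exact mul_le_mul_of_nonneg_left (by nlinarith) hf0
      have a2 : (T : ℤ) * (c' - 1) ≤ f' * (5 * c') := by
        rw [← hf']; exact mul_le_mul_of_nonneg_left (by nlinarith) hf0'
      nlinarith [mul_le_mul_of_nonneg_left k2 hTpos.le,
        mul_le_mul_of_nonneg_left a1 (show (0 : ℤ) ≤ 5 * c' by positivity),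
        mul_le_mul_of_nonneg_left a2 (show (0 : ℤ) ≤ 6 * c by positivity)]
  obtain ⟨rfl, rfl⟩ := hw
  refine ⟨x, x', hx, hx', hcc, ?_, hE, hN, hN'⟩
  obtain ⟨d, hd⟩ : ∃ d, c = d + 1 := ⟨c - 1, by omega⟩
  obtain ⟨d', hd'⟩ : ∃ d', c' = d' + 1 := ⟨c' - 1, by omega⟩
  rw [show c - 1 = d by omega, hd] at hf
  rw [show c' - 1 = d' by omega, hd'] at hf'
  rw [← hc, ← hc', hd, hd']
  rw [hd, hd'] at hcount hD
  refine Nat.eq_of_mul_eq_mul_left hTpos ?_
  have h : T * d * (d' + 1) + T * d' * (d + 1) = T * D := by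
    rw [← hcount, ← hf, ← hf']; ring
  nlinarith [hD]

end Par

end Cfsg.Agent.H38.Ree
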