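import Cfsg.Agent.H38.Ree.Cent
import Cfsg.Agent.H38.Ree.Perfect

/-!
The action of `²G₂(q)` on the cosets of the Borel subgroup: three-point stabilisers.
-/
set_option autoImplicit false
set_option maxRecDepth 100000

namespace Cfsg.Agent.H38.Ree

open Cfsg.Lie Cfsg.Agent.H37.RootSys Cfsg.Agent.H37.Twist Cfsg.Agent.H37.NormalForm

variable {K : Type*} [Field K]

theorem mem_borel {g : ↥(chevG2.group K)} :
    (g : GL chevG2.Idx K) ∈ chevG2.borelSubgroup K ↔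
      ∃ u ∈ (Q K).sys.U, ∃ h ∈ (Q K).sys.H, g = u * h := by
  rw [← Subgroup.mem_subgroupOf (H := chevG2.borelSubgroup K), ← (Q K).amb_B]
  constructor
  · rintro ⟨u, hu, h, hh, e⟩; exact ⟨u, hu, h, hh, e⟩
  · rintro ⟨u, hu, h, hh, e⟩; exact ⟨u, hu, h, hh, e⟩

namespace Par

variable [Fintype K] (P : Par K)
include P

/-- The Borel subgroup of the twisted group. -/
abbrev BT : Subgroup ↥(twistedG2 K P.e) :=
  (chevG2.borelSubgroup K ⊓ twistedG2 K P.e).subgroupOf (twistedG2 K P.e)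

/-- The inclusion. -/
abbrev inc : ↥(twistedG2 K P.e) →* ↥(chevG2.group K) := Subgroup.inclusion P.T_le

theorem inc_inj : Function.Injective P.inc := Subgroup.inclusion_injective P.T_le

theorem inc_fixed (g : ↥(twistedG2 K P.e)) : P.endo.σ (P.inc g) = P.inc g := P.mem_T.1 g.2

/-- An element of the twisted group from a fixed element. -/
def lift (g : ↥(chevG2.group K)) (h : P.endo.σ g = g) : ↥(twistedG2 K P.e) :=
  ⟨g, P.mem_T.2 h⟩

theorem inc_lift (g : ↥(chevG2.group K)) (h : P.endo.σ g = g) : P.inc (P.lift g h) = g := rfl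

theorem mem_BT {g : ↥(twistedG2 K P.e)} :
    g ∈ P.BT ↔ ∃ u ∈ (Q K).sys.U, ∃ h ∈ (Q K).sys.H, P.inc g = u * h := by
  rw [Subgroup.mem_subgroupOf, Subgroup.mem_inf, ← mem_borel]
  exact ⟨fun h => h.1, fun h => ⟨h, g.2⟩⟩

theorem fixed_parts {u h : ↥(chevG2.group K)} (hu : u ∈ (Q K).sys.U) (hh : h ∈ (Q K).sys.H)
    (hf : P.endo.σ (u * h) = u * h) : P.endo.σ u = u ∧ P.endo.σ h = h := by
  rw [map_mul] at hf
  have e : u⁻¹ * P.endo.σ u = h * (P.endo.σ h)⁻¹ := by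
    rw [eq_mul_inv_iff_mul_eq, mul_assoc, hf, inv_mul_cancel_left]
  have h1 := U_inter_H (mul_mem (inv_mem hu) (P.endo.σ_U hu))
    (mul_mem hh (inv_mem (P.endo.σ_h hh))) e
  rw [h1] at e
  exact ⟨(inv_mul_eq_one.1 h1).symm, (mul_inv_eq_one.1 e.symm).symm⟩

theorem nT_exists : ∃ n : ↥(twistedG2 K P.e),
    ∃ h ∈ (Q K).sys.H, P.inc n = h * (Q K).sys.rep (w0 K) := by
  obtain ⟨h, hh, hm⟩ := P.n_mem
  exact ⟨P.lift _ (P.TG_iff.1 hm), h, hh, rfl⟩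

/-- The representative of the nontrivial cell. -/
noncomputable def nT : ↥(twistedG2 K P.e) := P.nT_exists.choose

theorem nT_spec : ∃ h ∈ (Q K).sys.H, P.inc P.nT = h * (Q K).sys.rep (w0 K) :=
  P.nT_exists.choose_spec

theorem nT_not_mem : P.nT ∉ P.BT := by
  intro h
  obtain ⟨k, hk, e⟩ := P.nT_spec
  obtain ⟨u, hu, h', hh', e'⟩ := P.mem_BT.1 h
  have hw := ((Q K).amb.toNormalForm.unique (w := w0 K) (w' := 1) (u := 1) (u' := u) (h := k)
    (h' := h') (v := 1) (v' := 1) (one_mem _) hu hk hh' (one_mem _) (one_mem _) (by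
      show 1 * k * (Q K).sys.rep (w0 K) * 1 = u * h' * (Q K).sys.rep 1 * 1
      rw [(Q K).sys.rep_one, mul_one, mul_one, mul_one, one_mul, ← e, e'])).1
  exact w0_ne hw

/-- A nontrivial fixed element of `U` conjugated by `n` lies outside `B`. -/
theorem conj_U_not_mem {x : ↥(twistedG2 K P.e)} (hx : P.inc x ∈ (Q K).sys.U)
    (hB : P.nT⁻¹ * x * P.nT ∈ P.BT) : x = 1 := by
  obtain ⟨k, hk, e⟩ := P.nT_spec
  obtain ⟨u, hu, h, hh, e'⟩ := P.mem_BT.1 hB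
  set r := (Q K).sys.rep (w0 K)
  have hv : r⁻¹ * (k⁻¹ * P.inc x * k) * r ∈ XS (Q K).sys.x (↑(negSet chevG2) : Set ℕ) := by
    have h1 : k⁻¹ * P.inc x * k ∈ (Q K).sys.U := by
      have := h_conj_U (inv_mem hk) hx
      rwa [inv_inv] at this
    obtain ⟨l, hl, el⟩ := (Q K).sys.rep_inv (w0 K)
    rw [w0_inv] at el
    have h2 := rep_conj_U h1
    have h3 : l * (r * (k⁻¹ * P.inc x * k) * r⁻¹) * l⁻¹ ∈
        XS (Q K).sys.x (↑(negSet chevG2) : Set ℕ) := by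
      refine conj_mem_XS (fun i hi t => ?_) h2
      obtain ⟨t', e''⟩ :=
        (Q K).sys.h_conj l hl i (mem_negSet.1 (Finset.mem_coe.1 hi)).1 t
      rw [e'']
      exact x_mem_XS hi _
    rwa [show r⁻¹ * (k⁻¹ * P.inc x * k) * r = l * (r * (k⁻¹ * P.inc x * k) * r⁻¹) * l⁻¹ by
      conv_lhs => rw [show r⁻¹ * (k⁻¹ * P.inc x * k) * r = r⁻¹ * (k⁻¹ * P.inc x * k) * r⁻¹⁻¹ by
        group, show r⁻¹ = l * r from el]
      group]
  rw [map_mul, map_mul, map_inv, e,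
    show (k * r)⁻¹ * P.inc x * (k * r) = r⁻¹ * (k⁻¹ * P.inc x * k) * r by group] at e'
  have h1 := neg_cell hv hu hh e'
  refine P.inc_inj ?_
  rw [map_one]
  calc P.inc x = k * r * (r⁻¹ * (k⁻¹ * P.inc x * k) * r) * (k * r)⁻¹ := by group
    _ = 1 := by rw [h1]; group

theorem stab_coset (g : ↥(twistedG2 K P.e)) (f : ↥(twistedG2 K P.e)) :
    f ∈ MulAction.stabilizer ↥(twistedG2 K P.e) (g : ↥(twistedG2 K P.e) ⧸ P.BT) ↔
      g⁻¹ * f * g ∈ P.BT := by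
  rw [MulAction.mem_stabilizer_iff, MulAction.Quotient.smul_coe, QuotientGroup.eq, smul_eq_mul]
  rw [← inv_mem_iff]
  simp only [mul_inv_rev, inv_inv, mul_assoc]

/-- Cosets other than `B` have the form `u n B`. -/
theorem coset_form {g : ↥(twistedG2 K P.e)} (hg : g ∉ P.BT) :
    ∃ u : ↥(twistedG2 K P.e), P.inc u ∈ (Q K).sys.U ∧
      (g : ↥(twistedG2 K P.e) ⧸ P.BT) = (u * P.nT : ↥(twistedG2 K P.e)) := by
  rcases P.cells (P.inc_fixed g) with ⟨u, h, hu, -, hh, -, e⟩ |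
    ⟨u, h, v, hu, huf, hh, hv, hvf, e⟩
  · exact absurd (P.mem_BT.2 ⟨u, hu, h, hh, e⟩) hg
  obtain ⟨k, hk, en⟩ := P.nT_spec
  refine ⟨P.lift u huf, hu, QuotientGroup.eq.2 ?_⟩
  set r := (Q K).sys.rep (w0 K)
  obtain ⟨l, hl, el⟩ := (Q K).sys.rep_inv (w0 K)
  rw [w0_inv] at el
  have hH : r⁻¹ * (h⁻¹ * k) * r ∈ (Q K).sys.H := by
    rw [show r⁻¹ * (h⁻¹ * k) * r = r⁻¹ * (h⁻¹ * k) * r⁻¹⁻¹ by group, el,
      show l * r * (h⁻¹ * k) * (l * r)⁻¹ = l * (r * (h⁻¹ * k) * r⁻¹) * l⁻¹ by group]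
    exact mul_mem (mul_mem hl ((Q K).sys.rep_conj_H _ (mul_mem (inv_mem hh) hk))) (inv_mem hl)
  refine P.mem_BT.2 ⟨v⁻¹, inv_mem hv, r⁻¹ * (h⁻¹ * k) * r, hH, ?_⟩
  rw [map_mul, map_inv, map_mul, inc_lift, e, en]
  group

theorem B_inter (f : ↥(twistedG2 K P.e)) (h1 : f ∈ P.BT) (h2 : P.nT⁻¹ * f * P.nT ∈ P.BT) :
    ∃ y, P.inc f = P.hp y := by
  obtain ⟨u, hu, h, hh, e⟩ := P.mem_BT.1 h1
  obtain ⟨huf, hhf⟩ := P.fixed_parts hu hh (by rw [← e]; exact P.inc_fixed f)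
  obtain ⟨y, rfl⟩ := P.exists_hp hh hhf
  refine ⟨y, ?_⟩
  obtain ⟨k, hk, en⟩ := P.nT_spec
  set r := (Q K).sys.rep (w0 K)
  have hx : f = P.lift u huf * P.lift (P.hp y) hhf := P.inc_inj (by rw [map_mul]; exact e)
  have hHB : P.nT⁻¹ * P.lift (P.hp y) hhf * P.nT ∈ P.BT := by
    refine P.mem_BT.2 ⟨1, one_mem _, P.inc (P.nT⁻¹ * P.lift (P.hp y) hhf * P.nT), ?_,
      (one_mul _).symm⟩
    rw [map_mul, map_mul, map_inv, inc_lift, en]
    obtain ⟨l, hl, el⟩ := (Q K).sys.rep_inv (w0 K)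
    rw [w0_inv] at el
    rw [show (k * r)⁻¹ * P.hp y * (k * r) = r⁻¹ * (k⁻¹ * P.hp y * k) * r⁻¹⁻¹ by group, el,
      show l * r * (k⁻¹ * P.hp y * k) * (l * r)⁻¹
        = l * (r * (k⁻¹ * P.hp y * k) * r⁻¹) * l⁻¹ by group]
    exact mul_mem (mul_mem hl ((Q K).sys.rep_conj_H _
      (mul_mem (mul_mem (inv_mem hk) hh) hk))) (inv_mem hl)
  have hU : P.nT⁻¹ * P.lift u huf * P.nT ∈ P.BT := by
    have := mul_mem h2 (inv_mem hHB)
    rw [hx] at this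
    convert this using 1
    group
  have := P.conj_U_not_mem (x := P.lift u huf) hu hU
  rw [hx, this, one_mul]
  rfl

/-- The stabiliser of `B`, `nB`, `u n B`. -/
theorem base_stab {u : ↥(twistedG2 K P.e)} (hu : P.inc u ∈ (Q K).sys.U) (hu1 : u ≠ 1)
    {f : ↥(twistedG2 K P.e)} (h1 : f ∈ P.BT) (h2 : P.nT⁻¹ * f * P.nT ∈ P.BT)
    (h3 : (u * P.nT)⁻¹ * f * (u * P.nT) ∈ P.BT) : f = 1 ∨ P.inc f = P.aG := by
  obtain ⟨y, hy⟩ := P.B_inter f h1 h2
  have hconj : P.nT⁻¹ * (u⁻¹ * f * u * f⁻¹) * P.nT ∈ P.BT := by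
    have := mul_mem h3 (inv_mem h2)
    convert this using 1
    group
  have hmem : P.inc (u⁻¹ * f * u * f⁻¹) ∈ (Q K).sys.U := by
    rw [show u⁻¹ * f * u * f⁻¹ = u⁻¹ * (f * u * f⁻¹) by group, map_mul, map_inv, map_mul, map_mul,
      map_inv, hy]
    exact mul_mem (inv_mem hu) (h_conj_U (P.hp_mem y) hu)
  have hc := P.conj_U_not_mem hmem hconj
  have hc' : P.hp y * P.inc u = P.inc u * P.hp y := by
    rw [← hy, ← map_mul, ← map_mul]
    refine congrArg P.inc ?_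
    have : u * (u⁻¹ * f * u * f⁻¹) * f = u * 1 * f := by rw [hc]
    rw [mul_one] at this
    rw [← this]; group
  obtain ⟨a, c, d, eu⟩ := (P.fixed_iff hu).1 (P.inc_fixed u)
  by_cases hy1 : y = 1
  · exact Or.inl (P.inc_inj (by rw [hy, hy1, map_one, map_one]))
  rw [eu] at hc'
  obtain ⟨rfl, rfl, hc0⟩ := P.hp_commute hy1 hc'
  right
  have hy2 : y ^ 2 = 1 := by
    by_contra h
    exact hu1 (P.inc_inj (by rw [eu, hc0 h, map_one]; exact P.U1_zero))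
  have h3' := congrArg Units.val hy2
  rw [Units.val_pow_eq_pow_val, Units.val_one, sq_eq_one_iff] at h3'
  rcases h3' with h' | h'
  · exact absurd (Units.ext h') hy1
  · rw [hy, show y = -1 from Units.ext (by simpa using h')]; rfl

theorem stab_translate (g x : ↥(twistedG2 K P.e)) (f : ↥(twistedG2 K P.e)) :
    g⁻¹ * f * g ∈ MulAction.stabilizer ↥(twistedG2 K P.e) (x : ↥(twistedG2 K P.e) ⧸ P.BT) ↔
      f ∈ MulAction.stabilizer ↥(twistedG2 K P.e) ((g * x : ↥(twistedG2 K P.e)) :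
        ↥(twistedG2 K P.e) ⧸ P.BT) := by
  rw [P.stab_coset, P.stab_coset]
  simp only [mul_inv_rev, mul_assoc]

theorem stab_le_two (x y z : ↥(twistedG2 K P.e) ⧸ P.BT) (hxy : x ≠ y) (hxz : x ≠ z)
    (hyz : y ≠ z) :
    Nat.card ↥(MulAction.stabilizer ↥(twistedG2 K P.e) x ⊓
      MulAction.stabilizer ↥(twistedG2 K P.e) y ⊓
      MulAction.stabilizer ↥(twistedG2 K P.e) z) ≤ 2 := by
  classical
  obtain ⟨g, rfl⟩ := QuotientGroup.mk_surjective x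
  obtain ⟨g2, rfl⟩ := QuotientGroup.mk_surjective y
  obtain ⟨g3, rfl⟩ := QuotientGroup.mk_surjective z
  have hg2 : g⁻¹ * g2 ∉ P.BT := fun h => hxy (QuotientGroup.eq.2 h)
  obtain ⟨u0, hu0, e0⟩ := P.coset_form hg2
  set t := g * u0 with ht
  have hu0B : u0 ∈ P.BT := P.mem_BT.2 ⟨_, hu0, 1, one_mem _, (mul_one _).symm⟩
  have ey : (g2 : ↥(twistedG2 K P.e) ⧸ P.BT) = ((t * P.nT : ↥(twistedG2 K P.e))) := by
    have e := congrArg (fun q : ↥(twistedG2 K P.e) ⧸ P.BT => g • q) e0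
    simp only [MulAction.Quotient.smul_coe, smul_eq_mul, mul_inv_cancel_left] at e
    rw [e, ht, mul_assoc]
  have ex : (g : ↥(twistedG2 K P.e) ⧸ P.BT) = ((t * 1 : ↥(twistedG2 K P.e))) :=
    QuotientGroup.eq.2 (by rw [mul_one, ht, inv_mul_cancel_left]; exact hu0B)
  have hg3 : t⁻¹ * g3 ∉ P.BT := fun h => hxz (ex.trans (QuotientGroup.eq.2 (by rwa [mul_one])))
  obtain ⟨u, hu, e3⟩ := P.coset_form hg3
  have ez : (g3 : ↥(twistedG2 K P.e) ⧸ P.BT) = ((t * (u * P.nT) : ↥(twistedG2 K P.e))) := by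
    have e := congrArg (fun q : ↥(twistedG2 K P.e) ⧸ P.BT => t • q) e3
    simpa only [MulAction.Quotient.smul_coe, smul_eq_mul, mul_inv_cancel_left] using e
  have hu1 : u ≠ 1 := by
    rintro rfl
    rw [one_mul] at ez
    exact hyz (ey.trans ez.symm)
  rw [ex, ey, ez]
  have key : ∀ f ∈ (MulAction.stabilizer ↥(twistedG2 K P.e)
        ((t * 1 : ↥(twistedG2 K P.e)) : ↥(twistedG2 K P.e) ⧸ P.BT) ⊓
      MulAction.stabilizer ↥(twistedG2 K P.e)
        ((t * P.nT : ↥(twistedG2 K P.e)) : ↥(twistedG2 K P.e) ⧸ P.BT) ⊓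
      MulAction.stabilizer ↥(twistedG2 K P.e)
        ((t * (u * P.nT) : ↥(twistedG2 K P.e)) : ↥(twistedG2 K P.e) ⧸ P.BT)),
      f = 1 ∨ t⁻¹ * f * t = P.lift P.aG (P.σ_hp _) := by
    rintro f ⟨⟨h1, h2⟩, h3⟩
    replace h1 := (P.stab_coset _ _).1 ((P.stab_translate t 1 f).2 h1)
    replace h2 := (P.stab_coset _ _).1 ((P.stab_translate t P.nT f).2 h2)
    replace h3 := (P.stab_coset _ _).1 ((P.stab_translate t (u * P.nT) f).2 h3)
    rw [inv_one, one_mul, mul_one] at h1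
    rcases P.base_stab hu hu1 h1 h2 h3 with h | h
    · left
      calc f = t * (t⁻¹ * f * t) * t⁻¹ := by group
        _ = 1 := by rw [h]; group
    · exact Or.inr (P.inc_inj h)
  set S := (MulAction.stabilizer ↥(twistedG2 K P.e)
        ((t * 1 : ↥(twistedG2 K P.e)) : ↥(twistedG2 K P.e) ⧸ P.BT) ⊓
      MulAction.stabilizer ↥(twistedG2 K P.e)
        ((t * P.nT : ↥(twistedG2 K P.e)) : ↥(twistedG2 K P.e) ⧸ P.BT) ⊓
      MulAction.stabilizer ↥(twistedG2 K P.e)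
        ((t * (u * P.nT) : ↥(twistedG2 K P.e)) : ↥(twistedG2 K P.e) ⧸ P.BT))
  let F : ↥S → Fin 2 := fun f => if f.1 = 1 then 0 else 1
  have hF : Function.Injective F := by
    intro f1 f2 h
    simp only [F] at h
    refine Subtype.ext ?_
    rcases key _ f1.2 with e1 | e1 <;> rcases key _ f2.2 with e2 | e2
    · rw [e1, e2]
    · rw [if_pos e1] at h
      split at h
      · rw [e1, ‹f2.1 = 1›]
      · simp at h
    · rw [if_pos e2] at h
      split at h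
      · rw [e2, ‹f1.1 = 1›]
      · simp at h
    · exact mul_left_cancel (mul_right_cancel (e1.trans e2.symm))
  simpa using Nat.card_le_card_of_injective F hF

theorem exists_two :
    ∃ x y z : ↥(twistedG2 K P.e) ⧸ P.BT, x ≠ y ∧ x ≠ z ∧ y ≠ z ∧
      Nat.card ↥(MulAction.stabilizer ↥(twistedG2 K P.e) x ⊓
        MulAction.stabilizer ↥(twistedG2 K P.e) y ⊓
        MulAction.stabilizer ↥(twistedG2 K P.e) z) = 2 := by
  haveI : Finite ↥(twistedG2 K P.e) := Subtype.finite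
  set u := P.lift (P.xJ 1) (P.σ_xJ 1)
  set a := P.lift P.aG (P.σ_hp _) with ha
  have huB : u ∈ P.BT := P.mem_BT.2 ⟨_, P.xJ_mem 1, 1, one_mem _, (mul_one _).symm⟩
  have hxy : ((1 : ↥(twistedG2 K P.e)) : ↥(twistedG2 K P.e) ⧸ P.BT) ≠ P.nT := fun h =>
    P.nT_not_mem (by simpa using QuotientGroup.eq.1 h)
  have hxz : ((1 : ↥(twistedG2 K P.e)) : ↥(twistedG2 K P.e) ⧸ P.BT)
      ≠ ((u * P.nT : ↥(twistedG2 K P.e))) := fun h =>
    P.nT_not_mem (by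
      have h1 := QuotientGroup.eq.1 h
      rw [inv_one, one_mul] at h1
      simpa using mul_mem (inv_mem huB) h1)
  have hyz : (P.nT : ↥(twistedG2 K P.e) ⧸ P.BT) ≠ ((u * P.nT : ↥(twistedG2 K P.e))) := fun h => by
    have h1 := QuotientGroup.eq.1 h
    rw [← mul_assoc] at h1
    exact one_ne_zero (P.xJ_eq_one (congrArg P.inc (P.conj_U_not_mem (P.xJ_mem 1) h1) |>.trans
      (map_one _)))
  refine ⟨_, _, _, hxy, hxz, hyz, le_antisymm (P.stab_le_two _ _ _ hxy hxz hyz) ?_⟩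
  have hau : u⁻¹ * a * u = a := by
    refine P.inc_inj ?_
    rw [map_mul, map_mul, map_inv]
    show (P.xJ 1)⁻¹ * P.aG * P.xJ 1 = P.aG
    rw [mul_assoc, (P.aG_xJ 1).eq, inv_mul_cancel_left]
  have haB : a ∈ P.BT := P.mem_BT.2 ⟨1, one_mem _, _, P.hp_mem _, (one_mul _).symm⟩
  have han : P.nT⁻¹ * a * P.nT = a := by
    obtain ⟨k, hk, en⟩ := P.nT_spec
    refine P.inc_inj ?_
    rw [map_mul, map_mul, map_inv, en]
    show (k * _)⁻¹ * P.aG * (k * _) = P.aG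
    have h1 : P.aG * k = k * P.aG := P.H_comm (P.hp_mem (-1)) hk
    calc (k * (Q K).sys.rep (w0 K))⁻¹ * P.aG * (k * (Q K).sys.rep (w0 K))
        = ((Q K).sys.rep (w0 K))⁻¹ * (k⁻¹ * (P.aG * k)) * (Q K).sys.rep (w0 K) := by group
      _ = ((Q K).sys.rep (w0 K))⁻¹ *
          ((Q K).sys.rep (w0 K) * P.aG * ((Q K).sys.rep (w0 K))⁻¹) * (Q K).sys.rep (w0 K) := by
        rw [P.aG_rep, h1, inv_mul_cancel_left]
      _ = P.aG := by group
  set S := MulAction.stabilizer ↥(twistedG2 K P.e)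
      ((1 : ↥(twistedG2 K P.e)) : ↥(twistedG2 K P.e) ⧸ P.BT) ⊓
    MulAction.stabilizer ↥(twistedG2 K P.e) (P.nT : ↥(twistedG2 K P.e) ⧸ P.BT) ⊓
    MulAction.stabilizer ↥(twistedG2 K P.e)
      ((u * P.nT : ↥(twistedG2 K P.e)) : ↥(twistedG2 K P.e) ⧸ P.BT)
  have haS : a ∈ S := by
    refine ⟨⟨?_, ?_⟩, ?_⟩ <;> refine (P.stab_coset _ _).2 ?_
    · simpa using haB
    · rw [han]; exact haB
    · rw [show (u * P.nT)⁻¹ * a * (u * P.nT) = P.nT⁻¹ * (u⁻¹ * a * u) * P.nT by group, hau, han]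
      exact haB
  haveI : Nontrivial ↥S := ⟨⟨⟨a, haS⟩, 1, fun h => P.aG_ne (congrArg P.inc
    (congrArg Subtype.val h) |>.trans (map_one _))⟩⟩
  exact Finite.one_lt_card

end Par

end Cfsg.Agent.H38.Ree
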