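import Cfsg.Agent.H38.Ree.Opp

/-!
The fixed part of the torus of `G₂(K)` lies in the twisted group.
-/
set_option autoImplicit false
set_option maxRecDepth 100000

namespace Cfsg.Agent.H38.Ree

open Cfsg.Lie Cfsg.Agent.H37.RootSys Cfsg.Agent.H37.Twist

variable {K : Type*} [Field K]

theorem chT_two (c : Fin chevG2.rank → Kˣ) (r : ℕ) :
    chT c r = c (0 : Fin 2) ^ chevG2.cartan 0 r * c (1 : Fin 2) ^ chevG2.cartan 1 r :=
  Fin.prod_univ_two (fun m : Fin 2 => c m ^ chevG2.cartan m.val r)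

theorem pe_ok : ∀ x : chevG2.Idx,
    Chevalley.pe (D := chevG2) 8 x
      = Chevalley.pe (D := chevG2) 7 x + 3 * Chevalley.pe (D := chevG2) 6 x ∧
    Chevalley.pe (D := chevG2) 10 x
      = Chevalley.pe (D := chevG2) 7 x + Chevalley.pe (D := chevG2) 6 x := by decide +kernel

theorem simple_ok : chevG2.simple 0 = 7 ∧ chevG2.simple 1 = 6 := by decide +kernel

/-- The parameter vector with coordinates `a b`. -/
def vec (a b : Kˣ) : Fin chevG2.rank → Kˣ := fun i => if i.val = 0 then a else b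

theorem tG_inj : Function.Injective (tG (Q K)) := by
  rw [injective_iff_map_eq_one]
  intro c hc
  have h : ∀ r, r < 12 → chT c r = 1 := fun r hr => by
    have e := tG_conj (Q K) c (r := r) hr (1 : K)
    rw [hc, one_mul, inv_one, mul_one, mul_one] at e
    exact Units.ext (xG_inj (Q K) hr e).symm
  have h9 := h 9 (by omega)
  have h11 := h 11 (by omega)
  rw [chT_two, show chevG2.cartan 0 9 = 1 by decide +kernel,
    show chevG2.cartan 1 9 = 0 by decide +kernel, zpow_one, zpow_zero, mul_one] at h9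
  rw [chT_two, show chevG2.cartan 0 11 = 0 by decide +kernel,
    show chevG2.cartan 1 11 = 1 by decide +kernel, zpow_one, zpow_zero, one_mul] at h11
  funext i
  rcases i with ⟨_ | _ | k, hk⟩
  · exact h9
  · exact h11
  · exact absurd hk (by show ¬ k + 2 < 2; omega)

theorem hUG_pair (t s : Kˣ) :
    hUG (Q K) 8 (t : K) * hUG (Q K) 10 (s : K) = tG (Q K) (vec (t * s) (t ^ 3 * s)) := by
  refine Subtype.ext ?_
  show (Q K).K.hU K 8 (t : K) * (Q K).K.hU K 10 (s : K) = Chevalley.torus chevG2 K _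
  rw [(Q K).K.hU_diag K (show 8 < 12 by omega), (Q K).K.hU_diag K (show 10 < 12 by omega)]
  show Chevalley.dU _ * Chevalley.dU _ = Chevalley.dU _
  rw [Chevalley.dU_mul]
  congr 1
  funext x
  show t ^ Chevalley.pe 8 x * s ^ Chevalley.pe 10 x = _
  rw [(pe_ok x).1, (pe_ok x).2]
  show _ = ∏ m : Fin 2, vec (t * s) (t ^ 3 * s) m ^ Chevalley.pe (chevG2.simple m.val) x
  rw [Fin.prod_univ_two, show ((0 : Fin 2) : ℕ) = 0 from rfl, show ((1 : Fin 2) : ℕ) = 1 from rfl,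
    simple_ok.1, simple_ok.2]
  simp only [vec]
  simp [mul_zpow, zpow_add, zpow_mul, mul_assoc, mul_left_comm]

theorem orth_ok : orthB chevG2 8 10 = true := by decide +kernel

/-- The two words of the torus involution. -/
def involWords : List (ℕ × ℤ) × List (ℕ × ℤ) :=
  ([(7, 0), (6, 0), (8, 0), (9, 1), (10, 0), (11, 1),
    (4, 0), (5, 0), (3, 0), (2, -1), (1, 0), (0, -1),
    (7, 1), (6, 1), (8, 2), (9, 2), (10, 1), (11, 1),
    (4, 1), (5, 1), (3, -2), (2, 2), (1, -1), (0, 1)],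
   [(7, -1), (4, 1), (7, -1), (7, -1), (4, 1), (7, -1),
    (6, -1), (5, 1), (6, -1), (6, -1), (5, 1), (6, -1)])

theorem invol_check : ((List.range 14).all fun j => H37.Isog.Data.divB 3
    (Chevalley.wordCol chevG2 involWords.1 j ++
      H37.Isog.Data.negV (Chevalley.wordCol chevG2 involWords.2 j))) = true := by
  decide +kernel

theorem words_lt : (∀ p ∈ involWords.1, p.1 < 12) ∧ ∀ p ∈ involWords.2, p.1 < 12 := by
  decide +kernel

theorem targetsOK : Chevalley.TargetsOK chevG2 := (Q ℚ).K.targetsOK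

theorem wordMat_eq (w : List (ℕ × ℤ)) (hw : ∀ p ∈ w, p.1 < 12) :
    chevG2.wordMat K (w.map fun p => (p.1, (p.2 : K)))
      = (Chevalley.wordR chevG2 ℤ w).map (Int.castRingHom K) := by
  rw [Chevalley.wordR_map]
  simp only [ChevalleyDatum.wordMat, Chevalley.wordR, List.map_map]
  refine congrArg List.prod (List.map_congr_left fun p hp => ?_)
  exact x_eq_xR (hw p hp) _

theorem val_wordProd (w : List (ℕ × K)) :
    (((w.map fun p => xe p.1 p.2).prod : ↥(chevG2.group K)) : GL chevG2.Idx K)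
      = (Q K).K.wU K w := by
  rw [Subgroup.val_list_prod, List.map_map]; rfl

theorem invol_eq [CharP K 3] :
    ((involWords.1.map fun p => ((p.1, (p.2 : K)) : ℕ × K)).map fun p => xe p.1 p.2).prod
      = ((involWords.2.map fun p => ((p.1, (p.2 : K)) : ℕ × K)).map fun p => xe p.1 p.2).prod := by
  refine Subtype.ext (Units.ext ?_)
  rw [val_wordProd, val_wordProd, (Q K).K.coe_wU, (Q K).K.coe_wU,
    wordMat_eq _ words_lt.1, wordMat_eq _ words_lt.2]
  ext row col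
  show ((_ : ℤ) : K) = ((_ : ℤ) : K)
  rw [← sub_eq_zero, ← Int.cast_sub, CharP.intCast_eq_zero_iff K 3,
    Chevalley.wordR_eq_get targetsOK _ words_lt.1,
    Chevalley.wordR_eq_get targetsOK _ words_lt.2]
  have hj : Chevalley.idxNat col < 14 := Chevalley.idxNat_lt col
  have h := H37.Isog.dvd_get (List.all_eq_true.1 invol_check _ (List.mem_range.2 hj))
    (Chevalley.idxNat row)
  rw [Chevalley.get_append, H37.Isog.Data.negV, Chevalley.get_scale] at h
  simpa [sub_eq_add_neg] using h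

namespace Par

variable [Fintype K] (P : Par K)
include P

/-- The parametrisation of the fixed torus. -/
def hp : Kˣ →* ↥(chevG2.group K) :=
  (tG (Q K)).comp
    { toFun := fun y => vec (y ^ P.e) y
      map_one' := by funext i; simp [vec]
      map_mul' := fun a b => by funext i; simp only [vec, Pi.mul_apply]; split_ifs <;>
        simp [mul_pow] }

theorem hp_mem (y : Kˣ) : P.hp y ∈ (Q K).sys.H := tG_mem _ _

theorem hp_inj : Function.Injective P.hp := fun a b h => by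
  have := congrFun (tG_inj h) ⟨1, by decide⟩
  simpa [vec] using this

theorem units_ti_th (y : Kˣ) : (y ^ P.e) ^ (3 * P.e) = y :=
  Units.ext (by simpa [th, ti] using P.ti_th (y : K))

theorem units_th_ti (y : Kˣ) : (y ^ (3 * P.e)) ^ P.e = y :=
  Units.ext (by simpa [th, ti] using P.th_ti (y : K))

theorem units_pow_card (y : Kˣ) : y ^ (3 * P.e ^ 2) = y :=
  Units.ext (by simpa using P.pow_card (y : K))

/-- The exponents of the endomorphism on the fundamental roots. -/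
def expo (i : ℕ) : ℕ := if i = 0 then 3 * P.e else P.e

theorem noSign : P.endo.NoSign P.expo := by
  intro i hi
  obtain ⟨s0, s1⟩ := simple_ok
  have hl : H37.Isog.dataG2.lm 7 = 3 ∧ H37.Isog.dataG2.lm 6 = 1 := by decide
  rcases i with _ | _ | k
  · refine ⟨fun t => ?_, ?_⟩ <;> show P.f (chevG2.simple 0) _ = _ <;> rw [s0, f, hl.1]
    · rw [← pow_mul, mul_comm]; rfl
    · rw [P.odd.neg_one_pow]; ring
  · refine ⟨fun t => ?_, ?_⟩ <;> show P.f (chevG2.simple 1) _ = _ <;> rw [s1, f, hl.2, pow_one]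
    · rfl
    · exact P.odd.neg_one_pow
  · exact absurd hi (by show ¬ k + 2 < 2; omega)

theorem hat_eq (c : Fin chevG2.rank → Kˣ) :
    P.endo.hat P.expo c ⟨1, by decide⟩ = c ⟨0, by decide⟩ ^ (3 * P.e) ∧
    P.endo.hat P.expo c ⟨0, by decide⟩ = c ⟨1, by decide⟩ ^ P.e :=
  ⟨P.endo.hat_apply P.expo c ⟨0, by decide⟩ ⟨1, by decide⟩ rfl,
   P.endo.hat_apply P.expo c ⟨1, by decide⟩ ⟨0, by decide⟩ rfl⟩

theorem σ_hp (y : Kˣ) : P.endo.σ (P.hp y) = P.hp y := by
  show P.endo.σ (tG (Q K) _) = _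
  rw [P.endo.σ_tG P.noSign]
  refine congrArg _ ?_
  obtain ⟨h1, h0⟩ := P.hat_eq (vec (y ^ P.e) y)
  funext i
  rcases i with ⟨_ | _ | k, hk⟩
  · exact h0
  · exact h1.trans (P.units_ti_th y)
  · exact absurd hk (by show ¬ k + 2 < 2; omega)

theorem exists_hp {h : ↥(chevG2.group K)} (hh : h ∈ (Q K).sys.H) (hf : P.endo.σ h = h) :
    ∃ y, P.hp y = h := by
  obtain ⟨c, rfl⟩ := exists_tG (Q K) hh
  rw [P.endo.σ_tG P.noSign] at hf
  obtain ⟨-, h0⟩ := P.hat_eq c
  rw [tG_inj hf] at h0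
  refine ⟨c ⟨1, by decide⟩, ?_⟩
  show tG (Q K) (vec (c ⟨1, by decide⟩ ^ P.e) (c ⟨1, by decide⟩)) = tG (Q K) c
  refine congrArg _ ?_
  funext i
  rcases i with ⟨_ | _ | k, hk⟩
  · exact h0.symm
  · rfl
  · exact absurd hk (by show ¬ k + 2 < 2; omega)

/-- The character of the fixed torus on a root. -/
def χ (r : ℕ) (y : Kˣ) : Kˣ := (y ^ P.e) ^ chevG2.cartan 0 r * y ^ chevG2.cartan 1 r

theorem hp_conj_xe {r : ℕ} (hr : r < 12) (y : Kˣ) (t : K) :
    P.hp y * xe r t * (P.hp y)⁻¹ = xe r ((P.χ r y : K) * t) := by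
  show tG (Q K) _ * _ * (tG (Q K) _)⁻¹ = _
  rw [tG_conj (Q K) _ hr, chT_two]
  rfl

theorem hp_conj_U1 (y : Kˣ) (a c d : K) : P.hp y * P.U1 a c d * (P.hp y)⁻¹
    = P.U1 ((P.χ 6 y : K) * a) ((P.χ 8 y : K) * c) ((P.χ 9 y : K) * d) := by
  have e : P.hp y * P.U1 a c d * (P.hp y)⁻¹ = N ((P.χ 6 y : K) * a) ((P.χ 7 y : K) * P.th a)
      ((P.χ 8 y : K) * c) ((P.χ 9 y : K) * d) ((P.χ 10 y : K) * (P.ti c + a * P.ti a))
      ((P.χ 11 y : K) * (P.ti d + a ^ 2 * P.ti a)) := by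
    rw [U1, N, N]
    simp only [← P.hp_conj_xe (show 6 < 12 by omega), ← P.hp_conj_xe (show 7 < 12 by omega),
      ← P.hp_conj_xe (show 8 < 12 by omega), ← P.hp_conj_xe (show 9 < 12 by omega),
      ← P.hp_conj_xe (show 10 < 12 by omega), ← P.hp_conj_xe (show 11 < 12 by omega)]
    group
  have hf : P.endo.σ (P.hp y * P.U1 a c d * (P.hp y)⁻¹) = P.hp y * P.U1 a c d * (P.hp y)⁻¹ := by
    rw [map_mul, map_mul, map_inv, σ_hp, σ_U1]
  rw [e] at hf ⊢
  obtain ⟨x, z, w, ew⟩ := (P.fixed_iff (N_mem _ _ _ _ _ _)).1 hf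
  rw [ew]
  obtain ⟨e1, -, e3, e4, -, -⟩ := N_inj ew
  rw [← e1, ← e3, ← e4]

theorem pair8_mem (c : K) : xe 8 c * xe 10 (P.ti c) ∈ P.TG := by
  have : P.U1 0 c 0 = xe 8 c * xe 10 (P.ti c) := by
    simp [U1, N, th, ti, xe_zero, P.e_pos.ne']
  exact this ▸ P.U1_TG 0 c 0

theorem pair3_mem (c : K) : xe 3 (-c) * xe 1 (-P.ti c) ∈ P.TG := by
  have : P.V1 0 c 0 = xe 3 (-c) * xe 1 (-P.ti c) := by
    rw [V1, show P.U1 0 c 0 = xe 8 c * xe 10 (P.ti c) by
      simp [U1, N, th, ti, xe_zero, P.e_pos.ne'], map_mul, ψ_xe (by omega), ψ_xe (by omega)]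
  exact this ▸ P.V1_TG 0 c 0

theorem nJ_mem (t : K) : nUG (Q K) 8 t * nUG (Q K) 10 (P.ti t) ∈ P.TG := by
  rw [nUG_mul_pair (Q K) orth_ok, show chevG2.neg 8 = 3 by decide +kernel,
    show chevG2.neg 10 = 1 by decide +kernel,
    show (P.ti t)⁻¹ = P.ti t⁻¹ from (inv_pow t _).symm]
  exact mul_mem (mul_mem (P.pair8_mem t) (P.pair3_mem t⁻¹)) (P.pair8_mem t)

theorem sq_mem (y : Kˣ) : P.hp (y ^ 2) ∈ P.TG := by
  have key : ∀ t : Kˣ, P.hp (t ^ (3 + 3 * P.e)) ∈ P.TG := by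
    intro t
    have h1 : P.ti (-1 : K) = -1 := by rw [P.ti_neg]; simp
    have hm := mul_mem (P.nJ_mem (t : K)) (P.nJ_mem (-1))
    rw [h1, show nUG (Q K) 8 (t : K) * nUG (Q K) 10 (P.ti (t : K)) *
        (nUG (Q K) 8 (-1) * nUG (Q K) 10 (-1))
      = nUG (Q K) 8 (t : K) * (nUG (Q K) 10 (P.ti (t : K)) * nUG (Q K) 8 (-1)) *
        nUG (Q K) 10 (-1) by group,
      ← (commute_nUG (Q K) orth_ok (-1 : K) (P.ti (t : K))).eq,
      show nUG (Q K) 8 (t : K) * (nUG (Q K) 8 (-1) * nUG (Q K) 10 (P.ti (t : K))) *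
        nUG (Q K) 10 (-1)
      = (nUG (Q K) 8 (t : K) * nUG (Q K) 8 (-1)) *
        (nUG (Q K) 10 (P.ti (t : K)) * nUG (Q K) 10 (-1)) by group,
      ← hUG_eq, ← hUG_eq, show P.ti (t : K) = ((t ^ (3 * P.e) : Kˣ) : K) from
        (Units.val_pow_eq_pow_val t _).symm, hUG_pair] at hm
    convert hm using 2
    show tG (Q K) (vec ((t ^ (3 + 3 * P.e)) ^ P.e) (t ^ (3 + 3 * P.e))) = _
    rw [show (t ^ (3 + 3 * P.e)) ^ P.e = t * t ^ (3 * P.e) from ?_, ← pow_add]
    rw [← pow_mul, show (3 + 3 * P.e) * P.e = 3 * P.e + 3 * P.e ^ 2 by ring, pow_add,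
      P.units_pow_card]
    exact mul_comm _ _
  obtain ⟨k, hk⟩ : ∃ k, P.e = k + 1 := ⟨P.e - 1, by have := P.e_pos; omega⟩
  have e : (y ^ k)⁻¹ ^ (3 + 3 * P.e) = y ^ 2 := by
    rw [inv_pow, ← pow_mul, inv_eq_iff_mul_eq_one, ← pow_add]
    have hc : k * (3 + 3 * P.e) + 2 = 3 * P.e ^ 2 - 1 := by
      rw [hk]
      refine (Nat.sub_eq_of_eq_add ?_).symm
      ring
    rw [hc]
    refine mul_right_cancel (b := y) ?_
    rw [← pow_succ, one_mul, Nat.sub_add_cancel (Nat.one_le_iff_ne_zero.2 (by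
      have := P.e_pos; positivity)), P.units_pow_card]
  exact e ▸ key _

theorem neg_one_mem : P.hp (-1) ∈ P.TG := by
  haveI := P.char
  have hU : ∀ t u v : K, ((reeWordU P.e t u v).map fun p => xe p.1 p.2).prod ∈ P.TG :=
    fun t u v => P.word_mem ⟨t, u, v, Or.inl rfl⟩
  have hV : ∀ t u v : K, ((reeWordV P.e t u v).map fun p => xe p.1 p.2).prod ∈ P.TG :=
    fun t u v => P.word_mem ⟨t, u, v, Or.inr rfl⟩
  have hn : ((-1 : K)) ^ P.e = -1 := P.odd.neg_one_pow
  have hn1 : ((-1 : K)) ^ (P.e + 1) = 1 := by rw [pow_succ, hn]; ring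
  have hn2 : ((-1 : K)) ^ (2 * P.e + 1) = -1 := (Odd.neg_one_pow ⟨P.e, rfl⟩)
  have h := mul_mem (mul_mem (mul_mem (hU 0 0 1) (hV 0 0 1)) (hU 1 1 1)) (hV (-1) 1 (-1))
  have e1 : P.hp (-1) = hUG (Q K) 7 (-1) * hUG (Q K) 6 (-1) := by
    obtain ⟨s0, s1⟩ := simple_ok
    have hx : P.hp (-1) = tG (Q K) (Pi.mulSingle (⟨0, by decide⟩ : Fin chevG2.rank) (-1 : Kˣ) *
        Pi.mulSingle (⟨1, by decide⟩ : Fin chevG2.rank) (-1 : Kˣ)) := by
      show tG (Q K) (vec ((-1 : Kˣ) ^ P.e) (-1)) = _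
      refine congrArg _ ?_
      funext i
      rcases i with ⟨_ | _ | k, hk⟩
      · simp [vec, P.odd.neg_one_pow, Pi.mulSingle_apply, Fin.ext_iff]
      · simp [vec, Pi.mulSingle_apply, Fin.ext_iff]
      · exact absurd hk (by show ¬ k + 2 < 2; omega)
    rw [hx, map_mul, tG_single, tG_single, s0, s1, Units.val_neg, Units.val_one]
  have e2 : P.hp (-1) = ((reeWordU P.e (0 : K) 0 1).map fun p => xe p.1 p.2).prod *
      ((reeWordV P.e (0 : K) 0 1).map fun p => xe p.1 p.2).prod *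
      ((reeWordU P.e (1 : K) 1 1).map fun p => xe p.1 p.2).prod *
      ((reeWordV P.e (-1 : K) 1 (-1)).map fun p => xe p.1 p.2).prod := by
    rw [← List.prod_append, ← List.prod_append, ← List.prod_append, ← List.map_append,
      ← List.map_append, ← List.map_append, e1, hUG_eq, hUG_eq, nUG_eq, nUG_eq]
    have hi : -((-1 : K))⁻¹ = 1 := by rw [inv_neg, inv_one, neg_neg]
    have hneg : ∀ r, r < 12 → chevG2.neg r = 11 - r := by decide +kernel
    rw [hi, hneg 7 (by omega), hneg 6 (by omega)]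
    have hw := invol_eq (K := K)
    simp only [reeWordU, reeWordV, ChevalleyDatum.negWord, g2a, g2b, g2ab, g2aab, g2aaab,
      g2aaabb, List.map_cons, List.map_nil, List.cons_append, List.nil_append, zero_pow P.e_pos.ne',
      zero_pow (Nat.succ_ne_zero _), one_pow, hn, hn1, hn2, add_zero, zero_add, neg_zero,
      show chevG2.negIdx.getD 7 0 = 4 by rfl, show chevG2.negIdx.getD 6 0 = 5 by rfl,
      show chevG2.negIdx.getD 8 0 = 3 by rfl, show chevG2.negIdx.getD 9 0 = 2 by rfl,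
      show chevG2.negIdx.getD 10 0 = 1 by rfl, show chevG2.negIdx.getD 11 0 = 0 by rfl,
      neg_neg, neg_add_rev, List.prod_cons, List.prod_nil, mul_one]
    simp only [involWords, List.map_cons, List.map_nil, List.prod_cons, List.prod_nil, mul_one,
      Int.cast_neg, Int.cast_one, Int.cast_zero, Int.cast_ofNat] at hw
    rw [show (1 : K) + 1 = 2 by norm_num, show (-1 : K) + -1 = -2 by norm_num] at *
    simp only [neg_neg, mul_assoc] at hw ⊢
    exact hw.symm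
  rwa [← e2] at h

theorem units_dichotomy (y : Kˣ) : ∃ z : Kˣ, y = z ^ 2 ∨ y = -(z ^ 2) := by
  haveI := P.char
  have h2 : ringChar K ≠ 2 := by rw [ringChar.eq K 3]; norm_num
  obtain ⟨k, hk⟩ := P.odd
  have hodd : Odd (Fintype.card K / 2) :=
    ⟨3 * (k ^ 2 + k), by rw [P.card, hk, show 3 * (2 * k + 1) ^ 2
      = 2 * (2 * (3 * (k ^ 2 + k)) + 1) + 1 by ring]; omega⟩
  rcases FiniteField.pow_dichotomy h2 (Units.ne_zero y) with h | h
  · obtain ⟨z, hz⟩ := (FiniteField.unit_isSquare_iff h2 y).2 (Units.ext (by simpa using h))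
    exact ⟨z, Or.inl (by rw [hz, sq])⟩
  · obtain ⟨z, hz⟩ := (FiniteField.unit_isSquare_iff h2 (-y)).2 (Units.ext (by
      rw [Units.val_pow_eq_pow_val, Units.val_neg, hodd.neg_pow, h, neg_neg, Units.val_one]))
    exact ⟨z, Or.inr (by rw [sq, ← hz, neg_neg])⟩

theorem H_mem (h : ↥(chevG2.group K)) (hh : h ∈ (Q K).sys.H) (hf : P.endo.σ h = h) :
    h ∈ P.TG := by
  obtain ⟨y, rfl⟩ := P.exists_hp hh hf
  obtain ⟨z, rfl | rfl⟩ := P.units_dichotomy y
  · exact P.sq_mem z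
  · rw [neg_eq_neg_one_mul, map_mul]
    exact mul_mem P.neg_one_mem (P.sq_mem z)

end Par

end Cfsg.Agent.H38.Ree
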