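import Cfsg.Agent.H38.Ree.Basic

/-!
`U` of `G₂(K)` in characteristic three: coordinates, multiplication, fixed elements.
-/
set_option autoImplicit false
set_option maxRecDepth 100000

namespace Cfsg.Agent.H38.Ree

open Cfsg.Lie Cfsg.Agent.H37.RootSys Cfsg.Agent.H37.Twist

variable {K : Type*} [Field K]

/-- A root element of the group. -/
abbrev xe (r : ℕ) (t : K) : ↥(chevG2.group K) := xG (Q K).K K r t

/-- The element with coordinates `a b c d g h` at the roots 6, …, 11. -/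
def N (a b c d g h : K) : ↥(chevG2.group K) :=
  xe 6 a * xe 7 b * xe 8 c * xe 9 d * xe 10 g * xe 11 h

theorem xe_add {r : ℕ} (hr : r < 12) (s t : K) : xe r s * xe r t = xe r (s + t) :=
  ((Q K).sys.x_add' r hr s t).symm

theorem xe_zero {r : ℕ} (hr : r < 12) : xe r (0 : K) = 1 := (Q K).sys.x_zero' hr

/-- The commutator relation with its terms read off the table. -/
theorem comm_terms {r s : ℕ} (hr : r < 12) (hs : s < 12) (h1 : s ≠ r) (h2 : s ≠ chevG2.neg r)
    {L : List (ℕ × ℤ × ℕ × ℕ)} (hL : chevG2.commTerms r s = L) (t u : K) :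
    xe s u * xe r t = xe r t * xe s u *
      (L.map fun c => xe c.1 ((c.2.1 : K) * (-t) ^ c.2.2.1 * u ^ c.2.2.2)).prod := by
  refine Subtype.ext ?_
  simp only [Subgroup.coe_mul, SubmonoidClass.coe_list_prod, List.map_map]
  change (Q K).K.xU K s u * (Q K).K.xU K r t = _
  rw [(Q K).K.xU_comm K hr hs h1 h2, ← hL, ChevalleyDatum.commWord, Chevalley.Cert.wU,
    List.map_map]
  rfl

theorem comm_none {r s : ℕ} (hr : r < 12) (hs : s < 12) (h1 : s ≠ r) (h2 : s ≠ chevG2.neg r)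
    (hL : chevG2.commTerms r s = []) (t u : K) :
    xe s u * xe r t = xe r t * xe s u := by
  rw [comm_terms hr hs h1 h2 hL, List.map_nil, List.prod_nil, mul_one]

theorem c6_11 (t u : K) : xe 11 u * xe 6 t = xe 6 t * xe 11 u :=
  comm_none (by omega) (by omega) (by omega) (by decide +kernel) (by decide +kernel) t u
theorem c6_9 (t u : K) : xe 9 u * xe 6 t = xe 6 t * xe 9 u :=
  comm_none (by omega) (by omega) (by omega) (by decide +kernel) (by decide +kernel) t u
theorem c6_8 (t u : K) : xe 8 u * xe 6 t = xe 6 t * xe 8 u :=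
  comm_none (by omega) (by omega) (by omega) (by decide +kernel) (by decide +kernel) t u
theorem c7_11 (t u : K) : xe 11 u * xe 7 t = xe 7 t * xe 11 u :=
  comm_none (by omega) (by omega) (by omega) (by decide +kernel) (by decide +kernel) t u
theorem c7_10 (t u : K) : xe 10 u * xe 7 t = xe 7 t * xe 10 u :=
  comm_none (by omega) (by omega) (by omega) (by decide +kernel) (by decide +kernel) t u
theorem c8_11 (t u : K) : xe 11 u * xe 8 t = xe 8 t * xe 11 u :=
  comm_none (by omega) (by omega) (by omega) (by decide +kernel) (by decide +kernel) t u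
theorem c8_10 (t u : K) : xe 10 u * xe 8 t = xe 8 t * xe 10 u :=
  comm_none (by omega) (by omega) (by omega) (by decide +kernel) (by decide +kernel) t u
theorem c9_11 (t u : K) : xe 11 u * xe 9 t = xe 9 t * xe 11 u :=
  comm_none (by omega) (by omega) (by omega) (by decide +kernel) (by decide +kernel) t u
theorem c9_10 (t u : K) : xe 10 u * xe 9 t = xe 9 t * xe 10 u :=
  comm_none (by omega) (by omega) (by omega) (by decide +kernel) (by decide +kernel) t u
theorem c10_11 (t u : K) : xe 11 u * xe 10 t = xe 10 t * xe 11 u :=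
  comm_none (by omega) (by omega) (by omega) (by decide +kernel) (by decide +kernel) t u

section char3

variable [Fintype K] (P : Par K)
include P

theorem c7_9 (t u : K) : xe 9 u * xe 7 t = xe 7 t * xe 9 u := by
  rw [comm_terms (L := [(10, 3, 1, 1)])
    (by omega) (by omega) (by omega) (by decide +kernel) (by decide +kernel) t u]
  simp [P.three_eq, xe_zero]

theorem c8_9 (t u : K) : xe 9 u * xe 8 t = xe 8 t * xe 9 u := by
  rw [comm_terms (L := [(11, 3, 1, 1)])
    (by omega) (by omega) (by omega) (by decide +kernel) (by decide +kernel) t u]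
  simp [P.three_eq, xe_zero]

theorem r67 (t u : K) : xe 7 u * xe 6 t = xe 6 t * xe 7 u *
    (xe 8 (-(t * u)) * xe 9 (-(t * u ^ 2)) * xe 10 (t * u ^ 3) * xe 11 (t ^ 2 * u ^ 3)) := by
  rw [comm_terms (L := [(8, 1, 1, 1), (9, 1, 1, 2), (10, -1, 1, 3), (11, -2, 2, 3)])
    (by omega) (by omega) (by omega) (by decide +kernel) (by decide +kernel) t u]
  simp only [List.map_cons, List.map_nil, List.prod_cons, List.prod_nil, mul_one, mul_assoc]
  push_cast
  rw [show (1 : K) * ((-t) ^ 1 * u ^ 1) = -(t * u) by ring,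
    show (1 : K) * ((-t) ^ 1 * u ^ 2) = -(t * u ^ 2) by ring,
    show (-1 : K) * ((-t) ^ 1 * u ^ 3) = t * u ^ 3 by ring,
    show (-2 : K) * ((-t) ^ 2 * u ^ 3) = t ^ 2 * u ^ 3 by
      linear_combination (-(t ^ 2 * u ^ 3)) * P.three_eq]

theorem r78 (t u : K) : xe 8 u * xe 7 t = xe 7 t * xe 8 u * xe 9 (-(t * u)) := by
  rw [comm_terms (L := [(9, -2, 1, 1), (10, -3, 2, 1), (11, 3, 1, 2)])
    (by omega) (by omega) (by omega) (by decide +kernel) (by decide +kernel) t u]
  simp [P.three_eq, P.two_eq, xe_zero, mul_assoc]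

theorem r6_10 (t u : K) : xe 10 u * xe 6 t = xe 6 t * xe 10 u * xe 11 (-(t * u)) := by
  rw [comm_terms (L := [(11, 1, 1, 1)])
    (by omega) (by omega) (by omega) (by decide +kernel) (by decide +kernel) t u]
  simp

omit P [Fintype K] in
theorem mul11 (a b c d g h s : K) : N a b c d g h * xe 11 s = N a b c d g (h + s) := by
  rw [N, N, mul_assoc _ (xe 11 h), xe_add (by omega)]

omit P [Fintype K] in
theorem mul10 (a b c d g h s : K) : N a b c d g h * xe 10 s = N a b c d (g + s) h := by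
  rw [N, N, mul_assoc _ (xe 11 h), c10_11, ← mul_assoc, mul_assoc _ (xe 10 g),
    xe_add (by omega)]

omit P [Fintype K] in
theorem mul9 (a b c d g h s : K) : N a b c d g h * xe 9 s = N a b c (d + s) g h := by
  rw [N, N, mul_assoc _ (xe 11 h), c9_11, ← mul_assoc, mul_assoc _ (xe 10 g), c9_10,
    ← mul_assoc, mul_assoc _ (xe 9 d), xe_add (by omega)]

theorem mul8 (a b c d g h s : K) : N a b c d g h * xe 8 s = N a b (c + s) d g h := by
  rw [N, N, mul_assoc _ (xe 11 h), c8_11, ← mul_assoc, mul_assoc _ (xe 10 g), c8_10,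
    ← mul_assoc, mul_assoc _ (xe 9 d), c8_9 P, ← mul_assoc, mul_assoc _ (xe 8 c),
    xe_add (by omega)]

theorem mul7 (a b c d g h s : K) :
    N a b c d g h * xe 7 s = N a (b + s) c (d - s * c) g h := by
  calc N a b c d g h * xe 7 s
      = xe 6 a * xe 7 b * xe 8 c * xe 7 s * xe 9 d * xe 10 g * xe 11 h := by
        rw [N, mul_assoc _ (xe 11 h), c7_11, ← mul_assoc, mul_assoc _ (xe 10 g), c7_10,
          ← mul_assoc, mul_assoc _ (xe 9 d), c7_9 P, ← mul_assoc]
    _ = xe 6 a * (xe 7 b * xe 7 s) * xe 8 c * (xe 9 (-(s * c)) * xe 9 d) * xe 10 g *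
          xe 11 h := by
        rw [mul_assoc _ (xe 8 c) (xe 7 s), r78 P]; group
    _ = _ := by rw [xe_add (by omega), xe_add (by omega), N,
          show -(s * c) + d = d - s * c by ring]

theorem mul6 (a b c d g h s : K) : N a b c d g h * xe 6 s =
    N (a + s) b (c - s * b) (d - s * b ^ 2) (g + s * b ^ 3)
      (h - s * g + s ^ 2 * b ^ 3) := by
  have h1 : N a b c d g h * xe 6 s
      = N (a + s) b (-(s * b)) (-(s * b ^ 2)) (s * b ^ 3) (s ^ 2 * b ^ 3)
        * xe 8 c * xe 9 d * xe 10 g * xe 11 (-(s * g)) * xe 11 h := by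
    have e : xe 8 c * xe 9 d * xe 10 g * xe 11 h * xe 6 s
        = xe 6 s * xe 8 c * xe 9 d * xe 10 g * xe 11 (-(s * g)) * xe 11 h := by
      rw [mul_assoc _ (xe 11 h), c6_11, ← mul_assoc, mul_assoc _ (xe 10 g), r6_10 P,
        ← mul_assoc, ← mul_assoc, mul_assoc _ (xe 9 d), c6_9, ← mul_assoc, c6_8]
    calc N a b c d g h * xe 6 s
        = xe 6 a * xe 7 b * (xe 8 c * xe 9 d * xe 10 g * xe 11 h * xe 6 s) := by
          rw [N]; group
      _ = xe 6 a * (xe 7 b * xe 6 s) * (xe 8 c * xe 9 d * xe 10 g * xe 11 (-(s * g)) *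
            xe 11 h) := by rw [e]; group
      _ = xe 6 a * xe 6 s * xe 7 b * (xe 8 (-(s * b)) * xe 9 (-(s * b ^ 2)) *
            xe 10 (s * b ^ 3) * xe 11 (s ^ 2 * b ^ 3)) *
          (xe 8 c * xe 9 d * xe 10 g * xe 11 (-(s * g)) * xe 11 h) := by rw [r67 P]; group
      _ = _ := by rw [xe_add (by omega), N]; group
  rw [h1, mul8 P, mul9, mul10, mul11, mul11]
  congr 1 <;> ring

/-- Multiplication in coordinates. -/
theorem N_mul (a b c d g h a' b' c' d' g' h' : K) :
    N a b c d g h * N a' b' c' d' g' h' =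
      N (a + a') (b + b') (c - a' * b + c') (d - a' * b ^ 2 - b' * (c - a' * b) + d')
        (g + a' * b ^ 3 + g') (h - a' * g + a' ^ 2 * b ^ 3 + h') := by
  conv_lhs => rw [N.eq_def a']
  rw [← mul_assoc, ← mul_assoc, ← mul_assoc, ← mul_assoc, ← mul_assoc, mul6 P, mul7 P, mul8 P,
    mul9, mul10, mul11]

theorem x7_x6 (b a : K) : xe 7 b * xe 6 a =
    N a b (-(a * b)) (-(a * b ^ 2)) (a * b ^ 3) (a ^ 2 * b ^ 3) := by
  rw [r67 P, N]; group

end char3

/-! Coordinates. -/

theorem posSet_list : ([6, 7, 8, 9, 10, 11] : List ℕ).toFinset = (Q K).sys.toUnip.P := by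
  show _ = posSet chevG2
  decide +kernel

theorem N_mem (a b c d g h : K) : N a b c d g h ∈ (Q K).sys.U := by
  have : ∀ r, 6 ≤ r → r < 12 → ∀ t, xe (K := K) r t ∈ (Q K).sys.U := fun r h1 h2 t =>
    x_mem_XS (Finset.mem_coe.2 (mem_posSet.2 ⟨h2, h1⟩)) t
  unfold N
  refine mul_mem (mul_mem (mul_mem (mul_mem (mul_mem ?_ ?_) ?_) ?_) ?_) ?_ <;>
    exact this _ (by omega) (by omega) _

theorem xprod_eq (t : ℕ → K) :
    xprod (Q K) [6, 7, 8, 9, 10, 11] t = N (t 6) (t 7) (t 8) (t 9) (t 10) (t 11) := by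
  simp [xprod, N, mul_assoc]

theorem exists_N {v : ↥(chevG2.group K)} (hv : v ∈ (Q K).sys.U) :
    ∃ a b c d g h, v = N a b c d g h := by
  have hv' : v ∈ XS (Q K).sys.x (↑(Q K).sys.toUnip.P : Set ℕ) := hv
  rw [← posSet_list] at hv'
  obtain ⟨t, rfl⟩ := exists_xprod (Q K) (L := [6, 7, 8, 9, 10, 11]) (by decide)
    (posSet_list (K := K) ▸ (Q K).sys.toUnip.closed_P) hv'
  exact ⟨_, _, _, _, _, _, xprod_eq t⟩

theorem N_inj {a b c d g h a' b' c' d' g' h' : K} (e : N a b c d g h = N a' b' c' d' g' h') :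
    a = a' ∧ b = b' ∧ c = c' ∧ d = d' ∧ g = g' ∧ h = h' := by
  let t : ℕ → K := fun r => [a, b, c, d, g, h].getD (r - 6) 0
  let t' : ℕ → K := fun r => [a', b', c', d', g', h'].getD (r - 6) 0
  have e' : xprod (Q K) [6, 7, 8, 9, 10, 11] t = xprod (Q K) [6, 7, 8, 9, 10, 11] t' := by
    rw [xprod_eq, xprod_eq]; exact e
  have := xprod_inj (Q K) (by decide) (posSet_list (K := K) ▸ (Q K).sys.toUnip.closed_P) e'
  exact ⟨this 6 (by simp), this 7 (by simp), this 8 (by simp), this 9 (by simp),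
    this 10 (by simp), this 11 (by simp)⟩

theorem N_zero : N (0 : K) 0 0 0 0 0 = 1 := by simp [N, xe_zero]

/-! The fixed elements. -/

namespace Par

variable [Fintype K] (P : Par K)
include P

/-- The fixed element with parameters `a c d`. -/
def U1 (a c d : K) : ↥(chevG2.group K) :=
  N a (P.th a) c d (P.ti c + a * P.ti a) (P.ti d + a ^ 2 * P.ti a)

theorem σ_N (a b c d g h : K) : P.endo.σ (N a b c d g h) =
    N (P.ti b) (P.th a) (-(P.ti b * P.th a) + P.th g) (-(P.ti b * P.th a ^ 2) + P.th h)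
      (P.ti b * P.th a ^ 3 + P.ti c) (P.ti b ^ 2 * P.th a ^ 3 + P.ti d) := by
  have hf : ∀ (r : ℕ) (x : K), H37.Isog.dataG2.lm r = 3 → P.f r x = P.ti x := fun r x hr => by
    rw [f, hr, ← pow_mul, mul_comm, ti]
  have hf' : ∀ (r : ℕ) (x : K), H37.Isog.dataG2.lm r = 1 → P.f r x = P.th x := fun r x hr => by
    rw [f, hr, pow_one, th]
  have h6 : tables.rh 6 = 7 := by decide
  have h7 : tables.rh 7 = 6 := by decide
  have h8 : tables.rh 8 = 10 := by decide
  have h9 : tables.rh 9 = 11 := by decide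
  have h10 : tables.rh 10 = 8 := by decide
  have h11 : tables.rh 11 = 9 := by decide
  rw [N]
  simp only [map_mul, P.σ_x (show 6 < 12 by omega), P.σ_x (show 7 < 12 by omega),
    P.σ_x (show 8 < 12 by omega), P.σ_x (show 9 < 12 by omega),
    P.σ_x (show 10 < 12 by omega), P.σ_x (show 11 < 12 by omega),
    h6, h7, h8, h9, h10, h11, hf' 6 a (by decide), hf 7 b (by decide), hf 8 c (by decide),
    hf 9 d (by decide), hf' 10 g (by decide), hf' 11 h (by decide)]
  rw [x7_x6 P, mul10, mul11, mul8 P, mul9]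

theorem σ_U1 (a c d : K) : P.endo.σ (P.U1 a c d) = P.U1 a c d := by
  have em : ∀ x y : K, P.th (x * y) = P.th x * P.th y := fun x y => mul_pow ..
  have ep : ∀ (x : K) n, P.th (x ^ n) = P.th x ^ n := fun x n => by
    rw [th, th, ← pow_mul, ← pow_mul, mul_comm]
  have e3 : ∀ x : K, P.th x ^ 3 = P.ti x := fun x => by rw [th, ti, ← pow_mul, mul_comm]
  simp only [U1, σ_N, P.ti_th, P.th_add, em, P.th_ti]
  rw [ep a 2, e3]
  congr 1 <;> ring

theorem fixed_iff {v : ↥(chevG2.group K)} (hv : v ∈ (Q K).sys.U) :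
    P.endo.σ v = v ↔ ∃ a c d, v = P.U1 a c d := by
  refine ⟨fun h => ?_, fun ⟨a, c, d, e⟩ => e ▸ P.σ_U1 a c d⟩
  obtain ⟨a, b, c, d, g, h', rfl⟩ := exists_N hv
  rw [σ_N] at h
  obtain ⟨e1, e2, -, -, e5, e6⟩ := N_inj h
  refine ⟨a, c, d, ?_⟩
  rw [e1] at e5 e6
  rw [U1, ← e5, ← e6, ← e2]
  simp only [th, ti, ← pow_mul]
  congr 1 <;> ring

theorem U1_mem (a c d : K) : P.U1 a c d ∈ (Q K).sys.U := N_mem a _ c d _ _

theorem U1_inj {a c d a' c' d' : K} (e : P.U1 a c d = P.U1 a' c' d') :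
    a = a' ∧ c = c' ∧ d = d' := by
  obtain ⟨h1, -, h3, h4, -, -⟩ := N_inj e
  exact ⟨h1, h3, h4⟩

theorem U1_zero : P.U1 0 0 0 = 1 := by
  rw [U1, P.th_zero, P.ti_zero]; simpa using N_zero

/-- Multiplication of fixed elements. -/
theorem U1_mul (a c d a' c' d' : K) : P.U1 a c d * P.U1 a' c' d' =
    P.U1 (a + a') (c - a' * P.th a + c')
      (d - a' * P.th a ^ 2 - P.th a' * (c - a' * P.th a) + d') := by
  have hf : P.endo.σ (P.U1 a c d * P.U1 a' c' d') = P.U1 a c d * P.U1 a' c' d' := by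
    rw [map_mul, σ_U1, σ_U1]
  obtain ⟨x, y, z, e⟩ := (P.fixed_iff (mul_mem (P.U1_mem a c d) (P.U1_mem a' c' d'))).1 hf
  rw [e]
  simp only [U1, N_mul P] at e
  obtain ⟨e1, -, e3, e4, -, -⟩ := N_inj e
  rw [← e1, ← e3, ← e4]

theorem U1_eq_one_iff {a c d : K} : P.U1 a c d = 1 ↔ a = 0 ∧ c = 0 ∧ d = 0 := by
  refine ⟨fun h => P.U1_inj (h.trans P.U1_zero.symm), ?_⟩
  rintro ⟨rfl, rfl, rfl⟩
  exact P.U1_zero

end Par

end Cfsg.Agent.H38.Ree
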